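import Cfsg.Agent.OddOrderCharacters.PFDefs
import Cfsg.Agent.OddOrderCharacters.PF3bBasic
import Cfsg.Agent.OddOrderCharacters.Galois
import Cfsg.Agent.OddOrderCharacters.IndRes
import Cfsg.Agent.OddOrderCharacters.PF4b.TIFam
import Cfsg.Agent.Characters.DegreeBounds
import Cfsg.Agent.Characters.Linear
import Cfsg.Agent.Lib.PGroupCoprimeAction
import Cfsg.Agent.OddOrderCharacters.NilpotentIndex
import Cfsg.Agent.OddOrderCharacters.PF10.Defs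
import Cfsg.Agent.OddOrderCharacters.PF9.GaloisClifford
import Cfsg.Prelude.Def_OddOrderLocal

/-!
# Peterfalvi (10.2), (10.3)
-/

set_option autoImplicit false

open Cfsg
open scoped ComplexConjugate commutatorElement
open Cfsg.Agent.OddOrderCharacters.PFDefs Cfsg.Agent.OddOrderCharacters.Galois
  Cfsg.Agent.OddOrderCharacters.PF3bBasic

namespace Cfsg.Agent.OddOrderCharacters.PF10.Setup

variable {G : Type*} [Group G] [Fintype G]

/-- The degree of an irreducible character divides the order of the group. -/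
theorem isIrr_apply_one_dvd {L : Type*} [Group L] [Finite L] {χ : L → ℂ}
    (hχ : IsIrrCharacter L χ) : ∃ d : ℕ, 0 < d ∧ χ 1 = d ∧ d ∣ Nat.card L := by
  obtain ⟨n, hn, h1⟩ := Cfsg.Agent.Characters.Core.isIrr_apply_one hχ
  refine ⟨n, hn, h1, ?_⟩
  obtain ⟨m, ρ, hρ, rfl⟩ := hχ
  have := hρ
  have h2 := Cfsg.Agent.Characters.DegreeBounds.finrank_dvd_card ρ
  rw [Representation.char_one] at h1
  have h3 : Module.finrank ℂ (Fin m → ℂ) = n := by exact_mod_cast h1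
  rwa [h3] at h2

section constants

variable {L K W W₁ W₂ : Subgroup G} [Fintype ↥L] {μ : (↥W →* ℂˣ) → (↥L → ℂ)}
  {δ : (↥W →* ℂˣ) → ℤ}

omit [Fintype G] in
/-- A homomorphism to `ℂˣ` kills commutators. -/
theorem hom_commutator {K : Subgroup G} (f : ↥K →* ℂˣ) {x : G} (hx : x ∈ ⁅K, K⁆) (hxK : x ∈ K) :
    f ⟨x, hxK⟩ = 1 := by
  have h1 : ⁅K, K⁆ ≤ (f.ker).map K.subtype := by
    rw [Subgroup.commutator_le]
    intro a ha b hb
    refine ⟨⁅(⟨a, ha⟩ : ↥K), (⟨b, hb⟩ : ↥K)⁆, ?_, rfl⟩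
    show f _ = 1
    rw [map_commutatorElement, commutatorElement_eq_one_iff_mul_comm, mul_comm]
  obtain ⟨y, hy, hyx⟩ := h1 hx
  have h2 : y = ⟨x, hxK⟩ := Subtype.ext hyx
  rw [← h2]
  exact hy

/-- `μ_ij` is not linear for `j ≠ 0`, when `W₂ ≤ K'`. -/
theorem mu_apply_one_ne_one (h : PrimeTIHyp L K W W₁ W₂) (hμ : PrimeTIFam L K W W₁ W₂ μ δ)
    (hW₂ : W₂ ≤ ⁅K, K⁆) {ω : ↥W →* ℂˣ} (hω : ω ∉ lin₁ W W₂) : μ ω 1 ≠ 1 := by
  intro h1
  obtain ⟨f, hf⟩ := Cfsg.Agent.Characters.Linear.exists_hom_of_isIrrCharacter (hμ.irr ω) h1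
  have hW₁W : W₁ ≤ W := h.sup_eq ▸ le_sup_left
  have hW₂W : W₂ ≤ W := h.sup_eq ▸ le_sup_right
  have hWL : W ≤ L := by
    rw [← h.sup_eq]
    exact sup_le (h.sup_L ▸ le_sup_right) (h.W₂_le.trans h.le)
  rw [mem_lin₁] at hω
  push Not at hω
  obtain ⟨⟨b, hbW⟩, hb2, hb⟩ := hω
  obtain ⟨a, ha, ha1⟩ := (Subgroup.bot_or_exists_ne_one W₁).resolve_left h.W₁_ne
  have hbL : b ∈ L := hWL hbW
  have haL : a ∈ L := hWL (hW₁W ha)
  have hK' : ⁅K, K⁆ ≤ ⁅L, L⁆ := Subgroup.commutator_mono h.le h.le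
  have hfb : f ⟨b, hbL⟩ = 1 := hom_commutator f (hK' (hW₂ hb2)) hbL
  have ha2 : a ∉ W₂ := by
    intro ha2
    apply ha1
    have : a ∈ K ⊓ W₁ := ⟨h.W₂_le ha2, ha⟩
    rwa [h.inf_eq, Subgroup.mem_bot] at this
  have hab2 : a * b ∉ W₂ := fun hab => ha2 ((W₂.mul_mem_cancel_right hb2).1 hab)
  have e1 := hμ.eq_on ω ⟨a, hW₁W ha⟩ haL ha2
  have e2 := hμ.eq_on ω (⟨a, hW₁W ha⟩ * ⟨b, hbW⟩) (L.mul_mem haL hbL) hab2
  have e3 : μ ω ⟨a * b, L.mul_mem haL hbL⟩ = μ ω ⟨a, haL⟩ := by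
    rw [hf]
    show (f (⟨a, haL⟩ * ⟨b, hbL⟩) : ℂ) = f ⟨a, haL⟩
    rw [map_mul, hfb, mul_one]
  have e4 : μ ω ⟨((⟨a, hW₁W ha⟩ * ⟨b, hbW⟩ : ↥W) : G), L.mul_mem haL hbL⟩ =
      μ ω ⟨((⟨a, hW₁W ha⟩ : ↥W) : G), haL⟩ := e3
  rw [e1, e2, map_mul, Units.val_mul] at e4
  have hδ : (δ ω : ℂ) ≠ 0 := by
    rcases hμ.sign ω with h | h <;> rw [h] <;> norm_num
  have e5 := mul_left_cancel₀ hδ e4
  have e6 : (ω ⟨b, hbW⟩ : ℂ) = 1 := by
    have h0 : (ω ⟨a, hW₁W ha⟩ : ℂ) ≠ 0 := Units.ne_zero _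
    exact mul_left_cancel₀ h0 (e5.trans (mul_one _).symm)
  exact hb (Units.ext e6)

/-- Values of a linear character of `W` trivial on `W₁` are `#W₂`-th roots of unity. -/
theorem pow_card₂ (hW : CyclicTIHyp W W₁ W₂) {ψ : ↥W →* ℂˣ} (hψ : ψ ∈ lin₁ W W₁) :
    ψ ^ Nat.card W₂ = 1 := by
  have h1 := natCard_lin₁Sub (hyp_symm hW)
  have h2 := pow_card_eq_one' (x := (⟨ψ, hψ⟩ : lin₁Sub W W₁))
  rw [h1] at h2
  exact congrArg Subtype.val h2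

/-- Peterfalvi (10.3). -/
theorem exists_constants (h : PrimeTIHyp L K W W₁ W₂) (hW : CyclicTIHyp W W₁ W₂)
    (hμ : PrimeTIFam L K W W₁ W₂ μ δ) (hodd : Odd (Nat.card L)) (hp : (Nat.card W₂).Prime)
    (hW₂ : W₂ ≤ ⁅K, K⁆) :
    ∃ (d : ℕ) (e n : ℤ), (∀ ω, ω ∉ lin₁ W W₂ → μ ω 1 = (d : ℂ)) ∧
      (∀ ω, ω ∉ lin₁ W W₂ → δ ω = e) ∧ 1 < d ∧ Odd d ∧ (e = 1 ∨ e = -1) ∧ 0 < n ∧
      n * (Nat.card W₁ : ℤ) = d - e := by
  -- a nontrivial linear character of `W` trivial on `W₁`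
  obtain ⟨ψ₀, hψ₀, hψ₀1⟩ : ∃ ψ ∈ lin₁ W W₁, ψ ≠ 1 := by
    obtain ⟨b, hb, hb1⟩ := (Subgroup.bot_or_exists_ne_one W₂).resolve_left (ne₂ hW)
    obtain ⟨ψ, hψ, hψb⟩ := exists_lin₁_ne_one hW W₁ (w := ⟨b, le₂ hW hb⟩)
      (fun hb' => hb1 (eq_one_of_mem hW hb' hb))
    refine ⟨ψ, hψ, ?_⟩
    rintro rfl
    exact hψb rfl
  have hψ₀' : ψ₀ ∉ lin₁ W W₂ := fun h2 => hψ₀1 (eq_one_of_mem_lin hW hψ₀ h2)
  have key : ∀ ω, ω ∉ lin₁ W W₂ → μ ω 1 = μ ψ₀ 1 ∧ δ ω = δ ψ₀ := by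
    intro ω hω
    obtain ⟨φ, hφ, ψ, hψ, rfl⟩ := exists_mul_eq hW ω
    have hψ1 : ψ ≠ 1 := by
      rintro rfl
      have e0 : φ * 1 = φ := mul_one φ
      exact hω (e0.symm ▸ hφ)
    have hagree : ∀ w : ↥W, (w : G) ∈ W₂ → (φ * ψ) w = ψ w := by
      intro w hw
      rw [MonoidHom.mul_apply, hφ w hw, one_mul]
    have e1 : μ (φ * ψ) 1 = μ ψ 1 :=
      hμ.restrict_congr _ _ hagree 1 K.one_mem
    have e2 : δ (φ * ψ) = δ ψ := hμ.sign_congr _ _ hagree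
    -- `ψ` is a power of `ψ₀`
    have hcard := natCard_lin₁Sub (hyp_symm hW)
    have : Fact (Nat.card W₂).Prime := ⟨hp⟩
    have hmem : (⟨ψ, hψ⟩ : lin₁Sub W W₁) ∈ Subgroup.zpowers (⟨ψ₀, hψ₀⟩ : lin₁Sub W W₁) := by
      refine mem_zpowers_of_prime_card hcard ?_
      intro h0
      exact hψ₀1 (congrArg Subtype.val h0)
    have hfin := finite_hom hW
    obtain ⟨k, hk⟩ := (mem_powers_iff_mem_zpowers.2 hmem)
    have hk : ψ₀ ^ k = ψ := congrArg Subtype.val hk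
    have hkcop : k.Coprime (Nat.card W₂) := by
      rw [Nat.coprime_comm, hp.coprime_iff_not_dvd]
      intro hdvd
      obtain ⟨m, rfl⟩ := hdvd
      apply hψ1
      have e0 : ψ₀ ^ (Nat.card W₂ * m) = (ψ₀ ^ Nat.card W₂) ^ m := pow_mul ψ₀ _ _
      rw [← hk, e0, pow_card₂ hW hψ₀]
      ext w
      simp
    obtain ⟨σ, hσ⟩ := Cfsg.Agent.Characters.Galois.exists_ringEquiv_complex hp.ne_zero hkcop
    have hσψ : (Units.map (σ : ℂ →* ℂ)).comp ψ₀ = ψ := by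
      rw [← hk]
      ext w
      show σ (ψ₀ w : ℂ) = (((ψ₀ ^ k) w : ℂˣ) : ℂ)
      rw [MonoidHom.pow_apply, Units.val_pow_eq_pow_val]
      apply hσ
      rw [← Units.val_pow_eq_pow_val, ← MonoidHom.pow_apply, pow_card₂ hW hψ₀]
      rfl
    obtain ⟨e3, e4⟩ := PF4b.TIFam.mu_gal h hμ σ ψ₀
    rw [hσψ] at e3 e4
    rw [e1, e2, ← e3, e4]
    exact ⟨gal_apply_one σ (VChar.gen_of_irr (hμ.irr ψ₀)), rfl⟩
  obtain ⟨d, hd0, hd, hdvd⟩ := isIrr_apply_one_dvd (hμ.irr ψ₀)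
  obtain ⟨n, hn⟩ := hμ.degree ψ₀
  have hd1 : 1 < d := by
    have : d ≠ 1 := by
      rintro rfl
      exact mu_apply_one_ne_one h hμ hW₂ hψ₀' (by rw [hd]; norm_num)
    omega
  have hdn : n * (Nat.card W₁ : ℤ) = d - δ ψ₀ := by
    rw [hd] at hn
    have : ((n * (Nat.card W₁ : ℤ) : ℤ) : ℂ) = (((d : ℤ) - δ ψ₀ : ℤ) : ℂ) := by
      push_cast
      exact hn.symm
    exact_mod_cast this
  refine ⟨d, δ ψ₀, n, fun ω hω => by rw [(key ω hω).1, hd], fun ω hω => (key ω hω).2, hd1,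
    hodd.of_dvd_nat hdvd, hμ.sign ψ₀, ?_, hdn⟩
  have h0 : (0 : ℤ) < Nat.card W₁ := by exact_mod_cast Nat.card_pos
  have h1 : 0 < n * (Nat.card W₁ : ℤ) := by
    rw [hdn]
    rcases hμ.sign ψ₀ with h | h <;> rw [h] <;> omega
  exact pos_of_mul_pos_left h1 h0.le

end constants

section frobenius

variable {L K W W₁ W₂ : Subgroup G}

omit [Fintype G] in
theorem exists_mul_of_mem_sup {A B : Subgroup G} (hAB : B ≤ Subgroup.normalizer (A : Set G)) {x : G}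
    (hx : x ∈ A ⊔ B) : ∃ a ∈ A, ∃ b ∈ B, a * b = x := by
  rw [← SetLike.mem_coe, Subgroup.coe_mul_of_right_le_normalizer_left A B hAB] at hx
  exact Set.mem_mul.1 hx

omit [Fintype G] in
theorem le_normalizer (h : PrimeTIHyp L K W W₁ W₂) : L ≤ Subgroup.normalizer (K : Set G) := by
  intro w hwL
  rw [Subgroup.mem_normalizer_iff]
  intro y
  refine ⟨fun hy => h.normal w hwL y hy, fun hy => ?_⟩
  have := h.normal w⁻¹ (L.inv_mem hwL) _ hy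
  have e : w⁻¹ * (w * y * w⁻¹) * w⁻¹⁻¹ = y := by group
  rwa [e] at this

omit [Fintype G] in
theorem conj_commutator_mem (h : PrimeTIHyp L K W W₁ W₂) {x y : G} (hx : x ∈ L)
    (hy : y ∈ ⁅K, K⁆) : x * y * x⁻¹ ∈ ⁅K, K⁆ := by
  have hmap : K.map (MulAut.conj x).toMonoidHom ≤ K := by
    rintro _ ⟨k, hk, rfl⟩
    exact h.normal x hx k hk
  have h1 : (⁅K, K⁆).map (MulAut.conj x).toMonoidHom ≤ ⁅K, K⁆ := by
    rw [Subgroup.map_commutator]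
    exact Subgroup.commutator_mono hmap hmap
  exact h1 ⟨y, hy, rfl⟩

omit [Fintype G] in
theorem commutator_self_le (K : Subgroup G) : ⁅K, K⁆ ≤ K := by
  rw [Subgroup.commutator_le]
  intro a ha b hb
  rw [commutatorElement_def]
  exact K.mul_mem (K.mul_mem (K.mul_mem ha hb) (K.inv_mem ha)) (K.inv_mem hb)

omit [Fintype G] in
theorem card_eq_mul (h : PrimeTIHyp L K W W₁ W₂) :
    Nat.card L = Nat.card K * Nat.card W₁ ∧ W₁.relIndex L = Nat.card K ∧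
      K.relIndex L = Nat.card W₁ := by
  have hW₁L : W₁ ≤ L := h.sup_L ▸ le_sup_right
  have hc : Subgroup.IsComplement' (K.subgroupOf L) (W₁.subgroupOf L) := by
    apply Subgroup.isComplement'_of_disjoint_and_mul_eq_univ
    · rw [disjoint_iff, Subgroup.eq_bot_iff_forall]
      rintro ⟨x, hx⟩ ⟨hx1, hx2⟩
      have : x ∈ K ⊓ W₁ := ⟨hx1, hx2⟩
      rw [h.inf_eq, Subgroup.mem_bot] at this
      exact Subtype.ext this
    · rw [Set.eq_univ_iff_forall]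
      rintro ⟨x, hx⟩
      rw [← h.sup_L] at hx
      obtain ⟨a, ha, b, hb, rfl⟩ := exists_mul_of_mem_sup (hW₁L.trans (le_normalizer h)) hx
      exact ⟨⟨a, h.le ha⟩, ha, ⟨b, hW₁L hb⟩, hb, rfl⟩
  have e1 : Nat.card (K.subgroupOf L) = Nat.card K :=
    Nat.card_congr (Subgroup.subgroupOfEquivOfLe h.le).toEquiv
  have e2 : Nat.card (W₁.subgroupOf L) = Nat.card W₁ :=
    Nat.card_congr (Subgroup.subgroupOfEquivOfLe hW₁L).toEquiv
  refine ⟨?_, ?_, ?_⟩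
  · rw [← hc.card_mul_card, e1, e2]
  · rw [← e1]
    exact hc.index_eq_card
  · rw [← e2]
    exact hc.symm.index_eq_card

/-- `W₁` acts without fixed points on `K / K'` when `W₂ ≤ K'`. -/
theorem fpf_mod (h : PrimeTIHyp L K W W₁ W₂) (hW₂ : W₂ ≤ ⁅K, K⁆) :
    ∀ w ∈ W₁, w ≠ 1 → ∀ x ∈ K, w * x * w⁻¹ * x⁻¹ ∈ ⁅K, K⁆ → x ∈ ⁅K, K⁆ := by
  intro w hw hw1 x hx hwx
  have hL₁ : W₁ ≤ L := h.sup_L ▸ le_sup_right
  -- a power of `w` of prime order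
  obtain ⟨p, hp, hpw⟩ := Nat.exists_prime_and_dvd (n := orderOf w)
    (fun h1 => hw1 (orderOf_eq_one_iff.1 h1))
  have : Fact p.Prime := ⟨hp⟩
  obtain ⟨⟨v, hvw⟩, hv⟩ := exists_prime_orderOf_dvd_card' (G := Subgroup.zpowers w) p
    (by rwa [Nat.card_zpowers])
  rw [← Subgroup.orderOf_coe] at hv
  have hv : orderOf v = p := hv
  have hvW₁ : v ∈ W₁ := (Subgroup.zpowers_le.2 hw) hvw
  have hv1 : v ≠ 1 := by
    rintro rfl
    rw [orderOf_one] at hv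
    exact hp.one_lt.ne hv
  have hpK : ¬ p ∣ Nat.card K := by
    intro hpK
    have hpW : p ∣ Nat.card W₁ := by
      rw [← hv]
      have := orderOf_dvd_natCard (⟨v, hvW₁⟩ : W₁)
      rwa [← Subgroup.orderOf_coe] at this
    have h1 := h.W₁_hall
    rw [(card_eq_mul h).2.1] at h1
    exact Nat.not_coprime_of_dvd_of_dvd hp.one_lt hpW hpK h1
  have hA : IsPGroup p (Subgroup.zpowers v) := by
    apply IsPGroup.of_card (n := 1)
    rw [Nat.card_zpowers, hv, pow_one]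
  have hvL : Subgroup.zpowers v ≤ L := Subgroup.zpowers_le.2 (hL₁ hvW₁)
  -- powers of `w` fix the coset of `x`
  have hfix : ∀ b ∈ Subgroup.zpowers w, x⁻¹ * (b * x * b⁻¹) ∈ ⁅K, K⁆ := by
    let S : Subgroup G :=
      { carrier := {b | b ∈ L ∧ x⁻¹ * (b * x * b⁻¹) ∈ ⁅K, K⁆}
        one_mem' := ⟨L.one_mem, by simp⟩
        mul_mem' := by
          rintro a b ⟨ha, ha'⟩ ⟨hb, hb'⟩
          refine ⟨L.mul_mem ha hb, ?_⟩
          have e : x⁻¹ * (a * b * x * (a * b)⁻¹) =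
              (x⁻¹ * (a * x * a⁻¹)) * (a * (x⁻¹ * (b * x * b⁻¹)) * a⁻¹) := by group
          rw [e]
          exact Subgroup.mul_mem _ ha' (conj_commutator_mem h ha hb')
        inv_mem' := by
          rintro a ⟨ha, ha'⟩
          refine ⟨L.inv_mem ha, ?_⟩
          have e : x⁻¹ * (a⁻¹ * x * a⁻¹⁻¹) = a⁻¹ * (x⁻¹ * (a * x * a⁻¹))⁻¹ * a⁻¹⁻¹ := by group
          rw [e]
          exact conj_commutator_mem h (L.inv_mem ha) (Subgroup.inv_mem _ ha') }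
    have hwS : w ∈ S := by
      refine ⟨hL₁ hw, ?_⟩
      have e : x⁻¹ * (w * x * w⁻¹) = x⁻¹ * (w * x * w⁻¹ * x⁻¹) * x⁻¹⁻¹ := by group
      rw [e]
      exact conj_commutator_mem h (L.inv_mem (h.le hx)) hwx
    intro b hb
    exact ((Subgroup.zpowers_le.2 hwS) hb).2
  obtain ⟨c, ⟨hcK, hcc⟩, hc⟩ := Cfsg.Agent.Lib.PGroupCoprimeAction.exists_centralizer_mem_coset
    (A := Subgroup.zpowers v) (H := K) (N := ⁅K, K⁆) hA hpK
    (fun b hb u hu => h.normal b (hvL hb) u hu)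
    (fun b hb u hu => conj_commutator_mem h (hvL hb) hu) hx
    (fun b hb => hfix b ((Subgroup.zpowers_le.2 hvw) hb))
  have hcW₂ : c ∈ W₂ := by
    rw [← h.centralizer_eq v hvW₁ hv1]
    refine ⟨hcK, Subgroup.mem_centralizer_singleton_iff.2 ?_⟩
    exact (Subgroup.mem_centralizer_iff.1 hcc v (Subgroup.mem_zpowers v)).symm
  have h2 := Subgroup.mul_mem _ (hW₂ hcW₂) (Subgroup.inv_mem _ hc)
  have e : c * (x⁻¹ * c)⁻¹ = x := by group
  rwa [e] at h2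

/-- `L / K'` is a Frobenius group with kernel `K / K'`. -/
theorem frob_mod (h : PrimeTIHyp L K W W₁ W₂) (hW₂ : W₂ ≤ ⁅K, K⁆) :
    ∀ k ∈ K, k ∉ ⁅K, K⁆ → ∀ x ∈ L, x * k * x⁻¹ * k⁻¹ ∈ ⁅K, K⁆ → x ∈ K := by
  intro k hk hkK x hx hxk
  by_contra hxK
  rw [← h.sup_L] at hx
  have hnorm : K ≤ L := h.le
  have hW₁L : W₁ ≤ L := h.sup_L ▸ le_sup_right
  obtain ⟨c, hc, w, hw, rfl⟩ := exists_mul_of_mem_sup (hW₁L.trans (le_normalizer h)) hx
  have hw1 : w ≠ 1 := by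
    rintro rfl
    rw [mul_one] at hxK
    exact hxK hc
  apply hkK
  apply fpf_mod h hW₂ w hw hw1 k hk
  have hwL : w ∈ L := hW₁L hw
  have hcomm : ∀ a ∈ K, ∀ b ∈ K, a * b * a⁻¹ * b⁻¹ ∈ ⁅K, K⁆ := fun a ha b hb =>
    Subgroup.commutator_mem_commutator ha hb
  have h1 := hcomm c hc (w * k * w⁻¹) (h.normal w hwL k hk)
  have e : w * k * w⁻¹ * k⁻¹ =
      (c * (w * k * w⁻¹) * c⁻¹ * (w * k * w⁻¹)⁻¹)⁻¹ * (c * w * k * (c * w)⁻¹ * k⁻¹) := by group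
  rw [e]
  exact Subgroup.mul_mem _ (Subgroup.inv_mem _ h1) hxk

/-- `|K : K'| ≥ 2 |W₁| + 1`. -/
theorem two_mul_card_W₁_lt (h : PrimeTIHyp L K W W₁ W₂) (hW₂ : W₂ ≤ ⁅K, K⁆) (hK : ⁅K, K⁆ ≠ K)
    (hodd : Odd (Nat.card L)) : 2 * Nat.card W₁ < (⁅K, K⁆).relIndex K := by
  have hK'L : ⁅K, K⁆ ≤ L := (commutator_self_le K).trans h.le
  have hKn : (K.subgroupOf L).Normal :=
    Subgroup.normal_subgroupOf_of_le_normalizer (le_normalizer h)
  have hKn' : ((⁅K, K⁆).subgroupOf L).Normal := by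
    refine ⟨fun y hy x => ?_⟩
    exact conj_commutator_mem h x.2 hy
  have hcomm : ⁅K.subgroupOf L, K.subgroupOf L⁆ ≤ (⁅K, K⁆).subgroupOf L := by
    rw [Subgroup.commutator_le]
    intro a ha b hb
    exact Subgroup.commutator_mem_commutator ha hb
  have h1 := Cfsg.Agent.OddOrderCharacters.NilpotentIndex.index_dvd_relIndex_sub_one
    (L := ↥L) (K := K.subgroupOf L) (H₁ := (⁅K, K⁆).subgroupOf L) (N := K.subgroupOf L) hcomm le_rfl
    (fun k hk hk' x hx => frob_mod h hW₂ k hk hk' x x.2 hx)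
  have e1 : (K.subgroupOf L).index = Nat.card W₁ := (card_eq_mul h).2.2
  have e2 : ((⁅K, K⁆).subgroupOf L).relIndex (K.subgroupOf L) = (⁅K, K⁆).relIndex K :=
    Subgroup.relIndex_subgroupOf h.le
  rw [e1, e2] at h1
  -- parity
  have hrel : (⁅K, K⁆).relIndex K ∣ Nat.card L := by
    refine dvd_trans (Subgroup.relIndex_dvd_card _ _) (Subgroup.card_dvd_of_le h.le)
  have h2 : Odd ((⁅K, K⁆).relIndex K) := hodd.of_dvd_nat hrel
  have h3 : (⁅K, K⁆).relIndex K ≠ 1 := by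
    intro h4
    rw [Subgroup.relIndex_eq_one] at h4
    exact hK (le_antisymm (commutator_self_le K) h4)
  have h4 : Odd (Nat.card W₁) := by
    refine hodd.of_dvd_nat (Subgroup.card_dvd_of_le (h.sup_L ▸ le_sup_right))
  obtain ⟨k, hk⟩ := h1
  obtain ⟨a, ha⟩ := h2
  obtain ⟨b, hb⟩ := h4
  have hk0 : k ≠ 0 := by
    rintro rfl
    omega
  have hk1 : k ≠ 1 := by
    rintro rfl
    omega
  have hk2 : 2 ≤ k := by omega
  have : Nat.card W₁ * 2 ≤ Nat.card W₁ * k := Nat.mul_le_mul_left _ hk2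
  omega

/-- `|K| ≥ w₂ (2 w₁ + 1)` -/
theorem card_K_ge (h : PrimeTIHyp L K W W₁ W₂) (hW₂ : W₂ ≤ ⁅K, K⁆) (hK : ⁅K, K⁆ ≠ K)
    (hodd : Odd (Nat.card L)) : Nat.card W₂ * (2 * Nat.card W₁ + 1) ≤ Nat.card K := by
  have h1 := two_mul_card_W₁_lt h hW₂ hK hodd
  have h2 : Nat.card W₂ ≤ Nat.card ↥⁅K, K⁆ := Subgroup.card_le_of_le hW₂
  have h3 := Subgroup.card_mul_index ((⁅K, K⁆).subgroupOf K)
  rw [Nat.card_congr (Subgroup.subgroupOfEquivOfLe (commutator_self_le K)).toEquiv] at h3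
  rw [← h3]
  exact Nat.mul_le_mul h2 h1

end frobenius

section ref

variable {L K W W₁ W₂ : Subgroup G} [Fintype ↥L] {μ : (↥W →* ℂˣ) → (↥L → ℂ)}
  {δ : (↥W →* ℂˣ) → ℤ}

omit [Fintype G] in
/-- A nontrivial linear character of a group which is not perfect. -/
theorem exists_hom_apply_ne_one {A : Type*} [Group A] [Finite A] {x : A} (hx : x ∉ commutator A) :
    ∃ f : A →* ℂˣ, f x ≠ 1 := by
  have h1 : Abelianization.of x ≠ 1 := by
    intro h1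
    exact hx ((QuotientGroup.eq_one_iff x).1 h1)
  obtain ⟨f, hf⟩ := CommGroup.exists_apply_ne_one_of_hasEnoughRootsOfUnity (Abelianization A) ℂ h1
  exact ⟨f.comp Abelianization.of, hf⟩

/-- Peterfalvi (10.2). -/
theorem exists_ref (h : PrimeTIHyp L K W W₁ W₂) (hμ : PrimeTIFam L K W W₁ W₂ μ δ)
    (hW₂ : W₂ ≤ ⁅K, K⁆) (hK : ⁅K, K⁆ ≠ K) :
    ∃ ζ : ↥L → ℂ, ζ ∈ seqIndOf L K K ⁅K, K⁆ ∧ ζ ∈ seqIndOf L K K ⊥ ∧ IsIrrCharacter ↥L ζ ∧
      ζ 1 = (Nat.card W₁ : ℂ) := by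
  obtain ⟨x, hx, hxK⟩ : ∃ x ∈ K, x ∉ ⁅K, K⁆ := by
    by_contra hcon
    push Not at hcon
    exact hK (le_antisymm (commutator_self_le K) hcon)
  have hx' : (⟨⟨x, h.le hx⟩, hx⟩ : ↥(K.subgroupOf L)) ∉ commutator ↥(K.subgroupOf L) := by
    intro hc
    apply hxK
    have h1 : (commutator ↥(K.subgroupOf L)).map
        (L.subtype.comp (K.subgroupOf L).subtype) ≤ ⁅K, K⁆ := by
      rw [commutator_def, Subgroup.map_commutator, Subgroup.commutator_le]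
      rintro _ ⟨a, -, rfl⟩ _ ⟨b, -, rfl⟩
      exact Subgroup.commutator_mem_commutator a.2 b.2
    exact h1 ⟨_, hc, rfl⟩
  obtain ⟨f, hf⟩ := exists_hom_apply_ne_one hx'
  set θ : ↥(K.subgroupOf L) → ℂ := fun k => (f k : ℂ) with hθdef
  have hθ : IsIrrCharacter ↥(K.subgroupOf L) θ :=
    Cfsg.Agent.Characters.Linear.isIrrCharacter_hom f
  have hθ1 : θ 1 = 1 := by simp [hθdef]
  have hθx : θ ⟨⟨x, h.le hx⟩, hx⟩ ≠ 1 := fun h1 => hf (Units.ext h1)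
  have hirr : IsIrrCharacter ↥L (indFun (K.subgroupOf L) θ) := by
    rcases PF4b.TIFam.irr_cases h hμ hθ with ⟨ω, hω⟩ | h1
    · exfalso
      by_cases hω1 : ω ∈ lin₁ W W₂
      · apply hθx
        rw [hω]
        exact (PF4b.TIFam.mu_lin₁ h hμ hω1).1 _ hx
      · apply mu_apply_one_ne_one h hμ hW₂ hω1
        have := congrFun hω 1
        rw [hθ1] at this
        exact this.symm
    · exact h1
  have hne : ∃ y : ↥(K.subgroupOf L), ((y : ↥L) : G) ∈ K ∧ θ y ≠ θ 1 :=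
    ⟨⟨⟨x, h.le hx⟩, hx⟩, hx, by rwa [hθ1]⟩
  refine ⟨indFun (K.subgroupOf L) θ, ⟨θ, hθ, hne, ?_, rfl⟩, ⟨θ, hθ, hne, ?_, rfl⟩, hirr, ?_⟩
  · intro y hy
    rw [hθ1]
    have h1 : f y = 1 :=
      hom_commutator (f.comp (Subgroup.subgroupOfEquivOfLe h.le).symm.toMonoidHom)
        (x := ((y : ↥L) : G)) hy y.2
    rw [hθdef]
    show ((f y : ℂˣ) : ℂ) = 1
    rw [h1]
    rfl
  · intro y hy
    have : y = 1 := by
      apply Subtype.ext
      exact (Subgroup.mem_bot.1 (show (y : ↥L) ∈ (⊥ : Subgroup ↥L) by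
        have h3 : ((y : ↥L) : G) ∈ (⊥ : Subgroup G) := hy
        rw [Subgroup.mem_bot] at h3 ⊢
        exact Subtype.ext h3))
    rw [this]
  · rw [IndRes.indFun_apply_one, hθ1, mul_one]
    have : (K.subgroupOf L).index = Nat.card W₁ := (card_eq_mul h).2.2
    rw [this]

/-- An irreducible character of `K` of degree `1` other than the principal one induces to an irreducible
character of `L` of degree `w₁`. -/
theorem isIrr_ind_of_lin (h : PrimeTIHyp L K W W₁ W₂) (hμ : PrimeTIFam L K W W₁ W₂ μ δ)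
    (hW₂ : W₂ ≤ ⁅K, K⁆) {θ : ↥(K.subgroupOf L) → ℂ} (hθ : IsIrrCharacter ↥(K.subgroupOf L) θ)
    (hθ1 : θ 1 = 1) {x : ↥(K.subgroupOf L)} (hx : θ x ≠ 1) :
    IsIrrCharacter ↥L (indFun (K.subgroupOf L) θ) := by
  rcases PF4b.TIFam.irr_cases h hμ hθ with ⟨ω, hω⟩ | h1
  · exfalso
    by_cases hω1 : ω ∈ lin₁ W W₂
    · apply hx
      rw [hω]
      exact (PF4b.TIFam.mu_lin₁ h hμ hω1).1 _ x.2
    · apply mu_apply_one_ne_one h hμ hW₂ hω1
      have := congrFun hω 1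
      rw [hθ1] at this
      exact this.symm
  · exact h1

/-- Every member of `S(K')` is irreducible of degree `w₁`, and conversely. -/
theorem isZeta_iff (h : PrimeTIHyp L K W W₁ W₂) (hμ : PrimeTIFam L K W W₁ W₂ μ δ)
    (hW₂ : W₂ ≤ ⁅K, K⁆) {ζ : ↥L → ℂ} :
    ζ ∈ seqIndOf L K K ⁅K, K⁆ ↔ Defs.IsZeta L K W₁ ζ := by
  have hidx : (K.subgroupOf L).index = Nat.card W₁ := (card_eq_mul h).2.2
  have hbot : ∀ (θ : ↥(K.subgroupOf L) → ℂ) (y : ↥(K.subgroupOf L)),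
      ((y : ↥L) : G) ∈ (⊥ : Subgroup G) → θ y = θ 1 := by
    intro θ y hy
    have : y = 1 := Subtype.ext (Subtype.ext (Subgroup.mem_bot.1 hy))
    rw [this]
  constructor
  · rintro ⟨θ, hθ, ⟨x, hx, hxθ⟩, hker, rfl⟩
    -- `θ` is linear
    have hθ1 : θ 1 = 1 :=
      PF9.GaloisClifford.degree_one_of_comm hθ fun s t => hker _
        (Subgroup.commutator_mem_commutator s.2 t.2)
    rw [hθ1] at hxθ
    refine ⟨isIrr_ind_of_lin h hμ hW₂ hθ hθ1 hxθ, ⟨θ, hθ, ⟨x, hx, by rwa [hθ1]⟩, fun y hy => hbot θ y hy, rfl⟩, ?_⟩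
    rw [IndRes.indFun_apply_one, hθ1, mul_one, hidx]
  · rintro ⟨hirr, ⟨θ, hθ, ⟨x, hx, hxθ⟩, -, rfl⟩, hdeg⟩
    rw [IndRes.indFun_apply_one, hidx] at hdeg
    have hθ1 : θ 1 = 1 := by
      have h0 : (Nat.card W₁ : ℂ) ≠ 0 := by exact_mod_cast Nat.card_pos.ne'
      exact mul_left_cancel₀ h0 (hdeg.trans (mul_one _).symm)
    refine ⟨θ, hθ, ⟨x, hx, hxθ⟩, ?_, rfl⟩
    intro y hy
    rw [hθ1]
    obtain ⟨f, rfl⟩ := Cfsg.Agent.Characters.Linear.exists_hom_of_isIrrCharacter hθ hθ1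
    have h1 : f y = 1 :=
      hom_commutator (f.comp (Subgroup.subgroupOfEquivOfLe h.le).symm.toMonoidHom)
        (x := ((y : ↥L) : G)) hy y.2
    show ((f y : ℂˣ) : ℂ) = 1
    rw [h1]
    rfl

/-- (10.2) -/
theorem exists_isZeta (h : PrimeTIHyp L K W W₁ W₂) (hμ : PrimeTIFam L K W W₁ W₂ μ δ)
    (hW₂ : W₂ ≤ ⁅K, K⁆) (hK : ⁅K, K⁆ ≠ K) : ∃ ζ : ↥L → ℂ, Defs.IsZeta L K W₁ ζ := by
  obtain ⟨ζ, -, h2, h3, h4⟩ := exists_ref h hμ hW₂ hK
  exact ⟨ζ, h3, h2, h4⟩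

end ref

omit [Fintype G] in
/-- A nontrivial solvable group is not perfect. -/
theorem commutator_ne_self {K : Subgroup G} (hsolv : Group.IsSolvable K) (hK : K ≠ ⊥) :
    ⁅K, K⁆ ≠ K := by
  intro heq
  have : Nontrivial K := (Subgroup.nontrivial_iff_ne_bot K).2 hK
  have h1 := Group.IsSolvable.commutator_lt_top_of_nontrivial (G := K)
  apply h1.ne
  have h2 : (commutator K).map K.subtype = (⊤ : Subgroup K).map K.subtype := by
    rw [Subgroup.map_subtype_commutator, heq, ← MonoidHom.range_eq_map, Subgroup.range_subtype]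
  exact Subgroup.map_injective K.subtype_injective h2

omit [Fintype G] in
theorem derived_two_ne [Finite G] {M W₁ U W₂ : Subgroup G} (hG : IsMinSimpleOddOrder G)
    (hM : IsCoatom M) (hP : IsTypePWith M W₁ U W₂) : ⁅⁅M, M⁆, ⁅M, M⁆⁆ ≠ ⁅M, M⁆ := by
  have hsolv : Group.IsSolvable M := hG.2.2.2 M hM.1
  apply commutator_ne_self
  · have := hsolv
    exact Group.isSolvable_of_isSolvable_injective (Subgroup.inclusion_injective (commutator_self_le M))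
  · intro h0
    apply hP.selfNormalizing.2.1
    rw [eq_bot_iff, ← h0]
    have h1 := hP.W₂_le
    exact (h1.trans inf_le_right).trans (commutator_self_le _)

end Cfsg.Agent.OddOrderCharacters.PF10.Setup
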