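import Cfsg.Agent.OddOrderCharacters.PF8.DadeHyp
import Cfsg.Agent.OddOrderCharacters.PF8.Types
import Cfsg.Agent.OddOrderCharacters.PF8.Pair
import Cfsg.Agent.OddOrderCharacters.PF10.Defs
import Cfsg.Agent.OddOrderCharacters.PF10.Setup
import Cfsg.Agent.OddOrderCharacters.PF4
import Cfsg.Agent.OddOrderCharacters.TypePHyp
import Cfsg.Agent.OddOrderCharacters.TypeSetsBasic
import Cfsg.Agent.S1502

/-!
# Peterfalvi (10.1): a maximal subgroup of type III, IV or V satisfies the hypotheses of section 10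
-/

set_option autoImplicit false

open Cfsg
open Cfsg.Agent.OddOrderCharacters.PFDefs Cfsg.Agent.OddOrderCharacters.PF10.Defs
  Cfsg.Agent.OddOrderCharacters.TypeSetsBasic

namespace Cfsg.Agent.OddOrderCharacters.PF10.HypM

universe u

section sets

variable {G : Type u} [Group G] [Finite G] {M W₁ U W₂ : Subgroup G}

/-- `M_s = M'` for a maximal subgroup of type III, IV or V. -/
theorem typeCore_eq (hG : IsMinSimpleOddOrder G) (hM : IsCoatom M) (hP : IsTypePWith M W₁ U W₂)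
    (hII : ¬ IsOfTypeII M) : typeCore M = ⁅M, M⁆ := by
  by_cases h : IsOfTypeIII M ∨ IsOfTypeIV M
  · exact typeCore_of_three_or_four h
  · rw [typeCore_of_not h]
    rcases PF8.typeP_cases hG hM ⟨W₁, U, W₂, hP⟩ with h1 | h1 | h1 | h1
    · exact absurd h1 hII
    · exact absurd (Or.inl h1) h
    · exact absurd (Or.inr h1) h
    · exact (PF8.typeV_data hG hM hP h1).2.2.1.symm

theorem typeA1_eq (hG : IsMinSimpleOddOrder G) (hM : IsCoatom M) (hP : IsTypePWith M W₁ U W₂)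
    (hII : ¬ IsOfTypeII M) : typeA1 M = sharp ⁅M, M⁆ := by
  ext x
  rw [mem_typeA1, mem_sharp, typeCore_eq hG hM hP hII]

theorem typeA_eq (hG : IsMinSimpleOddOrder G) (hM : IsCoatom M) (hP : IsTypePWith M W₁ U W₂)
    (hII : ¬ IsOfTypeII M) : typeA' M = sharp ⁅M, M⁆ := by
  rw [typeA'_of_typeP ⟨W₁, U, W₂, hP⟩, typeCore_eq hG hM hP hII]
  ext x
  constructor
  · rintro ⟨h1, h2, -⟩
    exact ⟨h1, h2⟩
  · rintro ⟨h1, h2⟩
    exact ⟨h1, h2, x, h1, h2, rfl⟩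

theorem typeA0_eq (hG : IsMinSimpleOddOrder G) (hM : IsCoatom M) (hP : IsTypePWith M W₁ U W₂)
    (hII : ¬ IsOfTypeII M) :
    typeA0' M = sharp ⁅M, M⁆ ∪ classSupport (cycTIset (W₁ ⊔ W₂) W₁ W₂) M := by
  rw [(PF8.primeDadeHyp hG hM hP).A₀_eq, typeA_eq hG hM hP hII]

/-- Hypothesis (4.6) with `H = K = M'`. -/
theorem primeDadeHyp (hG : IsMinSimpleOddOrder G) (hM : IsCoatom M)
    (hP : IsTypePWith M W₁ U W₂) (hII : ¬ IsOfTypeII M) :
    PrimeDadeHyp M ⁅M, M⁆ ⁅M, M⁆ (sharp ⁅M, M⁆) (typeA0' M) (W₁ ⊔ W₂) W₁ W₂ (supportR M) := by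
  have h := PF8.primeDadeHyp hG hM hP
  rw [typeCore_eq hG hM hP hII, typeA_eq hG hM hP hII] at h
  exact h

theorem W₂_le_derived_two (hP : IsTypePWith M W₁ U W₂) : W₂ ≤ ⁅⁅M, M⁆, ⁅M, M⁆⁆ :=
  hP.W₂_le.trans inf_le_right

end sets

section main

variable {G : Type u} [Group G] [Fintype G]

/-- Construction of the concrete hypothesis (10.1). -/
theorem exists_hypM {M W₁ U W₂ : Subgroup G} [Fintype ↥M]
    (hG : IsMinSimpleOddOrder G) (hM : IsCoatom M) (hP : IsTypePWith M W₁ U W₂)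
    (hII : ¬ IsOfTypeII M) :
    ∃ μ δ η, ∃ (d : ℕ) (e n : ℤ), HypM M W₁ U W₂ (W₁ ⊔ W₂) μ δ η d e n := by
  have hD := primeDadeHyp hG hM hP hII
  have hW := hD.cyclicTI
  have hT := hD.primeTI
  have hprime := PF8.card_W₂_prime hG hM hP hII
  have hoddM : Odd (Nat.card M) := hG.1.of_dvd_nat (Subgroup.card_subgroup_dvd_card M)
  obtain ⟨μ, δ, hμ⟩ := PF4.exists_primeTIFam hT
  obtain ⟨η, hη⟩ := Cfsg.Agent.S1502.result W₁ W₂ hP.selfNormalizing hW.odd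
  obtain ⟨d, e, n, h1, h2, h3, -, h5, -, h7⟩ :=
    Setup.exists_constants hT hW hμ hoddM hprime (W₂_le_derived_two hP)
  refine ⟨μ, δ, η, d, e, n, ?_⟩
  exact
    { hG := hG
      hM := hM
      hP := hP
      notII := hII
      sup_eq := rfl
      prime := hprime
      W₂_le := W₂_le_derived_two hP
      derived_ne := Setup.derived_two_ne hG hM hP
      typeCore_eq := typeCore_eq hG hM hP hII
      typeA1_eq := typeA1_eq hG hM hP hII
      typeA_eq := typeA_eq hG hM hP hII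
      typeA0_eq := typeA0_eq hG hM hP hII
      dade₁ := by
        rw [← typeA1_eq hG hM hP hII]
        exact PF8.dadeHyp_typeA1 hG hM
      hyp :=
        { odd := hoddM
          hD := hD
          hμ := hμ
          hη := cyclicTIFam_of hη
          deg := h1
          sgn := h2
          d_gt := h3
          e_sgn := h5
          n_mul := h7 } }

/-- (10.2): there is `ζ`. -/
theorem exists_isZeta {M W₁ U W₂ W : Subgroup G} [Fintype ↥M]
    {μ : (↥W →* ℂˣ) → (↥M → ℂ)} {δ : (↥W →* ℂˣ) → ℤ} {η : (↥W →* ℂˣ) → (G → ℂ)} {d : ℕ} {e n : ℤ}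
    (h : HypM M W₁ U W₂ W μ δ η d e n) : ∃ ζ : ↥M → ℂ, IsZeta M ⁅M, M⁆ W₁ ζ :=
  Setup.exists_isZeta h.hyp.hD.primeTI h.hyp.hμ h.W₂_le h.derived_ne

theorem n_pos {M W₁ U W₂ W : Subgroup G} [Fintype ↥M]
    {μ : (↥W →* ℂˣ) → (↥M → ℂ)} {δ : (↥W →* ℂˣ) → ℤ} {η : (↥W →* ℂˣ) → (G → ℂ)} {d : ℕ} {e n : ℤ}
    (h : HypM M W₁ U W₂ W μ δ η d e n) : 0 < n := by
  have h0 : (0 : ℤ) < Nat.card W₁ := by exact_mod_cast Nat.card_pos
  have h1 : 0 < n * (Nat.card W₁ : ℤ) := by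
    rw [h.hyp.n_mul]
    have hd := h.hyp.d_gt
    rcases h.hyp.e_sgn with h | h <;> rw [h] <;> omega
  exact pos_of_mul_pos_left h1 h0.le

/-- The partner of `M`. -/
theorem exists_partner {M W₁ U W₂ W : Subgroup G} [Fintype ↥M]
    {μ : (↥W →* ℂˣ) → (↥M → ℂ)} {δ : (↥W →* ℂˣ) → ℤ} {η : (↥W →* ℂˣ) → (G → ℂ)} {d : ℕ} {e n : ℤ}
    (h : HypM M W₁ U W₂ W μ δ η d e n) :
    ∃ T V : Subgroup G, IsCoatom T ∧ IsTypePWith T W₂ V W₁ ∧ M ⊓ T = W ∧ IsOfTypeII T := by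
  obtain ⟨T, V, h1, h2, h3, h4, -⟩ := PF8.exists_partner h.hG h.hM h.hP
  refine ⟨T, V, h1, h2, h3.trans h.sup_eq, ?_⟩
  rcases h4 with h4 | h4
  · exact absurd h4 h.notII
  · exact h4

end main

end Cfsg.Agent.OddOrderCharacters.PF10.HypM
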