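import Mathlib
import Cfsg.Agent.S0135
import Cfsg.Agent.S1500
import Cfsg.Agent.S1501
import Cfsg.Agent.OddOrderCharacters.PFDefs
import Cfsg.Agent.OddOrderCharacters.VChar
import Cfsg.Agent.OddOrderCharacters.IndRes
import Cfsg.Agent.OddOrderCharacters.OddReal
import Cfsg.Agent.OddOrderCharacters.DadeBasic
import Cfsg.Agent.OddOrderCharacters.ColSum
import Cfsg.Agent.OddOrderCharacters.PF3bBasic
import Cfsg.Agent.OddOrderCharacters.PF4b.TIFam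
import Cfsg.Agent.OddOrderCharacters.PF4b.Prime

/-!
# Peterfalvi (10.3), (10.4): the context of section 10 and the bridge characters `α_ij`

Everything is stated for hypothesis (4.6) with `H = K` (for a maximal subgroup `M` of Type III, IV or V:
`K = M' = M_s`), so that `A = K \ {1}`.
-/

set_option autoImplicit false
set_option linter.unusedSectionVars false

open scoped ComplexConjugate
open Cfsg Cfsg.Agent.Characters.Core Cfsg.Agent.OddOrderCharacters.VChar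
  Cfsg.Agent.OddOrderCharacters.PFDefs Cfsg.Agent.OddOrderCharacters.ColSum
  Cfsg.Agent.OddOrderCharacters.PF4b.TIFam Cfsg.Agent.OddOrderCharacters.PF4b.Prime

namespace Cfsg.Agent.OddOrderCharacters.PF10.Ctx

universe u

/-- Hypothesis (4.6) with `H = K`, together with the families `μ`, `η` and the constants `d`, `e`, `n` of
(10.3): `μ_ij 1 = d`, `δ_j = e` for `j ≠ 0`, `d > 1`, `d - e = n w₁`. -/
structure Hyp {G : Type u} [Group G] [Fintype G] (L K W W₁ W₂ : Subgroup G) [Fintype ↥L]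
    (A A₀ : Set G) (R : G → Subgroup G) (μ : (↥W →* ℂˣ) → (↥L → ℂ)) (δ : (↥W →* ℂˣ) → ℤ)
    (η : (↥W →* ℂˣ) → (G → ℂ)) (d : ℕ) (e n : ℤ) : Prop where
  odd : Odd (Nat.card L)
  hD : PrimeDadeHyp L K K A A₀ W W₁ W₂ R
  hμ : PrimeTIFam L K W W₁ W₂ μ δ
  hη : CyclicTIFam W W₁ W₂ η
  deg : ∀ ω, ω ∉ lin₁ W W₂ → μ ω 1 = (d : ℂ)
  sgn : ∀ ω, ω ∉ lin₁ W W₂ → δ ω = e
  d_gt : 1 < d
  e_sgn : e = 1 ∨ e = -1
  n_mul : n * (Nat.card W₁ : ℤ) = (d : ℤ) - e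

/-- The bridge character `α_ij = μ_ij - δ μ_i0 - n ζ` of (10.4), `φ = ω_i0`, `ψ = ω_0j`. -/
def alpha {G : Type u} [Group G] {L W : Subgroup G} (μ : (↥W →* ℂˣ) → (↥L → ℂ)) (e n : ℤ)
    (ζ : ↥L → ℂ) (φ ψ : ↥W →* ℂˣ) : ↥L → ℂ :=
  μ (φ * ψ) - e • μ φ - n • ζ

variable {G : Type u} [Group G] [Fintype G] {L K W W₁ W₂ : Subgroup G} [Fintype ↥L]
  {A A₀ : Set G} {R : G → Subgroup G}
  {μ : (↥W →* ℂˣ) → (↥L → ℂ)} {δ : (↥W →* ℂˣ) → ℤ} {η : (↥W →* ℂˣ) → (G → ℂ)}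
  {d : ℕ} {e n : ℤ}

theorem alpha_def (ζ : ↥L → ℂ) (φ ψ : ↥W →* ℂˣ) :
    alpha μ e n ζ φ ψ = μ (φ * ψ) - e • μ φ - n • ζ := rfl

/-! ### Elementary consequences -/

theorem mem_A_iff (hD : PrimeDadeHyp L K K A A₀ W W₁ W₂ R) {x : G} : x ∈ A ↔ x ∈ K ∧ x ≠ 1 :=
  ⟨fun h => hD.A_sub x h, fun h => hD.centralizer_sub x h.1 h.2 x h.1 h.2 rfl⟩

theorem A_subset_A₀ (hD : PrimeDadeHyp L K K A A₀ W W₁ W₂ R) : A ⊆ A₀ := by
  rw [hD.A₀_eq]; exact Set.subset_union_left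

theorem direct (hD : PrimeDadeHyp L K K A A₀ W W₁ W₂ R) : IsDirect W W₁ W₂ :=
  isDirect_of_hyp hD.cyclicTI

theorem mu_orthonormal (hμ : PrimeTIFam L K W W₁ W₂ μ δ) : Orthonormal μ := by
  classical
  intro ω ω'
  rw [classInner_irr (hμ.irr ω) (hμ.irr ω')]
  by_cases h : ω = ω'
  · rw [if_pos h, if_pos (by rw [h])]
  · rw [if_neg h, if_neg fun h' => h (hμ.injective h')]

theorem mul_notMem_lin₁ (hD : PrimeDadeHyp L K K A A₀ W W₁ W₂ R) {φ ψ : ↥W →* ℂˣ}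
    (hφ : φ ∈ lin₁ W W₂) (hψ : ψ ∈ lin₁ W W₁) (hψ1 : ψ ≠ 1) : φ * ψ ∉ lin₁ W W₂ := by
  intro h
  apply hψ1
  refine eq_one_of_mem (direct hD) hψ fun w hw => ?_
  have := h w hw
  rw [MonoidHom.mul_apply, hφ w hw, one_mul] at this
  exact this

theorem notMem_lin₁ (hD : PrimeDadeHyp L K K A A₀ W W₁ W₂ R) {ψ : ↥W →* ℂˣ}
    (hψ : ψ ∈ lin₁ W W₁) (hψ1 : ψ ≠ 1) : ψ ∉ lin₁ W W₂ := fun h =>
  hψ1 (eq_one_of_mem (direct hD) hψ h)

/-- Members of `S` vanish off `K`. -/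
theorem S_off (hD : PrimeDadeHyp L K K A A₀ W W₁ W₂ R) {Y : Subgroup G} {φ : ↥L → ℂ}
    (hφ : φ ∈ seqIndOf L K K Y) (x : ↥L) (hx : (x : G) ∉ K) : φ x = 0 := by
  refine prDade_seqInd_on hD hφ x ?_ fun h => hx ((mem_A_iff hD).1 h).1
  rintro rfl
  exact hx K.one_mem

theorem S_isCharacter {X Y : Subgroup G} {φ : ↥L → ℂ} (hφ : φ ∈ seqIndOf L K X Y) :
    IsCharacter ↥L φ := by
  obtain ⟨θ, hθ, -, -, rfl⟩ := hφ
  exact IndRes.isCharacter_indFun _ (isIrr_isCharacter hθ)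

theorem S_conj {X Y : Subgroup G} {φ : ↥L → ℂ} (hφ : φ ∈ seqIndOf L K X Y) :
    conjFun φ ∈ seqIndOf L K X Y := by
  obtain ⟨θ, hθ, ⟨x, hx, hx'⟩, hY, rfl⟩ := hφ
  refine ⟨conjFun θ, isIrr_conjFun hθ, ⟨x, hx, fun h => hx' ?_⟩, fun y hy => ?_, ?_⟩
  · have h2 := congrArg (starRingEnd ℂ) h
    simpa [conjFun] using h2
  · show conj (θ y) = conj (θ 1)
    rw [hY y hy]
  · exact IndRes.conjFun_indFun _ θ

/-- An irreducible member of `S` is none of the `μ ω`, hence orthogonal to all of them. -/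
theorem inner_mu_zeta (hD : PrimeDadeHyp L K K A A₀ W W₁ W₂ R)
    (hμ : PrimeTIFam L K W W₁ W₂ μ δ) {ζ : ↥L → ℂ} (hζ : IsIrrCharacter ↥L ζ)
    (hζS : ζ ∈ seqIndOf L K K ⊥) (ω : ↥W →* ℂˣ) : classInner (μ ω) ζ = 0 :=
  classInner_irr_ne (hμ.irr ω) hζ
    (ne_mu_of_off hD.primeTI hμ (fun x hx => S_off hD hζS x hx) ω).symm

theorem inner_zeta_mu (hD : PrimeDadeHyp L K K A A₀ W W₁ W₂ R)
    (hμ : PrimeTIFam L K W W₁ W₂ μ δ) {ζ : ↥L → ℂ} (hζ : IsIrrCharacter ↥L ζ)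
    (hζS : ζ ∈ seqIndOf L K K ⊥) (ω : ↥W →* ℂˣ) : classInner ζ (μ ω) = 0 :=
  classInner_comm_eq_zero (inner_mu_zeta hD hμ hζ hζS ω)

theorem inner_zeta_colSum (hD : PrimeDadeHyp L K K A A₀ W W₁ W₂ R)
    (hμ : PrimeTIFam L K W W₁ W₂ μ δ) {ζ : ↥L → ℂ} (hζ : IsIrrCharacter ↥L ζ)
    (hζS : ζ ∈ seqIndOf L K K ⊥) (ω : ↥W →* ℂˣ) : classInner ζ (colSum W W₂ μ ω) = 0 := by
  rw [inner_colSum_right (direct hD)]
  exact Finset.sum_eq_zero fun φ _ => inner_zeta_mu hD hμ hζ hζS _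

theorem inner_colSum_zeta (hD : PrimeDadeHyp L K K A A₀ W W₁ W₂ R)
    (hμ : PrimeTIFam L K W W₁ W₂ μ δ) {ζ : ↥L → ℂ} (hζ : IsIrrCharacter ↥L ζ)
    (hζS : ζ ∈ seqIndOf L K K ⊥) (ω : ↥W →* ℂˣ) : classInner (colSum W W₂ μ ω) ζ = 0 :=
  classInner_comm_eq_zero (inner_zeta_colSum hD hμ hζ hζS ω)

/-- An irreducible member of `S` is not real. -/
theorem conj_ne (hodd : Odd (Nat.card L)) (hD : PrimeDadeHyp L K K A A₀ W W₁ W₂ R)
    {ζ : ↥L → ℂ} (hζ : IsIrrCharacter ↥L ζ) (hζS : ζ ∈ seqIndOf L K K ⊥) : conjFun ζ ≠ ζ := by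
  intro h
  have h1 : (⟨ζ, hζ⟩ : IrrCharacter ↥L) ≠ OddReal.oneIrr ↥L := by
    intro h2
    have h3 : ζ = 1 := congrArg Subtype.val h2
    -- `ζ` vanishes off `K`, but `K ≠ L`
    obtain ⟨w, hw, hw1⟩ : ∃ w ∈ W₁, w ≠ 1 := by
      by_contra hcon
      push Not at hcon
      exact hD.primeTI.W₁_ne ((Subgroup.eq_bot_iff_forall _).2 hcon)
    have hwL : w ∈ L := hD.primeTI.sup_L ▸ (Subgroup.mem_sup_right hw)
    have hwK : w ∉ K := fun hwK => hw1 (by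
      have : w ∈ K ⊓ W₁ := ⟨hwK, hw⟩
      rw [hD.primeTI.inf_eq] at this
      exact Subgroup.mem_bot.1 this)
    have h4 := S_off hD hζS ⟨w, hwL⟩ hwK
    rw [h3] at h4
    exact one_ne_zero h4
  exact OddReal.conjIrr_ne hodd h1 (Subtype.ext h)

theorem inner_conj_zeta (hodd : Odd (Nat.card L)) (hD : PrimeDadeHyp L K K A A₀ W W₁ W₂ R)
    {ζ : ↥L → ℂ} (hζ : IsIrrCharacter ↥L ζ) (hζS : ζ ∈ seqIndOf L K K ⊥) :
    classInner ζ (conjFun ζ) = 0 ∧ classInner (conjFun ζ) ζ = 0 :=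
  ⟨classInner_irr_ne hζ (isIrr_conjFun hζ) (conj_ne hodd hD hζ hζS).symm,
    classInner_irr_ne (isIrr_conjFun hζ) hζ (conj_ne hodd hD hζ hζS)⟩

section ctx

variable (h : Hyp L K W W₁ W₂ A A₀ R μ δ η d e n)
include h

theorem Hyp.e_sq : e * e = 1 := by rcases h.e_sgn with rfl | rfl <;> norm_num

theorem Hyp.odd₁ : Odd (Nat.card W₁) := PF3bBasic.odd₁ h.hD.cyclicTI

theorem Hyp.odd₂ : Odd (Nat.card W₂) := PF3bBasic.odd₂ h.hD.cyclicTI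

theorem Hyp.three_le₁ : 3 ≤ Nat.card W₁ := PF3bBasic.three_le₁ h.hD.cyclicTI

theorem Hyp.three_le₂ : 3 ≤ Nat.card W₂ := PF3bBasic.three_le₂ h.hD.cyclicTI

theorem Hyp.d_odd : Odd d := by
  obtain ⟨ψ, hψ, hψ1⟩ : ∃ ψ : ↥W →* ℂˣ, ψ ∈ lin₁ W W₁ ∧ ψ ≠ 1 := by
    by_contra hcon
    push Not at hcon
    have h1 := card_lin₁ (direct h.hD).symm
    have h2 : Nat.card ↥(lin₁ W W₁) ≤ 1 := by
      have : Subsingleton ↥(lin₁ W W₁) := ⟨fun a b => Subtype.ext ((hcon a a.2).trans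
        (hcon b b.2).symm)⟩
      exact Finite.card_le_one_iff_subsingleton.2 this
    have h3 := h.three_le₂
    omega
  have h1 := h.deg ψ (notMem_lin₁ h.hD hψ hψ1)
  obtain ⟨m, ρ, hρ, hρμ⟩ := h.hμ.irr ψ
  have h2 := Cfsg.Agent.S0135.result ρ
  have h3 : (m : ℂ) = d := by
    rw [← h1, ← hρμ, Representation.char_one]
    simp
  have h4 : m = d := by exact_mod_cast h3
  rw [Module.finrank_fin_fun, h4] at h2
  exact h.odd.of_dvd_nat h2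

theorem Hyp.n_pos : 0 < n := by
  have h1 := h.n_mul
  have h2 := h.d_gt
  have h3 := h.three_le₁
  have h4 : 0 < n * (Nat.card W₁ : ℤ) := by
    rw [h1]
    rcases h.e_sgn with rfl | rfl <;> omega
  have h5 : 0 < (Nat.card W₁ : ℤ) := by omega
  exact pos_of_mul_pos_left h4 h5.le

/-- There is a column index different from the given one and from `0`. -/
theorem Hyp.exists_ne (ψ : ↥W →* ℂˣ) : ∃ ψ' ∈ lin₁ W W₁, ψ' ≠ 1 ∧ ψ' ≠ ψ := by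
  classical
  by_contra hcon
  push Not at hcon
  have h1 := card_linFin (direct h.hD).symm
  have h2 : linFin (direct h.hD).symm ⊆ {1, ψ} := by
    intro χ hχ
    rw [mem_linFin] at hχ
    by_cases hχ1 : χ = 1
    · simp [hχ1]
    · simp [hcon χ hχ hχ1]
  have h3 := Finset.card_le_card h2
  have h4 := Finset.card_le_two (a := (1 : ↥W →* ℂˣ)) (b := ψ)
  have h5 := h.three_le₂
  omega

end ctx

/-! ### The Dade map -/

theorem dade_inner (hD : PrimeDadeHyp L K K A A₀ W W₁ W₂ R) {α β : ↥L → ℂ}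
    (hα : IsClassFunction ↥L α) (hα0 : ∀ x : ↥L, (x : G) ∉ A₀ → α x = 0)
    (hβ : IsClassFunction ↥L β) (hβ0 : ∀ x : ↥L, (x : G) ∉ A₀ → β x = 0) :
    classInner (dadeIsometry A₀ L R α) (dadeIsometry A₀ L R β) = classInner α β :=
  (Cfsg.Agent.S1500.result A₀ L R hD.dade α hα hα0).1 β hβ hβ0

theorem dade_gen (hD : PrimeDadeHyp L K K A A₀ W W₁ W₂ R) {α : ↥L → ℂ}
    (hα : IsGeneralizedCharacter ↥L α) (hα0 : ∀ x : ↥L, (x : G) ∉ A₀ → α x = 0) :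
    IsGeneralizedCharacter G (dadeIsometry A₀ L R α) :=
  Cfsg.Agent.S1501.result A₀ L R hD.dade α hα hα0

/-- Integer combinations of `S` vanishing at `1` are supported on `A₀`. -/
theorem zspanOn_supp (hD : PrimeDadeHyp L K K A A₀ W W₁ W₂ R) {S : Set (↥L → ℂ)}
    (hS : S ⊆ seqIndOf L K K ⊥) {β : ↥L → ℂ} (hβ : β ∈ zspanOn S {1}ᶜ) (x : ↥L)
    (hx : (x : G) ∉ A) : β x = 0 := by
  obtain ⟨h1, h2⟩ := mem_zspanOn_one_iff.1 hβ
  by_cases hx1 : x = 1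
  · rw [hx1]; exact h2
  · have hxK : (x : G) ∉ K := fun hxK => hx ((mem_A_iff hD).2 ⟨hxK, fun h => hx1 (Subtype.ext h)⟩)
    refine zspan_induction (p := fun β => β x = 0) rfl (fun χ hχ => S_off hD (hS hχ) x hxK)
      (fun α _ β _ ha hb => ?_) (fun m α _ ha => ?_) h1
    · rw [Pi.add_apply, ha, hb, add_zero]
    · rw [Pi.smul_apply, ha, smul_zero]

theorem zspan_gen {S : Set (↥L → ℂ)}
    (hS : S ⊆ seqIndOf L K K ⊥) {β : ↥L → ℂ} (hβ : β ∈ zspan S) : IsGeneralizedCharacter ↥L β :=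
  gen_of_mem_zspan (fun _ hχ => gen_of_char (S_isCharacter (hS hχ))) hβ

/-! ### (10.4) -/

section alphaSec

variable (h : Hyp L K W W₁ W₂ A A₀ R μ δ η d e n)
include h

/-- (10.4): `α_ij` is supported on `A₀`. -/
theorem alpha_supp {ζ : ↥L → ℂ} (hζS : ζ ∈ seqIndOf L K K ⊥)
    (hζ1 : ζ 1 = (Nat.card W₁ : ℂ)) {φ ψ : ↥W →* ℂˣ} (hφ : φ ∈ lin₁ W W₂)
    (hψ : ψ ∈ lin₁ W W₁) (hψ1 : ψ ≠ 1) (x : ↥L) (hx : (x : G) ∉ A₀) :
    alpha μ e n ζ φ ψ x = 0 := by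
  have hφψ := mul_notMem_lin₁ h.hD hφ hψ hψ1
  have hxv : alpha μ e n ζ φ ψ x = μ (φ * ψ) x - e * μ φ x - n * ζ x := by
    simp [alpha, zsmul_eq_mul]
  rw [hxv]
  by_cases hxK : (x : G) ∈ K
  · -- then `x = 1`
    have hx1 : x = 1 := by
      by_contra hne
      exact hx (A_subset_A₀ h.hD ((mem_A_iff h.hD).2 ⟨hxK, fun h' => hne (Subtype.ext h')⟩))
    rw [hx1, h.deg _ hφψ, (mu_lin₁ h.hD.primeTI h.hμ hφ).1 1 K.one_mem, hζ1]
    have h1 := h.n_mul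
    have h2 : (n : ℂ) * (Nat.card W₁ : ℂ) = d - e := by exact_mod_cast h1
    rw [h2]; ring
  · rcases conj_to_V_or_W₁ h.hD.primeTI (x : G) x.2 hxK with hV | ⟨k, hk, w, hw, hw1, hxw⟩
    · exact absurd (by rw [h.hD.A₀_eq]; exact Or.inr hV) hx
    · have hkL : k ∈ L := h.hD.primeTI.le hk
      have hWL := W_le h.hD.primeTI
      have hwW : w ∈ W := (direct h.hD).le₁ hw
      have hwL : w ∈ L := hWL hwW
      have hxe : x = ⟨k, hkL⟩ * ⟨w, hwL⟩ * (⟨k, hkL⟩ : ↥L)⁻¹ := Subtype.ext hxw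
      have hwK : w ∉ K := fun hwK => hw1 (by
        have : w ∈ K ⊓ W₁ := ⟨hwK, hw⟩
        rw [h.hD.primeTI.inf_eq] at this
        exact Subgroup.mem_bot.1 this)
      have hwW₂ : w ∉ W₂ := fun hw₂ => hwK (h.hD.primeTI.W₂_le hw₂)
      have hcl : ∀ ω, μ ω x = μ ω ⟨w, hwL⟩ := fun ω => by
        rw [hxe]; exact isIrr_isClassFunction (h.hμ.irr ω) _ _
      rw [hcl, hcl, S_off h.hD hζS x hxK, mul_zero, sub_zero]
      have h1 := h.hμ.eq_on (φ * ψ) ⟨w, hwW⟩ hwL hwW₂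
      have h2 := h.hμ.eq_on φ ⟨w, hwW⟩ hwL hwW₂
      have h3 : μ (φ * ψ) ⟨w, hwL⟩ = e * (φ ⟨w, hwW⟩ : ℂ) := by
        rw [h1, h.sgn _ hφψ, MonoidHom.mul_apply, hψ ⟨w, hwW⟩ hw, mul_one]
      have h4 : μ φ ⟨w, hwL⟩ = (φ ⟨w, hwW⟩ : ℂ) := by
        rw [h2, (mu_lin₁ h.hD.primeTI h.hμ hφ).2]; simp
      rw [h3, h4, sub_self]

theorem alpha_gen {ζ : ↥L → ℂ} (hζ : IsIrrCharacter ↥L ζ) (φ ψ : ↥W →* ℂˣ) :
    IsGeneralizedCharacter ↥L (alpha μ e n ζ φ ψ) :=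
  gen_sub (gen_sub (gen_of_irr (h.hμ.irr _)) (gen_zsmul _ (gen_of_irr (h.hμ.irr _))))
    (gen_zsmul _ (gen_of_irr hζ))

/-- (10.4): `‖α_ij‖² = 2 + n²`. -/
theorem alpha_norm {ζ : ↥L → ℂ} (hζ : IsIrrCharacter ↥L ζ) (hζS : ζ ∈ seqIndOf L K K ⊥)
    (φ : ↥W →* ℂˣ) {ψ : ↥W →* ℂˣ} (hψ1 : ψ ≠ 1) :
    classInner (alpha μ e n ζ φ ψ) (alpha μ e n ζ φ ψ) = 2 + (n : ℂ) ^ 2 := by
  have hne : φ * ψ ≠ φ := fun h' => hψ1 (mul_left_cancel (h'.trans (lin_mul_one φ).symm))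
  have h1 := inner_ne (mu_orthonormal h.hμ) hne
  have h2 := inner_ne (mu_orthonormal h.hμ) hne.symm
  have hee : (e : ℂ) * e = 1 := by exact_mod_cast h.e_sq
  rw [alpha_def]
  simp only [classInner_sub_left, classInner_sub_right, classInner_zsmul_left,
    classInner_zsmul_right, h1, h2, inner_self (mu_orthonormal h.hμ),
    inner_mu_zeta h.hD h.hμ hζ hζS, inner_zeta_mu h.hD h.hμ hζ hζS, classInner_irr_self hζ]
  linear_combination hee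

theorem inner_alpha_mu_ne {ζ : ↥L → ℂ} (hζ : IsIrrCharacter ↥L ζ) (hζS : ζ ∈ seqIndOf L K K ⊥)
    {φ ψ ω : ↥W →* ℂˣ} (h1 : φ * ψ ≠ ω) (h2 : φ ≠ ω) :
    classInner (alpha μ e n ζ φ ψ) (μ ω) = 0 := by
  rw [alpha_def]
  simp only [classInner_sub_left, classInner_zsmul_left, inner_ne (mu_orthonormal h.hμ) h1,
    inner_ne (mu_orthonormal h.hμ) h2, inner_zeta_mu h.hD h.hμ hζ hζS]
  ring

/-- inner product with another irreducible member of `S` -/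
theorem inner_alpha_other {ζ ξ : ↥L → ℂ} (hζ : IsIrrCharacter ↥L ζ)
    (hξ : IsIrrCharacter ↥L ξ) (hξS : ξ ∈ seqIndOf L K K ⊥) (hne : ζ ≠ ξ) (φ ψ : ↥W →* ℂˣ) :
    classInner (alpha μ e n ζ φ ψ) ξ = 0 := by
  rw [alpha_def]
  simp only [classInner_sub_left, classInner_zsmul_left, inner_mu_zeta h.hD h.hμ hξ hξS,
    classInner_irr_ne hζ hξ hne]
  ring

theorem inner_alpha_zeta {ζ : ↥L → ℂ} (hζ : IsIrrCharacter ↥L ζ)
    (hζS : ζ ∈ seqIndOf L K K ⊥) (φ ψ : ↥W →* ℂˣ) :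
    classInner (alpha μ e n ζ φ ψ) ζ = -(n : ℂ) := by
  rw [alpha_def]
  simp only [classInner_sub_left, classInner_zsmul_left, inner_mu_zeta h.hD h.hμ hζ hζS,
    classInner_irr_self hζ]
  ring

/-- inner product with `μ_j` -/
theorem inner_alpha_colSum {ζ : ↥L → ℂ} (hζ : IsIrrCharacter ↥L ζ)
    (hζS : ζ ∈ seqIndOf L K K ⊥) {φ ψ ψ' : ↥W →* ℂˣ} (hφ : φ ∈ lin₁ W W₂)
    (hψ : ψ ∈ lin₁ W W₁) (hψ' : ψ' ∈ lin₁ W W₁) (hψ'1 : ψ' ≠ 1) [Decidable (ψ = ψ')] :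
    classInner (alpha μ e n ζ φ ψ) (colSum W W₂ μ ψ') = if ψ = ψ' then 1 else 0 := by
  classical
  have hd := direct h.hD
  have hon := mu_orthonormal h.hμ
  rw [alpha_def]
  simp only [classInner_sub_left, classInner_zsmul_left, inner_zeta_colSum h.hD h.hμ hζ hζS,
    inner_fam_colSum hd hon]
  have hφ0 : ¬ (∀ w : ↥W, (w : G) ∈ W₂ → φ w = ψ' w) := by
    intro h'
    apply hψ'1
    refine eq_one_of_mem hd hψ' fun w hw => ?_
    rw [← h' w hw]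
    exact hφ w hw
  have hiff : (∀ w : ↥W, (w : G) ∈ W₂ → (φ * ψ) w = ψ' w) ↔ ψ = ψ' := by
    constructor
    · intro h'
      have hm : ψ * ψ'⁻¹ ∈ lin₁ W W₂ := mul_inv_mem_lin₁.2 fun w hw => by
        rw [← h' w hw, MonoidHom.mul_apply, hφ w hw, one_mul]
      have hm' : ψ * ψ'⁻¹ ∈ lin₁ W W₁ := mul_mem_lin₁ hψ (inv_mem_lin₁ hψ')
      have := eq_one_of_mem hd hm' hm
      exact mul_inv_eq_one.1 this
    · rintro rfl w hw
      rw [MonoidHom.mul_apply, hφ w hw, one_mul]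
  rw [if_neg hφ0]
  simp only [hiff]
  split_ifs <;> ring

end alphaSec

end Cfsg.Agent.OddOrderCharacters.PF10.Ctx
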