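import Cfsg.Agent.OddOrderCharacters.PF10.Defs
import Cfsg.Agent.OddOrderCharacters.PF10.Bridge0
import Cfsg.Agent.OddOrderCharacters.PF4b.Prime

/-!
# Peterfalvi, Section 10: `τ(α_ij - α_0j)` and the class function `τ(μ_0 - ζ)`
-/

set_option autoImplicit false
set_option linter.unusedSectionVars false

open scoped ComplexConjugate
open Cfsg Cfsg.Agent.Characters.Core Cfsg.Agent.OddOrderCharacters.VChar
  Cfsg.Agent.OddOrderCharacters.PFDefs Cfsg.Agent.OddOrderCharacters.ColSum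
  Cfsg.Agent.OddOrderCharacters.PF4b.TIFam Cfsg.Agent.OddOrderCharacters.PF4b.Prime
  Cfsg.Agent.OddOrderCharacters.PF10.Ctx Cfsg.Agent.OddOrderCharacters.PF10.Defs
  Cfsg.Agent.OddOrderCharacters.PF10.Bridge Cfsg.Agent.OddOrderCharacters.PF10.Bridge0

universe u

namespace Cfsg.Agent.OddOrderCharacters.PF10.Psi

variable {G : Type u} [Group G] [Fintype G] {L K W W₁ W₂ : Subgroup G} [Fintype ↥L]
  {A A₀ : Set G} {R : G → Subgroup G}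
  {μ : (↥W →* ℂˣ) → (↥L → ℂ)} {δ : (↥W →* ℂˣ) → ℤ} {η : (↥W →* ℂˣ) → (G → ℂ)}
  {d : ℕ} {e n : ℤ} {ζ : ↥L → ℂ} {φ ψ : ↥W →* ℂˣ}

/-- `e (α_ij - α_0j)` is induced from `W`. -/
theorem bridge_sub_eq_ind (h : Hyp L K W W₁ W₂ A A₀ R μ δ η d e n)
    (hφ : φ ∈ lin₁ W W₂) (hψ : ψ ∈ lin₁ W W₁) (hψ1 : ψ ≠ 1) :
    indFun (W.subgroupOf L) (fun w : ↥(W.subgroupOf L) =>
      ((φ ⟨(w : ↥L), w.2⟩ : ℂ) - 1) * ((ψ ⟨(w : ↥L), w.2⟩ : ℂ) - 1)) =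
      (e : ℂ) • (Ctx.alpha μ e n ζ φ ψ - Ctx.alpha μ e n ζ 1 ψ) := by
  have hd := direct h.hD
  have h1 := h.hμ.ind_sub (φ * ψ) ψ
    (fun w hw => by rw [MonoidHom.mul_apply, hφ w hw, one_mul])
    (fun w => ((φ * ψ) ⟨(w : ↥L), w.2⟩ : ℂ) - (ψ ⟨(w : ↥L), w.2⟩ : ℂ)) (fun w hw => rfl)
  have h2 := h.hμ.ind_sub φ 1 (fun w hw => by rw [hφ w hw]; rfl)
    (fun w => (φ ⟨(w : ↥L), w.2⟩ : ℂ) - ((1 : ↥W →* ℂˣ) ⟨(w : ↥L), w.2⟩ : ℂ)) (fun w hw => rfl)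
  rw [h.sgn _ (mul_notMem_lin₁ h.hD hφ hψ hψ1)] at h1
  rw [(mu_lin₁ h.hD.primeTI h.hμ hφ).2] at h2
  have h3 : (fun w : ↥(W.subgroupOf L) =>
      ((φ ⟨(w : ↥L), w.2⟩ : ℂ) - 1) * ((ψ ⟨(w : ↥L), w.2⟩ : ℂ) - 1)) =
      (fun w : ↥(W.subgroupOf L) =>
        ((φ * ψ) ⟨(w : ↥L), w.2⟩ : ℂ) - (ψ ⟨(w : ↥L), w.2⟩ : ℂ)) -
      (fun w : ↥(W.subgroupOf L) =>
        (φ ⟨(w : ↥L), w.2⟩ : ℂ) - ((1 : ↥W →* ℂˣ) ⟨(w : ↥L), w.2⟩ : ℂ)) := by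
    funext w
    simp only [Pi.sub_apply, MonoidHom.mul_apply, MonoidHom.one_apply, Units.val_mul,
      Units.val_one]
    ring
  rw [h3, IndRes.indFun_sub, h1, h2]
  have hee : (e : ℂ) * e = 1 := by exact_mod_cast h.e_sq
  funext x
  simp only [alpha_def, Pi.sub_apply, Pi.smul_apply, smul_eq_mul, zsmul_eq_mul, Pi.mul_apply,
    Pi.intCast_apply, lin_one_mul]
  push_cast
  linear_combination (μ φ x - μ 1 x) * hee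

/-- `τ(α_ij - α_0j) = e (η_ij - η_i0 - η_0j + η_00)` -/
theorem tau_bridge_sub (h : Hyp L K W W₁ W₂ A A₀ R μ δ η d e n)
    (hφ : φ ∈ lin₁ W W₂) (hψ : ψ ∈ lin₁ W W₁) (hψ1 : ψ ≠ 1) :
    dadeIsometry A₀ L R (Ctx.alpha μ e n ζ φ ψ) - dadeIsometry A₀ L R (Ctx.alpha μ e n ζ 1 ψ) =
      (e : ℂ) • (η (φ * ψ) - η φ - η ψ + η 1) := by
  have hd := direct h.hD
  have hee : (e : ℂ) * e = 1 := by exact_mod_cast h.e_sq
  have h1 := dade_ind_W h.hD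
    (fun w : ↥W => ((φ w : ℂ) - ((1 : ↥W →* ℂˣ) w : ℂ)) * ((ψ w : ℂ) - ((1 : ↥W →* ℂˣ) w : ℂ)))
    (by
      rintro w (hw | hw)
      · rw [hψ w hw]
        simp
      · rw [hφ w hw]
        simp)
    (fun w : ↥(W.subgroupOf L) =>
      ((φ ⟨(w : ↥L), w.2⟩ : ℂ) - 1) * ((ψ ⟨(w : ↥L), w.2⟩ : ℂ) - 1))
    (fun w hw => by simp)
  rw [ind_rect h.hη hφ one_mem_lin₁ hψ one_mem_lin₁, bridge_sub_eq_ind (ζ := ζ) h hφ hψ hψ1] at h1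
  have h2 : dadeIsometry A₀ L R ((e : ℂ) • (Ctx.alpha μ e n ζ φ ψ - Ctx.alpha μ e n ζ 1 ψ)) =
      e • (dadeIsometry A₀ L R (Ctx.alpha μ e n ζ φ ψ) -
        dadeIsometry A₀ L R (Ctx.alpha μ e n ζ 1 ψ)) := by
    rw [← dade_sub, ← dade_zsmul]
    congr 1
    funext x
    simp [zsmul_eq_mul]
  rw [h2] at h1
  rw [lin_mul_one, lin_one_mul, lin_one_mul] at h1
  funext g
  have h3 := congrFun h1 g
  rw [zsmul_val] at h3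
  simp only [Pi.sub_apply, Pi.add_apply, Pi.smul_apply, smul_eq_mul] at h3 ⊢
  linear_combination (e : ℂ) * h3 - (dadeIsometry A₀ L R (Ctx.alpha μ e n ζ φ ψ) g -
    dadeIsometry A₀ L R (Ctx.alpha μ e n ζ 1 ψ) g) * hee

theorem psi_supp (h : Hyp L K W W₁ W₂ A A₀ R μ δ η d e n) (hζ : IsZeta L K W₁ ζ) (x : ↥L)
    (hx : (x : G) ∉ A) : (colSum W W₂ μ 1 - ζ) x = 0 :=
  mu0_sub_supp h.hD h.hμ hζ.mem hζ.deg x hx

theorem psi_supp₀ (h : Hyp L K W W₁ W₂ A A₀ R μ δ η d e n) (hζ : IsZeta L K W₁ ζ) (x : ↥L)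
    (hx : (x : G) ∉ A₀) : (colSum W W₂ μ 1 - ζ) x = 0 :=
  psi_supp h hζ x fun hxA => hx (A_subset_A₀ h.hD hxA)

theorem psi_gen (h : Hyp L K W W₁ W₂ A A₀ R μ δ η d e n) (hζ : IsZeta L K W₁ ζ) :
    IsGeneralizedCharacter ↥L (colSum W W₂ μ 1 - ζ) := mu0_sub_gen h.hD h.hμ hζ.irr

theorem psi_class (h : Hyp L K W W₁ W₂ A A₀ R μ δ η d e n) (hζ : IsZeta L K W₁ ζ) :
    IsClassFunction ↥L (colSum W W₂ μ 1 - ζ) := gen_isClassFunction (psi_gen h hζ)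

theorem tau_psi_gen (h : Hyp L K W W₁ W₂ A A₀ R μ δ η d e n) (hζ : IsZeta L K W₁ ζ) :
    IsGeneralizedCharacter G (dadeIsometry A₀ L R (colSum W W₂ μ 1 - ζ)) :=
  dade_gen h.hD (psi_gen h hζ) (psi_supp₀ h hζ)

theorem tau_psi_norm (h : Hyp L K W W₁ W₂ A A₀ R μ δ η d e n) (hζ : IsZeta L K W₁ ζ) :
    classInner (dadeIsometry A₀ L R (colSum W W₂ μ 1 - ζ))
      (dadeIsometry A₀ L R (colSum W W₂ μ 1 - ζ)) = (Nat.card ↥W₁ : ℂ) + 1 := by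
  rw [dade_inner h.hD (psi_class h hζ) (psi_supp₀ h hζ) (psi_class h hζ) (psi_supp₀ h hζ),
    mu0_sub_norm h.hD h.hμ hζ.irr hζ.mem]

theorem tau_psi_one (h : Hyp L K W W₁ W₂ A A₀ R μ δ η d e n) (hζ : IsZeta L K W₁ ζ) :
    classInner (dadeIsometry A₀ L R (colSum W W₂ μ 1 - ζ)) (fun _ => 1) = 1 := by
  rw [inner_dade_one h.hD.dade (psi_class h hζ) (psi_supp₀ h hζ),
    inner_mu0_sub_one h.hD h.hμ hζ.irr hζ.mem]

/-- `(μ_0 - ζ, α_ij) = n - e` -/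
theorem inner_psi_bridge (h : Hyp L K W W₁ W₂ A A₀ R μ δ η d e n) (hζ : IsZeta L K W₁ ζ)
    (hφ : φ ∈ lin₁ W W₂) (hψ : ψ ∈ lin₁ W W₁) (hψ1 : ψ ≠ 1) :
    classInner (colSum W W₂ μ 1 - ζ) (Ctx.alpha μ e n ζ φ ψ) = (n : ℂ) - e := by
  classical
  have hd := direct h.hD
  have hon := mu_orthonormal h.hμ
  have h1 : classInner (colSum W W₂ μ 1) (μ (φ * ψ)) = 0 := by
    rw [inner_colSum_fam hd hon, if_neg]
    intro h'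
    exact mul_notMem_lin₁ h.hD hφ hψ hψ1 (fun w hw => (h' w hw).trans rfl)
  have h2 : classInner (colSum W W₂ μ 1) (μ φ) = 1 := by
    rw [inner_colSum_fam hd hon, if_pos]
    intro w hw
    rw [hφ w hw]
    rfl
  rw [alpha_def]
  simp only [classInner_sub_left, classInner_sub_right, classInner_zsmul_right, h1, h2,
    inner_colSum_zeta h.hD h.hμ hζ.irr hζ.mem, inner_zeta_mu h.hD h.hμ hζ.irr hζ.mem,
    classInner_irr_self hζ.irr]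
  ring

/-- `(τ(μ_0 - ζ), τ α_ij) = n - e` -/
theorem tau_psi_tau_bridge (h : Hyp L K W W₁ W₂ A A₀ R μ δ η d e n) (hζ : IsZeta L K W₁ ζ)
    (hφ : φ ∈ lin₁ W W₂) (hψ : ψ ∈ lin₁ W W₁) (hψ1 : ψ ≠ 1) :
    classInner (dadeIsometry A₀ L R (colSum W W₂ μ 1 - ζ))
      (dadeIsometry A₀ L R (Ctx.alpha μ e n ζ φ ψ)) = (n : ℂ) - e := by
  rw [dade_inner h.hD (psi_class h hζ) (psi_supp₀ h hζ) (alpha_classFun h hζ.irr φ ψ)
    (alpha_supp h hζ.mem hζ.deg hφ hψ hψ1), inner_psi_bridge h hζ hφ hψ hψ1]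

/-- `τ(μ_0 - ζ)` vanishes on `V`. -/
theorem tau_psi_V (h : Hyp L K W W₁ W₂ A A₀ R μ δ η d e n) (hζ : IsZeta L K W₁ ζ) (v : G)
    (hv : v ∈ cycTIset W W₁ W₂) : dadeIsometry A₀ L R (colSum W W₂ μ 1 - ζ) v = 0 :=
  tau_mu0_sub_V h.hD h.hμ hζ.irr hζ.mem v hv

/-- `τ β` vanishes off the Dade support of `A` for `β` supported in `A ⊆ A₀`. -/
theorem tau_off (hD : DadeHypothesis A₀ L R) {β : ↥L → ℂ} (hβ : IsClassFunction ↥L β)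
    (hβA : ∀ x : ↥L, (x : G) ∉ A → β x = 0) (g : G) (hg : g ∉ dadeSupport A R) :
    dadeIsometry A₀ L R β g = 0 := by
  by_cases hg0 : g ∈ DadeBasic.Supp A₀ R
  · obtain ⟨a, ha, u, hu, x, hx⟩ := hg0
    rw [DadeBasic.dadeIsometry_apply hD hβ ⟨a, hD.subset ha⟩ ha hu hx]
    apply hβA
    intro haA
    exact hg ⟨a, haA, u, hu, x, hx⟩
  · exact DadeBasic.dadeIsometry_eq_zero hg0

/-- `τ(μ_0 - ζ)` vanishes off the Dade support of `K#`. -/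
theorem tau_psi_off (h : Hyp L K W W₁ W₂ A A₀ R μ δ η d e n) (hζ : IsZeta L K W₁ ζ) (g : G)
    (hg : g ∉ dadeSupport A R) : dadeIsometry A₀ L R (colSum W W₂ μ 1 - ζ) g = 0 :=
  tau_off h.hD.dade (psi_class h hζ) (psi_supp h hζ) g hg

end Cfsg.Agent.OddOrderCharacters.PF10.Psi
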