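import Cfsg.Agent.OddOrderCharacters.PF10.FrobCore
import Cfsg.Agent.OddOrderCharacters.PF10.Defs
import Cfsg.Agent.OddOrderCharacters.PF10.Psi
import Cfsg.Agent.OddOrderCharacters.PF8.DadeHyp
import Cfsg.Agent.OddOrderCharacters.PF9.Kernel
import Cfsg.Agent.OddOrderCharacters.PF9.Reducible
import Cfsg.Agent.OddOrderCharacters.PF4
import Cfsg.Agent.OddOrderCharacters.PF3bGal
import Cfsg.Agent.OddOrderCharacters.PF9.FromTypeP
import Cfsg.Agent.OddOrderCharacters.PF9.Nine
import Cfsg.Agent.OddOrderCharacters.PF10.FrobAux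

/-!
# Peterfalvi (10.7)

If `M` is not of Type II and `τ(μ_0 - ζ) = ∑_i η_i0 - χ`, then `T'` is a Frobenius group with kernel `T_F`, `T` the
partner of `M`.
-/

set_option autoImplicit false

open scoped ComplexConjugate
open Cfsg Cfsg.Agent.Characters.Core Cfsg.Agent.OddOrderCharacters.VChar
  Cfsg.Agent.OddOrderCharacters.PFDefs Cfsg.Agent.OddOrderCharacters.ColSum
  Cfsg.Agent.OddOrderCharacters.PF10.Defs Cfsg.Agent.OddOrderCharacters.PF10.FrobCore

namespace Cfsg.Agent.OddOrderCharacters.PF10.Frob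

universe u

section general

variable {G : Type u} [Group G] [Fintype G]

/-- Functions with disjoint supports are orthogonal. -/
theorem inner_eq_zero_of_disjoint {A B : Set G} (h : Disjoint A B) {α β : G → ℂ}
    (hα : ∀ g, g ∉ A → α g = 0) (hβ : ∀ g, g ∉ B → β g = 0) : classInner α β = 0 := by
  rw [classInner_def, Finset.sum_eq_zero, mul_zero]
  intro g _
  by_cases hg : g ∈ A
  · rw [hβ g (fun h' => Set.disjoint_left.1 h hg h'), map_zero, mul_zero]
  · rw [hα g hg, zero_mul]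

variable {L : Subgroup G}

theorem seqIndD_subset {L : Type u} [Group L] [Fintype L] {K X Y Z : Subgroup L} (h : Z ≤ Y) :
    seqIndD K X Y ⊆ seqIndD K X Z := by
  rintro φ ⟨θ, h1, h2, h3, h4⟩
  exact ⟨θ, h1, h2, fun y hy => h3 y (h hy), h4⟩

omit [Fintype G] in
/-- Members of `seqIndOf L K X Y` are class functions. -/
theorem isClassFunction_of_mem [Fintype ↥L] {K X Y : Subgroup G} {φ : ↥L → ℂ}
    (h : φ ∈ seqIndOf L K X Y) : IsClassFunction ↥L φ := by
  obtain ⟨θ, -, -, -, rfl⟩ := h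
  exact IndRes.isClassFunction_indFun _ _

end general

section main

variable {G : Type u} [Group G] [Fintype G] {M W₁ U W₂ W T V : Subgroup G} [Fintype ↥M] [Fintype ↥T]
  {μ : (↥W →* ℂˣ) → (↥M → ℂ)} {δ : (↥W →* ℂˣ) → ℤ} {η : (↥W →* ℂˣ) → (G → ℂ)} {ζ : ↥M → ℂ}
  {χ : G → ℂ} {d : ℕ} {e n : ℤ}

/-- (10.7), EXPORTED: if `T` is the partner of `M`, then `T'` is a Frobenius group with kernel `T_F`. -/
theorem partner_frobenius (h : HypM M W₁ U W₂ W μ δ η d e n) (hζ : IsZeta M ⁅M, M⁆ W₁ ζ)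
    (hχ : IsChi W W₂ (tauOf M) μ η ζ χ) (hT : IsCoatom T) (hTP : IsTypePWith T W₂ V W₁)
    (hTII : IsOfTypeII T) (_hMT : M ⊓ T = W) :
    ∀ x ∈ fittingHallOf T, x ≠ 1 → ∀ y ∈ ⁅T, T⁆, y * x = x * y → y ∈ fittingHallOf T := by
  classical
  have hG := h.hG
  have hoddG : Odd (Nat.card G) := hG.1
  have hoddT : Odd (Nat.card T) := hoddG.of_dvd_nat (Subgroup.card_subgroup_dvd_card T)
  have hWT : W₂ ⊔ W₁ = W := by rw [sup_comm]; exact h.sup_eq
  -- the prime Dade hypothesis for `T`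
  have hD : PrimeDadeHyp T ⁅T, T⁆ (fittingHallOf T) (typeA' T) (typeA0' T) W W₂ W₁
      (supportR T) := by
    rw [← hWT]
    exact PF8.primeDadeHypF hG hT hTP
  have hη : CyclicTIFam W W₂ W₁ η := h.hyp.hη.symm
  obtain ⟨μT, δT, hμT⟩ := PF4.exists_primeTIFam hD.primeTI
  -- (9.4)-(9.6) for `T`
  have hyp := PF9.FromTypeP.hyp_of_typeP T W₂ V W₁ hG hT hTP (Or.inl hTII)
  obtain ⟨H₀, hk⟩ := PF9.Kernel.exists_kernel hyp
  obtain ⟨C, p, s⟩ := PF9.Kernel.setup_of_kernel hyp hk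
  rcases PF9.Nine.reducible_core_cases s with ⟨lam, hlam, hlamS, hlam1, -⟩ | ⟨-, -, hcyc, -, -⟩
  swap
  · have hV : IsCyclic ↥V :=
      isCyclic_of_surjective
        (Subgroup.subgroupOfEquivOfLe
          (hTP.U_compl.2.1.trans (Subgroup.commutator_le_self T))).toMonoidHom
        (Subgroup.subgroupOfEquivOfLe _).surjective
    exact PF10.FrobAux.frobenius_of_isCyclic hTP hTII hV
  exfalso
  -- a reducible member
  obtain ⟨hcount, hred⟩ := PF9.Reducible.reducible_members s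
  have hp2 : 2 < p := by
    have h1 := s.p_prime.two_le
    have h2 := s.p_odd
    rcases lt_or_eq_of_le h1 with h3 | h3
    · exact h3
    · rw [← h3] at h2
      exact absurd h2 (by decide)
  have hne : {ζ | ζ ∈ PFDefs.seqIndD (⁅T, T⁆.subgroupOf T) ((fittingHallOf T).subgroupOf T) H₀ ∧
      ¬ IsIrrCharacter ↥T ζ}.Nonempty := by
    rw [Set.nonempty_iff_ne_empty]
    intro h0
    rw [h0, Set.ncard_empty] at hcount
    omega
  obtain ⟨ν, hνS, hνirr⟩ := hne
  have hν1 := (hred ν hνS hνirr).degree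
  have hνS' : ν ∈ seqIndOf T ⁅T, T⁆ (fittingHallOf T) ⊥ :=
    seqIndD_subset (by simp) hνS
  have hlamS' : lam ∈ seqIndOf T ⁅T, T⁆ (fittingHallOf T) ⊥ :=
    seqIndD_subset (by simp) hlamS
  obtain ⟨ω₀, hω₀⟩ : ∃ ω, ν = colSum W W₁ μT ω := by
    rcases PF4b.Prime.seqIndOf_cases hD.primeTI hμT hνS' with h1 | h1
    · exact absurd h1 hνirr
    · exact h1
  subst hω₀
  -- supports
  have hdisj := PF10.FrobAux.disjoint_supports h hT hTP hTII
  -- `τ_T` is supported on the Dade support of `A(T)`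
  have hτT : ∀ α ∈ zspanOn (seqIndOf T ⁅T, T⁆ (fittingHallOf T) ⊥) {1}ᶜ,
      ∀ g, g ∉ dadeSupport (typeA' T) (supportR T) →
        dadeIsometry (typeA0' T) T (supportR T) α g = 0 := by
    intro α hα g hg
    have hαcl : IsClassFunction ↥T α := by
      refine zspan_induction (p := fun α => IsClassFunction ↥T α) ?_
        (fun φ hφ => isClassFunction_of_mem hφ) ?_ ?_ hα.1
      · intro x y; rfl
      · intro a _ b _ ha hb x y
        rw [Pi.add_apply, Pi.add_apply, ha, hb]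
      · intro m a _ ha x y
        rw [Pi.smul_apply, Pi.smul_apply, ha]
    have hαA : ∀ x : ↥T, (x : G) ∉ typeA' T → α x = 0 := by
      intro x hx
      by_cases hx1 : x = 1
      · exact hα.2 x (by simpa using hx1)
      · refine zspan_induction (p := fun α => α x = 0) rfl
          (fun φ hφ => PF4b.Prime.prDade_seqInd_on hD hφ x hx1 hx) ?_ ?_ hα.1
        · intro a _ b _ ha hb
          rw [Pi.add_apply, ha, hb, add_zero]
        · intro m a _ ha
          rw [Pi.smul_apply, ha, smul_zero]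
    rw [← PF8.dadeIsometry_eq hG hT (typeA' T) (Or.inl rfl) α hαcl hαA]
    exact DadeBasic.dadeIsometry_eq_zero hg
  -- `τ_M (μ_0 - ζ)` is supported on the Dade support of `A₁(M)`
  have hτM : ∀ g, g ∉ dadeSupport (sharp ⁅M, M⁆) (supportR M) →
      tauOf M (colSum W W₂ μ 1 - ζ) g = 0 := fun g hg => PF10.Psi.tau_psi_off h.hyp hζ g hg
  set Ψ : G → ℂ := colSum W W₂ η 1 - χ with hΨ
  have hΨ0 : ∀ g, g ∉ dadeSupport (sharp ⁅M, M⁆) (supportR M) → Ψ g = 0 := by
    intro g hg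
    rw [hΨ, ← hχ.eq]
    exact hτM g hg
  have hlamconj : conjFun lam ∈ seqIndOf T ⁅T, T⁆ (fittingHallOf T) ⊥ :=
    conjFun_mem_seqIndOf hlamS'
  have hreal : conj (lam 1) = lam 1 := by
    obtain ⟨m, hm⟩ := gen_apply_one (gen_of_irr hlam)
    rw [hm]; simp
  refine FrobCore.core hD hμT hη hoddT hlamS' hlam hνS' ?_ hχ.gen hχ.norm hχ.ortho ?_ ?_
  · rw [hν1, hlam1]
  · refine inner_eq_zero_of_disjoint hdisj.symm (hτT _ ⟨zspan_sub (zspan_subset hνS')
      (zspan_subset hlamS'), fun x hx => ?_⟩) hΨ0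
    have hx1 : x = 1 := by simpa using hx
    rw [hx1, Pi.sub_apply, hν1, hlam1, sub_self]
  · -- `χ - conj χ = conj Ψ - Ψ`
    have hconj : conjFun (colSum W W₂ η 1) = colSum W W₂ η 1 := by
      rw [PF3bGal.conjFun_colSum h.hyp.hη h.hyp.hD.cyclicTI]
      congr 1
    have e2 : χ - conjFun χ = conjFun Ψ - Ψ := by
      rw [hΨ, conjFun_sub, hconj]
      abel
    refine inner_eq_zero_of_disjoint hdisj.symm (hτT _ ⟨zspan_sub (zspan_subset hlamS')
      (zspan_subset hlamconj), fun x hx => ?_⟩) ?_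
    · have hx1 : x = 1 := by simpa using hx
      rw [hx1, Pi.sub_apply]
      show lam 1 - conj (lam 1) = 0
      rw [hreal, sub_self]
    · intro g hg
      rw [e2, Pi.sub_apply, conjFun_apply, hΨ0 g hg, map_zero, sub_zero]

end main

end Cfsg.Agent.OddOrderCharacters.PF10.Frob
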