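import Mathlib
import Cfsg.Agent.OddOrderCharacters.PFDefs
import Cfsg.Agent.OddOrderCharacters.VChar
import Cfsg.Agent.OddOrderCharacters.PF3bGroup
import Cfsg.Agent.OddOrderCharacters.PF3bGal

/-!
# Peterfalvi (10.8): parity and numerics

* `colSum_eta_odd`: the value of `∑_i η_i0` at an element of order prime to `|W₁|` is an odd integer;
* `bound_of_cover`: if a class function of norm one has absolute value at least one outside three
  subsets of `G`, with a lower bound for its norm on the first one, then the densities satisfy an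
  inequality;
* `numerics`: the final contradiction.
-/

set_option autoImplicit false

open scoped ComplexConjugate
open Cfsg Cfsg.Agent.OddOrderCharacters.PFDefs

namespace Cfsg.Agent.OddOrderCharacters.PF10.NoncohNum

section parity

/-- A sum of integers over a finite set with an involution fixing only one point, where the summand
is `1`, is odd. -/
theorem odd_sum_of_involution {ι : Type*} (s : Finset ι) (f : ι → ℤ) (inv : ι → ι)
    (a₀ : ι) (h0 : a₀ ∈ s) (hf0 : f a₀ = 1)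
    (hmem : ∀ a ∈ s, a ≠ a₀ → inv a ∈ s) (hne : ∀ a ∈ s, a ≠ a₀ → inv a ≠ a₀)
    (hne' : ∀ a ∈ s, a ≠ a₀ → inv a ≠ a) (hf : ∀ a ∈ s, a ≠ a₀ → f (inv a) = f a)
    (hinv : ∀ a ∈ s, a ≠ a₀ → inv (inv a) = a) : Odd (∑ a ∈ s, f a) := by
  classical
  have hpar : ((∑ a ∈ s, f a : ℤ) : ZMod 2) = 1 := by
    rw [← Finset.add_sum_erase _ _ h0, hf0]
    push_cast
    have hzero : ∑ a ∈ s.erase a₀, ((f a : ℤ) : ZMod 2) = 0 := by
      refine Finset.sum_involution (fun a _ => inv a) ?_ ?_ ?_ ?_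
      · intro a ha
        have ha' := Finset.mem_erase.mp ha
        rw [hf a ha'.2 ha'.1]
        exact CharTwo.add_self_eq_zero _
      · intro a ha _
        have ha' := Finset.mem_erase.mp ha
        exact hne' a ha'.2 ha'.1
      · intro a ha
        have ha' := Finset.mem_erase.mp ha
        exact Finset.mem_erase.mpr ⟨hne a ha'.2 ha'.1, hmem a ha'.2 ha'.1⟩
      · intro a ha
        have ha' := Finset.mem_erase.mp ha
        exact hinv a ha'.2 ha'.1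
    rw [hzero, add_zero]
  rw [← Int.not_even_iff_odd]
  intro he
  rw [(ZMod.intCast_zmod_eq_zero_iff_dvd _ 2).mpr (by exact_mod_cast he.two_dvd)] at hpar
  exact absurd hpar (by decide)

variable {G : Type*} [Group G] {W W₁ W₂ : Subgroup G}
  {η : (↥W →* ℂˣ) → (G → ℂ)}

/-- A linear character of `W = W₁ W₂` trivial on `W₂` has order dividing `|W₁|`. -/
theorem pow_card_eq_one_of_lin₁ [Finite G] (hW : CyclicTIHyp W W₁ W₂)
    {φ : ↥W →* ℂˣ} (hφ : φ ∈ lin₁ W W₂) : φ ^ (Nat.card W₁) = 1 := by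
  have h1 : W₁ ≤ W := PF3bGroup.le₁ hW
  have h2 : W₂ ≤ W := PF3bGroup.le₂ hW
  apply MonoidHom.ext
  intro w
  rw [MonoidHom.pow_apply, MonoidHom.one_apply]
  obtain ⟨a, ha, b, hb, hab⟩ := PF3bGroup.exists_mul hW w.2
  have e1 : w = ⟨a, h1 ha⟩ * ⟨b, h2 hb⟩ := Subtype.ext hab.symm
  have e2 : φ ⟨b, h2 hb⟩ = 1 := hφ _ hb
  rw [e1, map_mul, e2, mul_one, ← map_pow]
  have e3 : (⟨a, h1 ha⟩ : ↥W) ^ Nat.card W₁ = 1 := by
    apply Subtype.ext
    have h5 : (⟨a, ha⟩ : ↥W₁) ^ Nat.card W₁ = 1 := pow_card_eq_one'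
    have h6 := congrArg Subtype.val h5
    rw [Subgroup.coe_pow, Subgroup.coe_one] at h6
    rw [Subgroup.coe_pow, Subgroup.coe_one]
    exact h6
  rw [e3, map_one]

theorem orderOf_dvd_of_lin₁ [Finite G] (hW : CyclicTIHyp W W₁ W₂)
    {φ : ↥W →* ℂˣ} (hφ : φ ∈ lin₁ W W₂) : orderOf φ ∣ Nat.card W₁ :=
  orderOf_dvd_of_pow_eq_one (pow_card_eq_one_of_lin₁ hW hφ)

theorem inv_mem_lin₁ {φ : ↥W →* ℂˣ} (hφ : φ ∈ lin₁ W W₂) : φ⁻¹ ∈ lin₁ W W₂ := by
  intro w hw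
  rw [MonoidHom.inv_apply, hφ w hw, inv_one]

theorem one_mem_lin₁ : (1 : ↥W →* ℂˣ) ∈ lin₁ W W₂ := fun _ _ => rfl

/-- **(10.6)(c), parity.** The value of `∑_i η_i0` at an element of order prime to `|W₁|` is an odd
integer. -/
theorem colSum_eta_odd [Fintype G] (hη : CyclicTIFam W W₁ W₂ η) (hW : CyclicTIHyp W W₁ W₂) {g : G}
    (hg : (orderOf g).Coprime (Nat.card W₁)) :
    ∃ n : ℤ, colSum W W₂ η 1 g = ((2 * n + 1 : ℤ) : ℂ) := by
  classical
  have hfin : (lin₁ W W₂).Finite := PF3bGal.finite_lin₁ (PF3bGroup.isCyclic hW)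
  have hint : ∀ φ ∈ lin₁ W W₂, ∃ n : ℤ, η φ g = n := fun φ hφ =>
    PF3bGal.eta_int hη hW (hg.coprime_dvd_right (orderOf_dvd_of_lin₁ hW hφ))
  choose! f hf using hint
  have hfinv : ∀ φ ∈ lin₁ W W₂, f φ⁻¹ = f φ := by
    intro φ hφ
    have h1 := hf _ (inv_mem_lin₁ hφ)
    rw [PF3bGal.eta_inv_apply hη hW, hf φ hφ] at h1
    have h2 : ((f φ : ℤ) : ℂ) = ((f φ⁻¹ : ℤ) : ℂ) := by
      rw [← h1]
      simp
    exact_mod_cast h2.symm
  have hf1 : f 1 = 1 := by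
    have h1 := hf 1 one_mem_lin₁
    rw [hη.map_one] at h1
    have h2 : ((f 1 : ℤ) : ℂ) = 1 := h1.symm
    exact_mod_cast h2
  have hsum : colSum W W₂ η 1 g = ((∑ φ ∈ hfin.toFinset, f φ : ℤ) : ℂ) := by
    unfold colSum
    rw [finsum_mem_eq_finite_toFinset_sum _ hfin, Finset.sum_apply, Int.cast_sum]
    apply Finset.sum_congr rfl
    intro φ hφ
    have e : φ * 1 = φ := mul_one φ
    rw [e]
    exact hf φ ((Set.Finite.mem_toFinset _).mp hφ)
  have hmem : ∀ φ : ↥W →* ℂˣ, φ ∈ hfin.toFinset ↔ φ ∈ lin₁ W W₂ := fun φ =>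
    Set.Finite.mem_toFinset _
  obtain ⟨n, hn⟩ := odd_sum_of_involution hfin.toFinset f (fun φ => φ⁻¹) 1
    ((hmem _).mpr one_mem_lin₁) hf1
    (fun φ hφ _ => (hmem _).mpr (inv_mem_lin₁ ((hmem _).mp hφ)))
    (fun φ _ hne h => hne (by
      have h7 : (φ⁻¹)⁻¹ = φ := inv_inv φ
      rw [← h7, h]
      exact MonoidHom.ext fun w => by rw [MonoidHom.inv_apply, MonoidHom.one_apply, inv_one]))
    (fun φ _ hne => PF3bGal.inv_ne_of_odd hW.odd hne)
    (fun φ hφ _ => hfinv φ ((hmem _).mp hφ)) (fun φ _ _ => inv_inv φ)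
  exact ⟨n, by rw [hsum, hn]⟩

theorem one_le_norm_colSum_eta [Fintype G] (hη : CyclicTIFam W W₁ W₂ η)
    (hW : CyclicTIHyp W W₁ W₂) {g : G}
    (hg : (orderOf g).Coprime (Nat.card W₁)) : 1 ≤ ‖colSum W W₂ η 1 g‖ := by
  obtain ⟨n, hn⟩ := colSum_eta_odd hη hW hg
  rw [hn, Complex.norm_intCast]
  have : (1 : ℤ) ≤ |2 * n + 1| := Int.one_le_abs (by omega)
  exact_mod_cast this

end parity

section counting

variable {G : Type*} [Group G] [Fintype G]

/-- Three sets `A`, `B`, `C`, a class function `χ` of norm one with `|χ| ≥ 1` outside of `A ∪ B ∪ C`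
and average norm at least `c` over `A`. -/
theorem bound_of_cover {χ : G → ℂ} (hχ : classInner χ χ = 1) (A B C : Set G) {c : ℝ}
    (hA : c ≤ (Nat.card G : ℝ)⁻¹ * ∑ᶠ g ∈ A, ‖χ g‖ ^ 2)
    (hone : ∀ g, g ∉ A → g ∉ B → g ∉ C → 1 ≤ ‖χ g‖) :
    c ≤ (Nat.card A : ℝ) / Nat.card G + (Nat.card B : ℝ) / Nat.card G +
      (Nat.card C : ℝ) / Nat.card G := by
  classical
  have hG : (0 : ℝ) < Nat.card G := by exact_mod_cast Nat.card_pos
  have h1 : (Nat.card G : ℝ)⁻¹ * ∑ g : G, ‖χ g‖ ^ 2 = 1 := by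
    have h2 := VChar.classInner_self_eq χ
    rw [hχ] at h2
    exact_mod_cast h2.symm
  have h2 : ∑ g : G, ‖χ g‖ ^ 2 = Nat.card G := by
    field_simp at h1
    exact h1
  have hfA : ∑ᶠ g ∈ A, ‖χ g‖ ^ 2 = ∑ g ∈ A.toFinset, ‖χ g‖ ^ 2 := by
    rw [← finsum_mem_coe_finset]
    simp
  have h3 : ∑ g ∈ A.toFinset, ‖χ g‖ ^ 2 + ((A ∪ B ∪ C)ᶜ.toFinset.card : ℝ) ≤ ∑ g : G, ‖χ g‖ ^ 2 := by
    have hdisj : Disjoint A.toFinset (A ∪ B ∪ C)ᶜ.toFinset := by
      rw [Set.disjoint_toFinset, Set.disjoint_compl_right_iff_subset]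
      exact Set.subset_union_of_subset_left Set.subset_union_left _
    have h4 : ((A ∪ B ∪ C)ᶜ.toFinset.card : ℝ) ≤ ∑ g ∈ (A ∪ B ∪ C)ᶜ.toFinset, ‖χ g‖ ^ 2 := by
      have h5 : ∑ g ∈ (A ∪ B ∪ C)ᶜ.toFinset, (1 : ℝ) ≤ ∑ g ∈ (A ∪ B ∪ C)ᶜ.toFinset, ‖χ g‖ ^ 2 := by
        apply Finset.sum_le_sum
        intro g hg
        rw [Set.mem_toFinset, Set.mem_compl_iff, Set.mem_union, Set.mem_union, not_or, not_or] at hg
        exact one_le_pow₀ (hone g hg.1.1 hg.1.2 hg.2)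
      simpa using h5
    calc ∑ g ∈ A.toFinset, ‖χ g‖ ^ 2 + ((A ∪ B ∪ C)ᶜ.toFinset.card : ℝ)
        ≤ ∑ g ∈ A.toFinset, ‖χ g‖ ^ 2 + ∑ g ∈ (A ∪ B ∪ C)ᶜ.toFinset, ‖χ g‖ ^ 2 := by linarith
      _ = ∑ g ∈ A.toFinset ∪ (A ∪ B ∪ C)ᶜ.toFinset, ‖χ g‖ ^ 2 := (Finset.sum_union hdisj).symm
      _ ≤ ∑ g : G, ‖χ g‖ ^ 2 :=
        Finset.sum_le_sum_of_subset_of_nonneg (Finset.subset_univ _) fun _ _ _ => by positivity
  have hcA : (Nat.card A : ℝ) = A.toFinset.card := by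
    rw [Nat.card_eq_fintype_card, Set.toFinset_card]
  have hcB : (Nat.card B : ℝ) = B.toFinset.card := by
    rw [Nat.card_eq_fintype_card, Set.toFinset_card]
  have hcC : (Nat.card C : ℝ) = C.toFinset.card := by
    rw [Nat.card_eq_fintype_card, Set.toFinset_card]
  have h6 : (Nat.card G : ℝ) ≤ A.toFinset.card + B.toFinset.card + C.toFinset.card +
      (A ∪ B ∪ C)ᶜ.toFinset.card := by
    have h7 : (Finset.univ : Finset G) ⊆
        A.toFinset ∪ B.toFinset ∪ C.toFinset ∪ (A ∪ B ∪ C)ᶜ.toFinset := by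
      intro g _
      simp only [Finset.mem_union, Set.mem_toFinset, Set.mem_compl_iff, Set.mem_union]
      tauto
    have h8 := Finset.card_le_card h7
    rw [Finset.card_univ, ← Nat.card_eq_fintype_card] at h8
    have h9 : (A.toFinset ∪ B.toFinset ∪ C.toFinset ∪ (A ∪ B ∪ C)ᶜ.toFinset).card ≤
        A.toFinset.card + B.toFinset.card + C.toFinset.card + (A ∪ B ∪ C)ᶜ.toFinset.card := by
      refine (Finset.card_union_le _ _).trans (Nat.add_le_add_right ?_ _)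
      refine (Finset.card_union_le _ _).trans (Nat.add_le_add_right ?_ _)
      exact Finset.card_union_le _ _
    exact_mod_cast h8.trans h9
  rw [hcA, hcB, hcC, ← add_div, ← add_div, le_div_iff₀ hG]
  rw [hfA] at hA
  have h10 : c * Nat.card G ≤ ∑ g ∈ A.toFinset, ‖χ g‖ ^ 2 := by
    have h11 := mul_le_mul_of_nonneg_right hA hG.le
    have h12 : (Nat.card G : ℝ)⁻¹ * (∑ g ∈ A.toFinset, ‖χ g‖ ^ 2) * Nat.card G =
        ∑ g ∈ A.toFinset, ‖χ g‖ ^ 2 := by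
      field_simp
    linarith
  linarith

/-- The numerical contradiction at the end of (10.8).  `m = |M'|`, `h = |T_F|`, `u = |U_T|`. -/
theorem numerics {w₁ w₂ m h u : ℝ} (hw₁ : 3 ≤ w₁) (hw₂ : 0 < w₂) (hm : w₂ * (2 * w₁ + 1) ≤ m)
    (hh : 1 ≤ h) (hu : 3 ≤ u)
    (hne : (w₁ ≤ 7 ∧ 1 / w₁ + 1 / u ≤ 8 / 15) ∨ 9 ≤ w₁)
    (hb : 1 - w₁ / m ≤ (m - 1) / (m * w₁) + (1 - 1 / w₁) * (1 - 1 / w₂) +
      (h - 1) / (h * u * w₂)) : False := by
  have hm0 : 0 < m := lt_of_lt_of_le (by positivity) hm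
  have h1 : (m - 1) / (m * w₁) ≤ 1 / w₁ := by
    rw [div_le_div_iff₀ (by positivity) (by positivity)]
    nlinarith
  have h2 : (h - 1) / (h * u * w₂) < 1 / (u * w₂) := by
    rw [div_lt_div_iff₀ (by positivity) (by positivity)]
    have : 0 < u * w₂ := by positivity
    nlinarith
  have h3 : w₁ / m ≤ w₁ / (w₂ * (2 * w₁ + 1)) := by
    apply div_le_div_of_nonneg_left (by positivity) (by positivity) hm
  have h4 : 1 - w₁ / (w₂ * (2 * w₁ + 1)) < 1 / w₁ + (1 - 1 / w₁) * (1 - 1 / w₂) +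
      1 / (u * w₂) := by linarith
  have h5 : 1 - 1 / w₁ - 1 / u < w₁ / (2 * w₁ + 1) := by
    have h6 := mul_lt_mul_of_pos_left h4 hw₂
    have e1 : w₂ * (1 - w₁ / (w₂ * (2 * w₁ + 1))) = w₂ - w₁ / (2 * w₁ + 1) := by
      field_simp
    have e2 : w₂ * (1 / w₁ + (1 - 1 / w₁) * (1 - 1 / w₂) + 1 / (u * w₂)) =
        w₂ - (1 - 1 / w₁) + 1 / u := by
      field_simp
      ring
    rw [e1, e2] at h6
    linarith
  rcases hne with ⟨h7, h8⟩ | h9
  · have h10 : w₁ / (2 * w₁ + 1) ≤ 7 / 15 := by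
      rw [div_le_div_iff₀ (by positivity) (by positivity)]
      linarith
    linarith
  · have h10 : w₁ / (2 * w₁ + 1) < 1 / 2 := by
      rw [div_lt_div_iff₀ (by positivity) (by positivity)]
      linarith
    have h11 : 1 / w₁ ≤ 1 / 9 := one_div_le_one_div_of_le (by norm_num) h9
    have h12 : 1 / u ≤ 1 / 3 := one_div_le_one_div_of_le (by norm_num) hu
    linarith

end counting

end Cfsg.Agent.OddOrderCharacters.PF10.NoncohNum
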