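import Cfsg.Agent.OddOrderCharacters.PF10.Defs
import Cfsg.Agent.OddOrderCharacters.PF10.Setup
import Cfsg.Agent.OddOrderCharacters.PF10.NoncohFinal
import Cfsg.Agent.OddOrderCharacters.PF8.TypeP
import Cfsg.Agent.OddOrderCharacters.TypeExclusive
import Cfsg.Agent.OddOrderCharacters.PF10.HypM
import Cfsg.Agent.OddOrderCharacters.PF10.Bridge
import Cfsg.Agent.OddOrderCharacters.PF10.Frob
import Cfsg.Agent.OddOrderCharacters.PF10.NoncohGroup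

/-!
# Peterfalvi (10.8)

For a maximal subgroup `M` of type P, not of type II, the set of the characters of `M` induced from the
nonprincipal irreducible characters of `M'` is not coherent.
-/

set_option autoImplicit false
set_option linter.unusedSectionVars false

open Cfsg
open Cfsg.Agent.OddOrderCharacters.PFDefs Cfsg.Agent.OddOrderCharacters.PF10.Defs
open Cfsg.Agent.OddOrderCharacters.PF10

universe u

namespace Cfsg.Agent.OddOrderCharacters.PF10.Noncoh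

section abs

variable {G : Type u} [Group G] [Fintype G] {L K W W₁ W₂ : Subgroup G} [Fintype ↥L]
  {A A₀ : Set G} {R : G → Subgroup G}
  {μ : (↥W →* ℂˣ) → (↥L → ℂ)} {δ : (↥W →* ℂˣ) → ℤ} {η : (↥W →* ℂˣ) → (G → ℂ)} {ζ : ↥L → ℂ}
  {d : ℕ} {e n : ℤ}

theorem A_eq_sharp (hD : PrimeDadeHyp L K K A A₀ W W₁ W₂ R) : A = PF7IndBasic.sharp K :=
  Set.ext fun _ => Ctx.mem_A_iff hD

/-- from (7.8)(b) and (10.6): with `χ = τ₁ ζ`, `χ^ρ = ζ` on `K#`; hence the lower bound. -/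
theorem norm_rho_ge (h : Ctx.Hyp L K W W₁ W₂ A A₀ R μ δ η d e n) (hζ : IsZeta L K W₁ ζ)
    {τ₁ : (↥L → ℂ) → (G → ℂ)} (hτ₁ : IsCohExt (seqIndOf L K K ⊥) (dadeIsometry A₀ L R) τ₁) :
    1 - (Nat.card ↥W₁ : ℝ) / Nat.card ↥K ≤
      (classInner (rho A L R (τ₁ ζ)) (rho A L R (τ₁ ζ))).re := by
  have hD := h.hD
  have hC := NoncohFinal.cohHyp hD hτ₁.iso hτ₁.ext hζ.mem hζ.irr hζ.deg
  have hn : (K.subgroupOf L).Normal := ⟨fun k hk x => by
    rw [Subgroup.mem_subgroupOf] at hk ⊢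
    exact hD.primeTI.normal x x.2 k hk⟩
  have h2 := PF7Bound.two_index_le (K := K.subgroupOf L) hC.mem hζ.irr hC.deg
    (Ctx.conj_ne h.odd hD hζ.irr hζ.mem)
  have h3 : Nat.card ↥(K.subgroupOf L) = Nat.card K :=
    Nat.card_congr (Subgroup.subgroupOfEquivOfLe hD.primeTI.le).toEquiv
  have h4 : (K.subgroupOf L).index = K.relIndex L := rfl
  rw [h3, h4] at h2
  have h1 := PF7Ind.norm_rho_nu_zeta hC (by omega)
  rw [NoncohFinal.relIndex_eq hD] at h1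
  rw [A_eq_sharp hD]
  exact h1

end abs

/-- (10.8), EXPORTED: the set `S(M)` is not coherent. -/
theorem FTtype345_noncoherence {G : Type u} [Group G] [Fintype G] {M W₁ U W₂ : Subgroup G}
    [Fintype ↥M] (hG : IsMinSimpleOddOrder G) (hM : IsCoatom M) (hP : IsTypePWith M W₁ U W₂)
    (hII : ¬ IsOfTypeII M) :
    ¬ IsCoherent (seqIndOf M ⁅M, M⁆ ⁅M, M⁆ ⊥) {1}ᶜ (tauOf M) := by
  rintro ⟨-, τ₁, hiso, hext⟩
  obtain ⟨μ, δ, η, d, e, n, h⟩ := HypM.exists_hypM hG hM hP hII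
  have hD := h.hyp.hD
  have hodd : Odd (Nat.card M) := h.hyp.odd
  obtain ⟨ζ, -, hζ1, hζ2, hζ3⟩ := Setup.exists_ref hD.primeTI h.hyp.hμ h.W₂_le h.derived_ne
  have hζ : IsZeta M ⁅M, M⁆ W₁ ζ := ⟨hζ2, hζ1, hζ3⟩
  have hτ₁ : IsCohExt (seqIndOf M ⁅M, M⁆ ⁅M, M⁆ ⊥)
      (dadeIsometry (typeA0' M) M (supportR M)) τ₁ := ⟨hiso, hext⟩
  have hχ := Bridge.coh_isChi h.hyp hζ hτ₁
  obtain ⟨T, V, hT, hTP, hMT, hTII⟩ := HypM.exists_partner h
  have _ : Fintype ↥T := Fintype.ofFinite _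
  have hfrob := Frob.partner_frobenius h hζ hχ hT hTP hTII hMT
  obtain ⟨hcT, hV⟩ := NoncohGroup.card_T hG hT hTP hTII
  have hK : Nat.card ↥W₂ * (2 * Nat.card ↥W₁ + 1) ≤ Nat.card ↥⁅M, M⁆ := by
    have h1 := Setup.two_mul_card_W₁_lt hD.primeTI h.W₂_le h.derived_ne hodd
    have h2 : Nat.card ↥W₂ ≤ Nat.card ↥⁅⁅M, M⁆, ⁅M, M⁆⁆ :=
      Nat.card_le_card_of_injective _ (Subgroup.inclusion_injective h.W₂_le)
    have h3 := (⁅⁅M, M⁆, ⁅M, M⁆⁆.subgroupOf ⁅M, M⁆).card_mul_index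
    have h4 : Nat.card ↥(⁅⁅M, M⁆, ⁅M, M⁆⁆.subgroupOf ⁅M, M⁆) = Nat.card ↥⁅⁅M, M⁆, ⁅M, M⁆⁆ :=
      Nat.card_congr (Subgroup.subgroupOfEquivOfLe (Setup.commutator_self_le _)).toEquiv
    rw [h4] at h3
    calc Nat.card ↥W₂ * (2 * Nat.card ↥W₁ + 1) ≤ Nat.card ↥⁅⁅M, M⁆, ⁅M, M⁆⁆ *
        (⁅⁅M, M⁆, ⁅M, M⁆⁆.subgroupOf ⁅M, M⁆).index := Nat.mul_le_mul h2 h1
      _ = _ := h3
  have hoddT : Odd (Nat.card ↥V) := hG.1.of_dvd_nat (Subgroup.card_subgroup_dvd_card V)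
  have hcop : (Nat.card ↥V).Coprime (Nat.card ↥W₁) :=
    (TypeExclusive.coprime_card_U hTP).coprime_dvd_right
      (Subgroup.card_dvd_of_le (PF8.W₂_le_fittingHallOf hTP))
  refine NoncohFinal.final hD h.hyp.hμ h.hyp.hη hiso hext hζ.mem hζ.irr hζ.deg hχ.eq hK T
    (fittingHallOf T) (PF8.conj_mem_fittingHallOf T) hcT hoddT ?_ hcop ?_
  · have h3 : 0 < Nat.card ↥W₂ := Nat.card_pos
    omega
  · intro g hg
    rcases NoncohGroup.mem_of_not_coprime hG hT hTP hTII hfrob g hg with h1 | h1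
    · right
      obtain ⟨x, -, v, ⟨hv, hv1⟩, hg⟩ := h1
      exact ⟨x, v, hv, hv1, hg⟩
    · exact Or.inl h1

/-- the same with `inducedIrrAbove` -/
theorem FTtype345_noncoherence' {G : Type u} [Group G] [Fintype G] {M W₁ U W₂ : Subgroup G}
    [Fintype ↥M] (hG : IsMinSimpleOddOrder G) (hM : IsCoatom M) (hP : IsTypePWith M W₁ U W₂)
    (hII : ¬ IsOfTypeII M) :
    ¬ IsCoherent (inducedIrrAbove (⁅M, M⁆.subgroupOf M) ⊥) {1}ᶜ (tauOf M) := by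
  have h := FTtype345_noncoherence hG hM hP hII
  rw [NoncohFinal.seqIndOf_eq_indS] at h
  exact h

end Cfsg.Agent.OddOrderCharacters.PF10.Noncoh
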