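import Cfsg.Agent.OddOrderCharacters.PF10.Bridge

/-!
# Differences of the bridge characters

`(α_ij - α_i'j)^τ = δ (η_ij - η_i'j - η_i0 + η_i'0)` and `(α_ij - α_ij')^τ = δ (η_ij - η_ij')`:
now in `PF10/Bridge.lean` (`dade_alpha_sub_row`, `dade_alpha_sub_col`); kept as aliases.
-/

set_option autoImplicit false

open Cfsg
open Cfsg.Agent.OddOrderCharacters.PFDefs Cfsg.Agent.OddOrderCharacters.PF10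

namespace Cfsg.Agent.OddOrderCharacters.PF10.BridgeDiff

universe u

variable {G : Type u} [Group G] [Fintype G] {L K W W₁ W₂ : Subgroup G} [Fintype ↥L]
  {A A₀ : Set G} {R : G → Subgroup G}
  {μ : (↥W →* ℂˣ) → (↥L → ℂ)} {δ : (↥W →* ℂˣ) → ℤ} {η : (↥W →* ℂˣ) → (G → ℂ)}
  {d : ℕ} {e n : ℤ}

theorem dade_bridge_sub_row (h : Ctx.Hyp L K W W₁ W₂ A A₀ R μ δ η d e n) (ζ : ↥L → ℂ)
    {φ φ' ψ : ↥W →* ℂˣ} (hφ : φ ∈ lin₁ W W₂)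
    (hφ' : φ' ∈ lin₁ W W₂) (hψ : ψ ∈ lin₁ W W₁) (hψ1 : ψ ≠ 1) :
    dadeIsometry A₀ L R (Ctx.alpha μ e n ζ φ ψ) - dadeIsometry A₀ L R (Ctx.alpha μ e n ζ φ' ψ) =
      (e : ℂ) • (η (φ * ψ) - η (φ' * ψ) - η φ + η φ') :=
  Bridge.dade_alpha_sub_row h ζ hφ hφ' hψ hψ1

theorem dade_bridge_sub_col (h : Ctx.Hyp L K W W₁ W₂ A A₀ R μ δ η d e n) (ζ : ↥L → ℂ)
    {φ ψ ψ' : ↥W →* ℂˣ} (hφ : φ ∈ lin₁ W W₂)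
    (hψ : ψ ∈ lin₁ W W₁) (hψ1 : ψ ≠ 1) (hψ' : ψ' ∈ lin₁ W W₁) (hψ'1 : ψ' ≠ 1) :
    dadeIsometry A₀ L R (Ctx.alpha μ e n ζ φ ψ) - dadeIsometry A₀ L R (Ctx.alpha μ e n ζ φ ψ') =
      (e : ℂ) • (η (φ * ψ) - η (φ * ψ')) :=
  Bridge.dade_alpha_sub_col h ζ hφ hψ hψ1 hψ' hψ'1

end Cfsg.Agent.OddOrderCharacters.PF10.BridgeDiff
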