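import Mathlib.Tactic
import Cfsg.Agent.Characters.Core
import Cfsg.Agent.OddOrderCharacters.PFDefs
import Cfsg.Agent.OddOrderCharacters.VChar
import Cfsg.Agent.OddOrderCharacters.ColSum
import Cfsg.Agent.OddOrderCharacters.CoherenceExt

/-!
# Peterfalvi (10.10), the case `|H| = p³`: abstract part

Coherence from the values on a basis, and the computation of the images of
`α_ij = μ_ij - δ μ_i0 - n ζ` from the inner products with `χ_ζ` and `η_ij`, in the case `n = 2`.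
-/

set_option autoImplicit false

open scoped ComplexConjugate
open Cfsg Cfsg.Agent.Characters.Core Cfsg.Agent.OddOrderCharacters.VChar
  Cfsg.Agent.OddOrderCharacters.PFDefs Cfsg.Agent.OddOrderCharacters.ColSum

namespace Cfsg.Agent.OddOrderCharacters.PF10.CohP3

/-! ### Coherence from a basis -/

section basis

variable {L : Type*} [Group L] [Fintype L] {G : Type*} [Group G] [Fintype G]

/-- An inner-product preserving assignment `f` of generalized characters of `G` to the members of an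
orthogonal set `S` is a coherent extension of `τ` as soon as it is compatible with `τ` on
`s - d s₀` for all `s ∈ S`, for a fixed `s₀ ∈ S` whose degree divides all degrees. -/
theorem exists_coherent_of_basis {S : Set (L → ℂ)} {τ : (L → ℂ) → (G → ℂ)}
    (hτ : IsLinearIsometryOn (zspanOn S {1}ᶜ) τ)
    (horth : ∀ s ∈ S, ∀ s' ∈ S, s ≠ s' → classInner s s' = 0) (hne : ∀ s ∈ S, s ≠ 0)
    (f : (L → ℂ) → (G → ℂ)) (hf : ∀ s ∈ S, ∀ s' ∈ S, classInner (f s) (f s') = classInner s s')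
    (hg : ∀ s ∈ S, IsGeneralizedCharacter G (f s)) {s₀ : L → ℂ} (hs₀ : s₀ ∈ S) (h1 : s₀ 1 ≠ 0)
    (hd : ∀ s ∈ S, ∃ d : ℤ, s 1 = d * s₀ 1 ∧ τ (s - d • s₀) = f s - d • f s₀) :
    ∃ τ₁ : (L → ℂ) → (G → ℂ), IsLinearIsometryOn (zspan S) τ₁ ∧ (∀ s ∈ S, τ₁ s = f s) ∧
      ∀ α ∈ zspanOn S {1}ᶜ, τ₁ α = τ α := by
  obtain ⟨τ₁, hτ₁, hτf⟩ := CoherenceExt.exists_ext horth hne f hf hg
  refine ⟨τ₁, hτ₁, hτf, ?_⟩
  have key : ∀ α ∈ zspan S, ∃ d : ℤ, α 1 = d * s₀ 1 ∧ τ (α - d • s₀) = τ₁ (α - d • s₀) := by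
    intro α hα
    refine zspan_induction
      (p := fun α => ∃ d : ℤ, α 1 = d * s₀ 1 ∧ τ (α - d • s₀) = τ₁ (α - d • s₀)) ?_ ?_ ?_ ?_ hα
    · refine ⟨0, by simp, ?_⟩
      rw [zero_smul, sub_zero, spanOn_zero hτ, map_zero]
    · intro s hs
      obtain ⟨d, hd1, hd2⟩ := hd s hs
      refine ⟨d, hd1, ?_⟩
      rw [hd2, map_sub, map_zsmul, hτf s hs, hτf s₀ hs₀]
    · rintro a ha b hb ⟨d, hd1, hd2⟩ ⟨e, he1, he2⟩
      refine ⟨d + e, ?_, ?_⟩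
      · rw [Pi.add_apply, hd1, he1]; push_cast; ring
      · have hA : a - d • s₀ ∈ zspanOn S {1}ᶜ := by
          refine mem_zspanOn_one_iff.2 ⟨zspan_sub ha (zspan_zsmul d (zspan_subset hs₀)), ?_⟩
          simp [hd1, zsmul_eq_mul]
        have hB : b - e • s₀ ∈ zspanOn S {1}ᶜ := by
          refine mem_zspanOn_one_iff.2 ⟨zspan_sub hb (zspan_zsmul e (zspan_subset hs₀)), ?_⟩
          simp [he1, zsmul_eq_mul]
        have e1 : a + b - (d + e) • s₀ = (a - d • s₀) + (b - e • s₀) := by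
          rw [add_smul]; abel
        rw [e1, lin_add hτ hA hB, hd2, he2, map_add]
    · rintro n a ha ⟨d, hd1, hd2⟩
      refine ⟨n * d, ?_, ?_⟩
      · rw [Pi.smul_apply, hd1, zsmul_eq_mul]; push_cast; ring
      · have hA : a - d • s₀ ∈ zspanOn S {1}ᶜ := by
          refine mem_zspanOn_one_iff.2 ⟨zspan_sub ha (zspan_zsmul d (zspan_subset hs₀)), ?_⟩
          simp [hd1, zsmul_eq_mul]
        have e1 : n • a - (n * d) • s₀ = n • (a - d • s₀) := by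
          rw [smul_sub, mul_smul]
        rw [e1, lin_zsmul hτ hA n, hd2, map_zsmul]
  intro α hα
  obtain ⟨d, hd1, hd2⟩ := key α hα.1
  have h0 : α 1 = 0 := (mem_zspanOn_one_iff.1 hα).2
  have hd0 : d = 0 := by
    rw [h0] at hd1
    rcases mul_eq_zero.1 hd1.symm with h | h
    · exact_mod_cast h
    · exact absurd h h1
  subst hd0
  rw [zero_smul, sub_zero] at hd2
  exact hd2.symm

/-- Coherence from a basis. -/
theorem coherent_of_basis {S : Set (L → ℂ)} {τ : (L → ℂ) → (G → ℂ)}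
    (hτ : IsLinearIsometryOn (zspanOn S {1}ᶜ) τ)
    (horth : ∀ s ∈ S, ∀ s' ∈ S, s ≠ s' → classInner s s' = 0) (hne : ∀ s ∈ S, s ≠ 0)
    (f : (L → ℂ) → (G → ℂ)) (hf : ∀ s ∈ S, ∀ s' ∈ S, classInner (f s) (f s') = classInner s s')
    (hg : ∀ s ∈ S, IsGeneralizedCharacter G (f s)) {s₀ : L → ℂ} (hs₀ : s₀ ∈ S) (h1 : s₀ 1 ≠ 0)
    (hd : ∀ s ∈ S, ∃ d : ℤ, s 1 = d * s₀ 1 ∧ τ (s - d • s₀) = f s - d • f s₀)
    {s₁ : L → ℂ} (hs₁ : s₁ ∈ S) (hs₁₀ : s₁ ≠ s₀) : IsCoherent S {1}ᶜ τ := by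
  obtain ⟨τ₁, h2, h3, h4⟩ := exists_coherent_of_basis hτ horth hne f hf hg hs₀ h1 hd
  refine ⟨?_, τ₁, h2, h4⟩
  obtain ⟨d, hd1, -⟩ := hd s₁ hs₁
  refine ⟨s₁ - d • s₀, mem_zspanOn_one_iff.2
    ⟨zspan_sub (zspan_subset hs₁) (zspan_zsmul d (zspan_subset hs₀)), ?_⟩, ?_⟩
  · simp [hd1, zsmul_eq_mul]
  · intro h
    have e1 : classInner s₁ s₁ = 0 := by
      have e2 : classInner (s₁ - d • s₀) s₁ = 0 := by rw [h, classInner_zero_left]
      rwa [classInner_sub_left, classInner_zsmul_left, horth s₀ hs₀ s₁ hs₁ hs₁₀.symm, mul_zero,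
        sub_zero] at e2
    exact hne s₁ hs₁ (classInner_self_eq_zero e1)

end basis

/-! ### The numerical part -/

/-- The inequality of (10.10). -/
theorem numeric {k c B b δ : ℤ} (hk : 4 ≤ k) (hδ : δ = 1 ∨ δ = -1)
    (h : k * c ^ 2 + (b ^ 2 + k * (b + c) ^ 2) ≤ 4 * B - 2 * B ^ 2 - 2 * δ * c) :
    c = 0 ∧ b = 0 := by
  have hB : 4 * B - 2 * B ^ 2 ≤ 2 := by nlinarith [sq_nonneg (B - 1)]
  have h1 : k * c ^ 2 + (b ^ 2 + k * (b + c) ^ 2) ≤ 2 - 2 * δ * c := by linarith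
  have hk1 : 4 * c ^ 2 ≤ k * c ^ 2 := by nlinarith [sq_nonneg c]
  have hk2 : 4 * (b + c) ^ 2 ≤ k * (b + c) ^ 2 := by nlinarith [sq_nonneg (b + c)]
  have hc2 : 4 * c ^ 2 ≤ 2 - 2 * δ * c := by nlinarith [sq_nonneg b, sq_nonneg (b + c)]
  have hcle : c ≤ 1 := by
    rcases hδ with rfl | rfl <;> nlinarith
  have hcge : -1 ≤ c := by
    rcases hδ with rfl | rfl <;> nlinarith
  have hbb : b ^ 2 + 4 * (b + c) ^ 2 + 4 * c ^ 2 ≤ 2 - 2 * δ * c := by linarith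
  have hc3 : c = -1 ∨ c = 0 ∨ c = 1 := by omega
  have hb1 : b ≤ 2 := by rcases hδ with rfl | rfl <;> rcases hc3 with rfl | rfl | rfl <;> nlinarith
  have hb2 : -2 ≤ b := by
    rcases hδ with rfl | rfl <;> rcases hc3 with rfl | rfl | rfl <;> nlinarith
  rcases hδ with rfl | rfl <;> rcases hc3 with rfl | rfl | rfl <;>
    interval_cases b <;> simp_all

/-! ### The images of the `α_ij` -/

section image

variable {G : Type*} [Group G] [Fintype G] {W W₁ W₂ : Subgroup G} {η : (↥W →* ℂˣ) → (G → ℂ)}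

theorem inner_zlin {θ χ χ' : G → ℂ} (m : ℤ) :
    classInner (m • (χ - χ')) θ = m * (classInner χ θ - classInner χ' θ) := by
  rw [classInner_zsmul_left, classInner_sub_left]

/-- The images of the `α_ij` in the case `n = 2` (`a φ ψ` is the image of `α_ij`, `χ`, `χ'` the
characters `χ_ζ` for two different `ζ`). -/
theorem alpha_image (hd : IsDirect W W₁ W₂) (hη : CyclicTIFam W W₁ W₂ η)
    (hW₁ : 2 ≤ Nat.card W₁) (hW₂ : 5 ≤ Nat.card W₂) {e : ℤ} (he : e = 1 ∨ e = -1)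
    {a : (↥W →* ℂˣ) → (↥W →* ℂˣ) → (G → ℂ)}
    (hag : ∀ ψ ∈ lin₁ W W₁, ψ ≠ 1 → IsGeneralizedCharacter G (a 1 ψ))
    (h1 : ∀ φ ∈ lin₁ W W₂, ∀ ψ ∈ lin₁ W W₁, ψ ≠ 1 →
      a φ ψ - a 1 ψ = e • (η (φ * ψ) - η ψ - η φ + η 1))
    (h2 : ∀ ψ ∈ lin₁ W W₁, ψ ≠ 1 → ∀ ψ' ∈ lin₁ W W₁, ψ' ≠ 1 →
      a 1 ψ - a 1 ψ' = e • (η ψ - η ψ'))
    (h3 : ∀ φ ∈ lin₁ W W₂, ∀ ψ ∈ lin₁ W W₁, ψ ≠ 1 → classInner (a φ ψ) (a φ ψ) = 6)
    (h4 : ∀ ψ ∈ lin₁ W W₁, ψ ≠ 1 → classInner (a 1 ψ) (η 1) = -(e : ℂ))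
    {χ χ' : G → ℂ} (hχ : IsGeneralizedCharacter G χ) (hχ' : IsGeneralizedCharacter G χ')
    (hχn : classInner χ χ = 1) (hχ'n : classInner χ' χ' = 1) (hχχ' : classInner χ χ' = 0)
    (hχη : ∀ ω, classInner χ (η ω) = 0) (hχ'η : ∀ ω, classInner χ' (η ω) = 0)
    (h5 : ∀ ψ ∈ lin₁ W W₁, ψ ≠ 1 → classInner (a 1 ψ) (colSum W W₂ η 1 - χ) = 2 - (e : ℂ))
    (h5' : ∀ ψ ∈ lin₁ W W₁, ψ ≠ 1 → classInner (a 1 ψ) (colSum W W₂ η 1 - χ') = -(e : ℂ)) :
    ∀ φ ∈ lin₁ W W₂, ∀ ψ ∈ lin₁ W W₁, ψ ≠ 1 →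
      a φ ψ = e • (η (φ * ψ) - η φ) - (2 : ℤ) • χ := by
  classical
  have hon := orthonormal_of_fam hη
  have hgen := gen_of_fam hη
  have hee : e * e = 1 := by rcases he with rfl | rfl <;> norm_num
  have heeC : (e : ℂ) * e = 1 := by exact_mod_cast hee
  set F₁ := linFin hd with hF₁
  set F₂ := linFin hd.symm with hF₂
  have hF₁c : F₁.card = Nat.card W₁ := card_linFin hd
  have hF₂c : F₂.card = Nat.card W₂ := card_linFin hd.symm
  have h1F₁ : (1 : ↥W →* ℂˣ) ∈ F₁ := (mem_linFin hd).2 one_mem_lin₁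
  have h1F₂ : (1 : ↥W →* ℂˣ) ∈ F₂ := (mem_linFin hd.symm).2 one_mem_lin₁
  obtain ⟨ψ₀, hψ₀F, hψ₀1⟩ : ∃ ψ ∈ F₂, ψ ≠ 1 :=
    Finset.exists_mem_ne (by omega) 1
  have hψ₀ := (mem_linFin hd.symm).1 hψ₀F
  obtain ⟨φ₀, hφ₀F, hφ₀1⟩ : ∃ φ ∈ F₁, φ ≠ 1 :=
    Finset.exists_mem_ne (by omega) 1
  -- `β`
  set β : G → ℂ := a 1 ψ₀ - e • (η ψ₀ - η 1) with hβ
  have hβg : IsGeneralizedCharacter G β :=
    gen_sub (hag ψ₀ hψ₀ hψ₀1) (gen_zsmul _ (gen_sub (hgen _) (hgen _)))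
  have hform : ∀ φ ∈ lin₁ W W₂, ∀ ψ ∈ lin₁ W W₁, ψ ≠ 1 →
      a φ ψ = β + e • (η (φ * ψ) - η φ) := by
    intro φ hφ ψ hψ hψ1
    have e1 := h1 φ hφ ψ hψ hψ1
    have e2 := h2 ψ hψ hψ1 ψ₀ hψ₀ hψ₀1
    rw [sub_eq_iff_eq_add] at e1 e2
    rw [e1, e2, hβ]
    simp only [smul_sub, smul_add]
    abel
  choose b hb using fun ω => gen_inner hβg (hgen ω)
  have hb' : ∀ ω, classInner (η ω) β = b ω := fun ω => by
    rw [gen_inner_comm (hgen ω) hβg, hb]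
  obtain ⟨N, hN⟩ := gen_norm hβg
  have hnorm : ∀ φ ∈ lin₁ W W₂, ∀ ψ ∈ lin₁ W W₁, ψ ≠ 1 →
      (N : ℤ) + 2 * e * (b (φ * ψ) - b φ) = 4 := by
    intro φ hφ ψ hψ hψ1
    have hne : φ * ψ ≠ φ := fun h' => hψ1 (mul_left_cancel (h'.trans (lin_mul_one φ).symm))
    have e1 := h3 φ hφ ψ hψ hψ1
    rw [hform φ hφ ψ hψ hψ1] at e1
    simp only [classInner_add_left, classInner_add_right, classInner_sub_left,
      classInner_sub_right, classInner_zsmul_left, classInner_zsmul_right, hN, hb, hb',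
      inner_self hon, inner_ne hon hne, inner_ne hon hne.symm] at e1
    have e2 : (N : ℂ) + 2 * e * ((b (φ * ψ) : ℂ) - b φ) = 4 := by
      linear_combination e1 - 2 * heeC
    exact_mod_cast e2
  have hb1 : b 1 = 0 := by
    have e1 := h4 ψ₀ hψ₀ hψ₀1
    rw [hform 1 one_mem_lin₁ ψ₀ hψ₀ hψ₀1, lin_one_mul] at e1
    simp only [classInner_add_left, inner_zlin, hb, inner_ne hon hψ₀1, inner_self hon] at e1
    have e2 : (b 1 : ℂ) = 0 := by linear_combination e1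
    exact_mod_cast e2
  obtain ⟨x, hx⟩ := gen_inner hβg hχ
  obtain ⟨x', hx'⟩ := gen_inner hβg hχ'
  set B : ℤ := ∑ φ ∈ F₁, b φ with hB
  have hcs : classInner β (colSum W W₂ η 1) = B := by
    rw [inner_colSum_right hd, hB]
    push_cast
    exact Finset.sum_congr rfl fun φ _ => by rw [lin_mul_one, hb]
  have hψ₀W : ¬ ∀ w : ↥W, (w : G) ∈ W₂ → ψ₀ w = (1 : ↥W →* ℂˣ) w := fun h' =>
    hψ₀1 (eq_one_of_mem hd hψ₀ h')
  have hxy : ∀ (θ : G → ℂ) (y m : ℤ), IsGeneralizedCharacter G θ →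
      (∀ ω, classInner θ (η ω) = 0) → classInner β θ = y →
      classInner (a 1 ψ₀) (colSum W W₂ η 1 - θ) = (m : ℂ) - e → y = B - m := by
    intro θ y m hθg hθη hy hm
    have hθη' : ∀ ω, classInner (η ω) θ = 0 := fun ω => classInner_comm_eq_zero (hθη ω)
    rw [hform 1 one_mem_lin₁ ψ₀ hψ₀ hψ₀1, lin_one_mul] at hm
    have hη1 : classInner (η 1) (colSum W W₂ η 1) = 1 := by
      rw [inner_fam_colSum hd hon, if_pos fun _ _ => rfl]
    have hηψ : classInner (η ψ₀) (colSum W W₂ η 1) = 0 := by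
      rw [inner_fam_colSum hd hon, if_neg hψ₀W]
    simp only [classInner_add_left, inner_zlin, classInner_sub_right, hcs, hy, hθη',
      hη1, hηψ] at hm
    have e2 : (y : ℂ) = B - m := by linear_combination -hm
    exact_mod_cast e2
  have hxB : x = B - 2 := hxy χ x 2 hχ hχη hx (by rw [h5 ψ₀ hψ₀ hψ₀1]; norm_num)
  have hxB' : x' = B := by
    have := hxy χ' x' 0 hχ' hχ'η hx' (by rw [h5' ψ₀ hψ₀ hψ₀1]; norm_num)
    rw [this, sub_zero]
  -- projection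
  have hχβ : classInner χ β = x := by rw [gen_inner_comm hχ hβg, hx]
  have hχ'β : classInner χ' β = x' := by rw [gen_inner_comm hχ' hβg, hx']
  have hχ'χ : classInner χ' χ = 0 := classInner_comm_eq_zero hχχ'
  set β' : G → ℂ := β - x • χ - x' • χ' with hβ'
  have hβ'g : IsGeneralizedCharacter G β' := gen_sub (gen_sub hβg (gen_zsmul _ hχ)) (gen_zsmul _ hχ')
  have hβ'b : ∀ ω, classInner β' (η ω) = b ω := by
    intro ω
    rw [hβ', classInner_sub_left, classInner_sub_left, classInner_zsmul_left,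
      classInner_zsmul_left, hχη, hχ'η, hb]
    ring
  obtain ⟨m, hm⟩ := gen_norm hβ'g
  have hmN : (m : ℤ) = N - x ^ 2 - x' ^ 2 := by
    have e1 : (m : ℂ) = N - x ^ 2 - x' ^ 2 := by
      rw [← hm, hβ']
      simp only [classInner_sub_left, classInner_sub_right, classInner_zsmul_left,
        classInner_zsmul_right, hN, hx, hx', hχβ, hχ'β, hχn, hχ'n, hχχ', hχ'χ]
      ring
    exact_mod_cast e1
  set c : ℤ := b ψ₀ - b 1 with hc
  have hbc : ∀ φ ∈ lin₁ W W₂, ∀ ψ ∈ lin₁ W W₁, ψ ≠ 1 → b (φ * ψ) = b φ + c := by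
    intro φ hφ ψ hψ hψ1
    have e1 := hnorm φ hφ ψ hψ hψ1
    have e2 := hnorm 1 one_mem_lin₁ ψ₀ hψ₀ hψ₀1
    rw [lin_one_mul] at e2
    rcases he with rfl | rfl <;> omega
  have hk : (Nat.card W₂ : ℤ) - 1 = ((F₂.erase 1).card : ℤ) := by
    rw [Finset.card_erase_of_mem h1F₂, hF₂c, Nat.cast_sub (by omega)]
    simp
  have hrow : ∀ φ ∈ lin₁ W W₂, ∑ ψ ∈ F₂, b (φ * ψ) ^ 2 =
      b φ ^ 2 + ((Nat.card W₂ : ℤ) - 1) * (b φ + c) ^ 2 := by
    intro φ hφ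
    rw [← Finset.add_sum_erase F₂ _ h1F₂, lin_mul_one, hk]
    congr 1
    rw [Finset.sum_congr rfl (fun ψ hψ => by
      rw [hbc φ hφ ψ ((mem_linFin hd.symm).1 (Finset.mem_of_mem_erase hψ))
        (Finset.ne_of_mem_erase hψ)] : ∀ ψ ∈ F₂.erase 1, b (φ * ψ) ^ 2 = (b φ + c) ^ 2),
      Finset.sum_const, nsmul_eq_mul]
  have key : ∀ φ ∈ F₁, φ ≠ 1 → c = 0 ∧ b φ = 0 := by
    intro φ hφF hφ1
    have hφ := (mem_linFin hd).1 hφF
    have hinj : ∀ θ : ↥W →* ℂˣ, Function.Injective (fun ψ : ↥W →* ℂˣ => θ * ψ) :=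
      fun θ ψ ψ' h' => mul_left_cancel h'
    have hdisj : Disjoint F₂ (F₂.image (fun ψ => φ * ψ)) := by
      rw [Finset.disjoint_left]
      intro ω hω hω'
      obtain ⟨ψ, hψ, rfl⟩ := Finset.mem_image.1 hω'
      apply hφ1
      refine eq_one_of_mem hd ?_ hφ
      have h6 := mul_mem_lin₁ ((mem_linFin hd.symm).1 hω)
        (inv_mem_lin₁ ((mem_linFin hd.symm).1 hψ))
      rwa [lin_mul_inv_cancel_right] at h6
    have hbes := bessel hon hgen hβ'g hm hβ'b (F₂ ∪ F₂.image (fun ψ => φ * ψ))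
    rw [Finset.sum_union hdisj, Finset.sum_image (fun _ _ _ _ h' => hinj φ h'), hrow φ hφ,
      (by simpa only [lin_one_mul] using hrow 1 one_mem_lin₁ :
        ∑ ψ ∈ F₂, b ψ ^ 2 = b 1 ^ 2 + ((Nat.card W₂ : ℤ) - 1) * (b 1 + c) ^ 2), hmN, hb1] at hbes
    have hN4 := hnorm 1 one_mem_lin₁ ψ₀ hψ₀ hψ₀1
    rw [lin_one_mul] at hN4
    have hN4' : (N : ℤ) = 4 - 2 * e * c := by rw [hc]; linarith
    refine numeric (k := (Nat.card W₂ : ℤ) - 1) (B := B) (δ := e) (by omega) he ?_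
    rw [hN4', hxB, hxB'] at hbes
    nlinarith [hbes]
  have hc0 : c = 0 := (key φ₀ hφ₀F hφ₀1).1
  have hB0 : B = 0 := by
    rw [hB]
    refine Finset.sum_eq_zero fun φ hφ => ?_
    by_cases hφ1 : φ = 1
    · rw [hφ1, hb1]
    · exact (key φ hφ hφ1).2
  have hN4 : (N : ℤ) = 4 := by
    have hN4 := hnorm 1 one_mem_lin₁ ψ₀ hψ₀ hψ₀1
    rw [lin_one_mul, ← hc, hc0] at hN4
    linarith
  have hN4C : (N : ℂ) = 4 := by exact_mod_cast hN4
  have hx2 : (x : ℂ) = -2 := by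
    have : x = -2 := by rw [hxB, hB0]; norm_num
    rw [this]; norm_num
  have hβχ : β = -((2 : ℤ) • χ) := by
    rw [eq_neg_iff_add_eq_zero]
    apply classInner_self_eq_zero
    simp only [classInner_add_left, classInner_add_right, classInner_zsmul_left,
      classInner_zsmul_right, hN, hx, hχβ, hχn, hx2, hN4C]
    norm_num
  intro φ hφ ψ hψ hψ1
  rw [hform φ hφ ψ hψ hψ1, hβχ]
  abel

end image

end Cfsg.Agent.OddOrderCharacters.PF10.CohP3
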