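import Mathlib
import Cfsg.Agent.OddOrderCharacters.PF10.Ctx
import Cfsg.Agent.OddOrderCharacters.PF10.Defs
import Cfsg.Agent.OddOrderCharacters.PF10.Bridge
import Cfsg.Agent.OddOrderCharacters.PF10.Bridge0
import Cfsg.Agent.OddOrderCharacters.PF10.BridgeDiff
import Cfsg.Agent.OddOrderCharacters.PF10.CohP3

/-!
# Peterfalvi (10.10), part 2: coherence in the extremal case `|K| = p³`, `p + 1 = 2 w₁`
-/

set_option autoImplicit false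
set_option linter.unusedSectionVars false

open scoped ComplexConjugate
open Cfsg Cfsg.Agent.Characters.Core Cfsg.Agent.OddOrderCharacters.VChar
  Cfsg.Agent.OddOrderCharacters.PFDefs Cfsg.Agent.OddOrderCharacters.ColSum
  Cfsg.Agent.OddOrderCharacters.PF4b.TIFam Cfsg.Agent.OddOrderCharacters.PF4b.Prime
  Cfsg.Agent.OddOrderCharacters.PF10.Ctx Cfsg.Agent.OddOrderCharacters.PF10.Defs

namespace Cfsg.Agent.OddOrderCharacters.PF10.TypeVCoh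

universe u

variable {G : Type u} [Group G] [Fintype G] {L K W W₁ W₂ : Subgroup G} [Fintype ↥L]
  {A A₀ : Set G} {R : G → Subgroup G}
  {μ : (↥W →* ℂˣ) → (↥L → ℂ)} {δ : (↥W →* ℂˣ) → ℤ} {η : (↥W →* ℂˣ) → (G → ℂ)}
  {d : ℕ} {e n : ℤ} {ζ : ↥L → ℂ} {φ ψ : ↥W →* ℂˣ}

/-- (10.9) in terms of `IsZeta`, `IsChi`. -/
theorem exists_isChi (h : Hyp L K W W₁ W₂ A A₀ R μ δ η d e n)
    (hlt : Nat.card ↥W₁ < Nat.card ↥W₂) (hζ : IsZeta L K W₁ ζ) :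
    ∃ χ : G → ℂ, IsChi W W₂ (dadeIsometry A₀ L R) μ η ζ χ := by
  obtain ⟨χ, h1, h2, h3, h4⟩ := Bridge0.bridge0 h.hD h.hμ h.hη hlt hζ.irr hζ.mem hζ.deg
  exact ⟨χ, h2, h3, h4, h1⟩

theorem isZeta_conj (hζ : IsZeta L K W₁ ζ) : IsZeta L K W₁ (conjFun ζ) :=
  ⟨isIrr_conjFun hζ.irr, S_conj hζ.mem, by rw [conjFun_apply, hζ.deg]; simp⟩

theorem psi_supp (h : Hyp L K W W₁ W₂ A A₀ R μ δ η d e n) (hζ : IsZeta L K W₁ ζ) (x : ↥L)
    (hx : (x : G) ∉ A₀) : (colSum W W₂ μ 1 - ζ) x = 0 :=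
  Bridge0.mu0_sub_supp h.hD h.hμ hζ.mem hζ.deg x fun hxA => hx (A_subset_A₀ h.hD hxA)

theorem psi_classFun (h : Hyp L K W W₁ W₂ A A₀ R μ δ η d e n) (hζ : IsZeta L K W₁ ζ) :
    IsClassFunction ↥L (colSum W W₂ μ 1 - ζ) :=
  gen_isClassFunction (Bridge0.mu0_sub_gen h.hD h.hμ hζ.irr)

/-- Inner products of the `τ(μ_0 - ζ)`. -/
theorem inner_tau_psi (h : Hyp L K W W₁ W₂ A A₀ R μ δ η d e n) {ζ' : ↥L → ℂ}
    (hζ : IsZeta L K W₁ ζ) (hζ' : IsZeta L K W₁ ζ') :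
    classInner (dadeIsometry A₀ L R (colSum W W₂ μ 1 - ζ))
      (dadeIsometry A₀ L R (colSum W W₂ μ 1 - ζ')) = (Nat.card ↥W₁ : ℂ) + classInner ζ ζ' := by
  rw [dade_inner h.hD (psi_classFun h hζ) (psi_supp h hζ) (psi_classFun h hζ')
    (psi_supp h hζ'), classInner_sub_left, classInner_sub_right, classInner_sub_right,
    norm_colSum (direct h.hD) (mu_orthonormal h.hμ), inner_colSum_zeta h.hD h.hμ hζ'.irr hζ'.mem,
    inner_zeta_colSum h.hD h.hμ hζ.irr hζ.mem]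
  ring

/-- `χ` is orthogonal to the column sums. -/
theorem inner_chi_colSum (h : Hyp L K W W₁ W₂ A A₀ R μ δ η d e n) {χ : G → ℂ}
    (hχ : IsChi W W₂ (dadeIsometry A₀ L R) μ η ζ χ) (ω : ↥W →* ℂˣ) :
    classInner χ (colSum W W₂ η ω) = 0 := by
  rw [inner_colSum_right (direct h.hD)]
  exact Finset.sum_eq_zero fun _ _ => hχ.ortho _

/-- Inner products of the `χ_ζ`. -/
theorem inner_chi (h : Hyp L K W W₁ W₂ A A₀ R μ δ η d e n) {ζ' : ↥L → ℂ} {χ χ' : G → ℂ}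
    (hζ : IsZeta L K W₁ ζ) (hζ' : IsZeta L K W₁ ζ')
    (hχ : IsChi W W₂ (dadeIsometry A₀ L R) μ η ζ χ)
    (hχ' : IsChi W W₂ (dadeIsometry A₀ L R) μ η ζ' χ') :
    classInner χ χ' = classInner ζ ζ' := by
  have h1 := inner_tau_psi h hζ hζ'
  rw [hχ.eq, hχ'.eq, classInner_sub_left, classInner_sub_right, classInner_sub_right,
    norm_colSum (direct h.hD) (orthonormal_of_fam h.hη), inner_chi_colSum h hχ,
    classInner_comm_eq_zero (inner_chi_colSum h hχ' 1)] at h1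
  linear_combination h1

/-- `χ_ζ` is determined by `ζ`. -/
theorem chi_eq {χ : G → ℂ} (hχ : IsChi W W₂ (dadeIsometry A₀ L R) μ η ζ χ) :
    χ = colSum W W₂ η 1 - dadeIsometry A₀ L R (colSum W W₂ μ 1 - ζ) := by
  rw [hχ.eq]; abel

/-- `(α_ij, μ_0 - ζ')`. -/
theorem inner_bridge_psi (h : Hyp L K W W₁ W₂ A A₀ R μ δ η d e n) {ζ' : ↥L → ℂ}
    (hζ : IsZeta L K W₁ ζ) (hζ' : IsZeta L K W₁ ζ')
    (hφ : φ ∈ lin₁ W W₂) (hψ : ψ ∈ lin₁ W W₁) (hψ1 : ψ ≠ 1) :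
    classInner (Ctx.alpha μ e n ζ φ ψ) (colSum W W₂ μ 1 - ζ') =
      -(e : ℂ) + n * classInner ζ ζ' := by
  classical
  have hd := direct h.hD
  have hon := mu_orthonormal h.hμ
  have h1 : ¬ ∀ w : ↥W, (w : G) ∈ W₂ → (φ * ψ) w = (1 : ↥W →* ℂˣ) w := fun h' =>
    mul_notMem_lin₁ h.hD hφ hψ hψ1 h'
  have h2 : ∀ w : ↥W, (w : G) ∈ W₂ → φ w = (1 : ↥W →* ℂˣ) w := fun w hw => hφ w hw
  rw [Ctx.alpha_def]
  simp only [classInner_sub_left, classInner_sub_right, classInner_zsmul_left,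
    inner_fam_colSum hd hon, inner_zeta_colSum h.hD h.hμ hζ.irr hζ.mem,
    inner_mu_zeta h.hD h.hμ hζ'.irr hζ'.mem]
  rw [if_neg h1, if_pos h2]
  ring

/-- The inner product of `τ α_ij` and `τ(μ_0 - ζ')`. -/
theorem inner_tau_bridge_psi (h : Hyp L K W W₁ W₂ A A₀ R μ δ η d e n) {ζ' : ↥L → ℂ}
    (hζ : IsZeta L K W₁ ζ) (hζ' : IsZeta L K W₁ ζ')
    (hφ : φ ∈ lin₁ W W₂) (hψ : ψ ∈ lin₁ W W₁) (hψ1 : ψ ≠ 1) :
    classInner (dadeIsometry A₀ L R (Ctx.alpha μ e n ζ φ ψ))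
      (dadeIsometry A₀ L R (colSum W W₂ μ 1 - ζ')) = -(e : ℂ) + n * classInner ζ ζ' := by
  rw [dade_inner h.hD (gen_isClassFunction (alpha_gen h hζ.irr φ ψ))
    (alpha_supp h hζ.mem hζ.deg hφ hψ hψ1) (psi_classFun h hζ') (psi_supp h hζ'),
    inner_bridge_psi h hζ hζ' hφ hψ hψ1]

/-- `(τ α_0j, η_00) = -e`. -/
theorem inner_tau_bridge_one (h : Hyp L K W W₁ W₂ A A₀ R μ δ η d e n)
    (hζ : IsZeta L K W₁ ζ) (hψ : ψ ∈ lin₁ W W₁) (hψ1 : ψ ≠ 1) :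
    classInner (dadeIsometry A₀ L R (Ctx.alpha μ e n ζ 1 ψ)) (η 1) = -(e : ℂ) := by
  have hon := mu_orthonormal h.hμ
  rw [h.hη.map_one, Bridge0.inner_dade_one h.hD.dade
    (gen_isClassFunction (alpha_gen h hζ.irr 1 ψ))
    (alpha_supp h hζ.mem hζ.deg one_mem_lin₁ hψ hψ1), ← h.hμ.map_one, Ctx.alpha_def]
  simp only [classInner_sub_left, classInner_zsmul_left, lin_one_mul, inner_ne hon hψ1,
    inner_self hon, inner_zeta_mu h.hD h.hμ hζ.irr hζ.mem]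
  ring

/-- Difference of the bridge characters in a row. -/
theorem tau_bridge_sub_row (h : Hyp L K W W₁ W₂ A A₀ R μ δ η d e n)
    (_hζ : IsZeta L K W₁ ζ) (hφ : φ ∈ lin₁ W W₂) (hψ : ψ ∈ lin₁ W W₁) (hψ1 : ψ ≠ 1) :
    dadeIsometry A₀ L R (Ctx.alpha μ e n ζ φ ψ) - dadeIsometry A₀ L R (Ctx.alpha μ e n ζ 1 ψ) =
      e • (η (φ * ψ) - η ψ - η φ + η 1) := by
  rw [BridgeDiff.dade_bridge_sub_row h ζ hφ one_mem_lin₁ hψ hψ1, lin_one_mul]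
  funext x
  rw [Pi.smul_apply, Pi.smul_apply, zsmul_eq_mul, smul_eq_mul]

theorem tau_bridge_sub_col (h : Hyp L K W W₁ W₂ A A₀ R μ δ η d e n) {ψ' : ↥W →* ℂˣ}
    (hψ : ψ ∈ lin₁ W W₁) (hψ1 : ψ ≠ 1) (hψ' : ψ' ∈ lin₁ W W₁) (hψ'1 : ψ' ≠ 1) :
    dadeIsometry A₀ L R (Ctx.alpha μ e n ζ 1 ψ) - dadeIsometry A₀ L R (Ctx.alpha μ e n ζ 1 ψ') =
      e • (η ψ - η ψ') := by
  have h1 := notMem_lin₁ h.hD hψ hψ1
  have h2 := notMem_lin₁ h.hD hψ' hψ'1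
  rw [← Bridge.dade_sub, Ctx.alpha_def, Ctx.alpha_def, lin_one_mul, lin_one_mul]
  have e1 : μ ψ - e • μ 1 - n • ζ - (μ ψ' - e • μ 1 - n • ζ) = μ ψ - μ ψ' := by abel
  rw [e1, prDade_sub_TIirr h.hD h.hμ h.hη h1 h2 (fun w hw => by rw [hψ w hw, hψ' w hw])
    (by rw [h.deg _ h1, h.deg _ h2]), h.sgn _ h1]
  funext x
  simp [zsmul_eq_mul]

/-- The images of the `α_ij` when `n = 2` and `w₂ ≥ 5`. -/
theorem tau_bridge_two (h : Hyp L K W W₁ W₂ A A₀ R μ δ η d e n) (hn : n = 2)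
    (hW₂ : 5 ≤ Nat.card ↥W₂) (hlt : Nat.card ↥W₁ < Nat.card ↥W₂) (hζ : IsZeta L K W₁ ζ)
    {χ : G → ℂ} (hχ : IsChi W W₂ (dadeIsometry A₀ L R) μ η ζ χ)
    (hφ : φ ∈ lin₁ W W₂) (hψ : ψ ∈ lin₁ W W₁) (hψ1 : ψ ≠ 1) :
    dadeIsometry A₀ L R (Ctx.alpha μ e n ζ φ ψ) = e • (η (φ * ψ) - η φ) - n • χ := by
  have hζ' := isZeta_conj hζ
  obtain ⟨χ', hχ'⟩ := exists_isChi h hlt hζ'
  subst hn
  have hn2 : ((2 : ℤ) : ℂ) = 2 := by norm_num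
  refine CohP3.alpha_image (direct h.hD) h.hη (by have := h.three_le₁; omega) hW₂ h.e_sgn
    (a := fun φ ψ => dadeIsometry A₀ L R (Ctx.alpha μ e 2 ζ φ ψ)) ?_ ?_ ?_ ?_ ?_
    hχ.gen hχ'.gen hχ.norm hχ'.norm ?_ hχ.ortho hχ'.ortho ?_ ?_ φ hφ ψ hψ hψ1
  · intro ψ hψ hψ1
    exact dade_gen h.hD (alpha_gen h hζ.irr 1 ψ) (alpha_supp h hζ.mem hζ.deg one_mem_lin₁ hψ hψ1)
  · intro φ hφ ψ hψ hψ1
    exact tau_bridge_sub_row h hζ hφ hψ hψ1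
  · intro ψ hψ hψ1 ψ' hψ' hψ'1
    exact tau_bridge_sub_col h hψ hψ1 hψ' hψ'1
  · intro φ hφ ψ hψ hψ1
    rw [Bridge.tau_alpha_norm h hζ.irr hζ.mem hζ.deg hφ hψ hψ1, hn2]
    norm_num
  · intro ψ hψ hψ1
    exact inner_tau_bridge_one h hζ hψ hψ1
  · rw [inner_chi h hζ hζ' hχ hχ', (inner_conj_zeta h.odd h.hD hζ.irr hζ.mem).1]
  · intro ψ hψ hψ1
    rw [← hχ.eq, inner_tau_bridge_psi h hζ hζ one_mem_lin₁ hψ hψ1, classInner_irr_self hζ.irr,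
      hn2]
    ring
  · intro ψ hψ hψ1
    rw [← hχ'.eq, inner_tau_bridge_psi h hζ hζ' one_mem_lin₁ hψ hψ1,
      (inner_conj_zeta h.odd h.hD hζ.irr hζ.mem).1, mul_zero, add_zero]

/-- `μ_j - d ζ = Σ_i α_ij + e (μ_0 - ζ)`. -/
theorem colSum_sub_eq (h : Hyp L K W W₁ W₂ A A₀ R μ δ η d e n) (ψ : ↥W →* ℂˣ) :
    colSum W W₂ μ ψ - (d : ℤ) • ζ =
      ∑ φ ∈ linFin (direct h.hD), Ctx.alpha μ e n ζ φ ψ + e • (colSum W W₂ μ 1 - ζ) := by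
  have hdn : (d : ℤ) = (Nat.card ↥W₁ : ℤ) * n + e := by
    have := h.n_mul; linarith
  have h1 : ∑ φ ∈ linFin (direct h.hD), Ctx.alpha μ e n ζ φ ψ =
      colSum W W₂ μ ψ - e • colSum W W₂ μ 1 - ((Nat.card ↥W₁ : ℤ) * n) • ζ := by
    simp only [Ctx.alpha_def]
    rw [Finset.sum_sub_distrib, Finset.sum_sub_distrib, ← colSum_eq_sum (direct h.hD) ψ,
      ← Finset.smul_sum, Finset.sum_const, card_linFin, colSum_eq_sum (direct h.hD) 1]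
    simp only [lin_mul_one]
    rw [mul_smul, natCast_zsmul]
  rw [h1, hdn, add_smul, smul_sub]
  abel

/-- `τ(μ_j - d ζ) = e Σ_i η_ij - d χ`. -/
theorem tau_colSum_sub (h : Hyp L K W W₁ W₂ A A₀ R μ δ η d e n) {χ : G → ℂ}
    (hχ : IsChi W W₂ (dadeIsometry A₀ L R) μ η ζ χ)
    (hα : ∀ φ ∈ lin₁ W W₂,
      dadeIsometry A₀ L R (Ctx.alpha μ e n ζ φ ψ) = e • (η (φ * ψ) - η φ) - n • χ) :
    dadeIsometry A₀ L R (colSum W W₂ μ ψ - (d : ℤ) • ζ) =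
      e • colSum W W₂ η ψ - (d : ℤ) • χ := by
  have hdn : (d : ℤ) = (Nat.card ↥W₁ : ℤ) * n + e := by
    have := h.n_mul; linarith
  rw [colSum_sub_eq h, Bridge.dade_add, Bridge.dade_sum, Bridge.dade_zsmul, hχ.eq,
    Finset.sum_congr rfl fun φ hφ => hα φ ((mem_linFin _).1 hφ), Finset.sum_sub_distrib,
    ← Finset.smul_sum, Finset.sum_sub_distrib, ← colSum_eq_sum (direct h.hD) ψ,
    Finset.sum_const, card_linFin, colSum_eq_sum (direct h.hD) 1]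
  simp only [lin_mul_one]
  rw [hdn, add_smul, mul_smul, natCast_zsmul, smul_sub, smul_sub]
  abel

/-! ### The coherent extension -/

/-- Distinct members of `S` are orthogonal. -/
theorem S_orth (hD : PrimeDadeHyp L K K A A₀ W W₁ W₂ R) {X Y : Subgroup G} {s s' : ↥L → ℂ}
    (hs : s ∈ seqIndOf L K X Y) (hs' : s' ∈ seqIndOf L K X Y) (hne : s ≠ s') :
    classInner s s' = 0 := by
  obtain ⟨θ, hθ, -, -, rfl⟩ := hs
  obtain ⟨θ', hθ', -, -, rfl⟩ := hs'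
  have hN : (K.subgroupOf L).Normal := PF4b.TIFam.K_normal hD.primeTI
  exact (IndRes.indFun_eq_or_classInner_eq_zero (K.subgroupOf L) hθ hθ').resolve_left hne

open Classical in
/-- The values of the coherent extension on `S`. -/
noncomputable def extVal (L : Subgroup G) [Fintype ↥L] (W W₂ : Subgroup G) (A₀ : Set G)
    (R : G → Subgroup G)
    (μ : (↥W →* ℂˣ) → (↥L → ℂ)) (η : (↥W →* ℂˣ) → (G → ℂ)) (e : ℤ) (s : ↥L → ℂ) : G → ℂ :=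
  if hs : ∃ ω, ω ∉ lin₁ W W₂ ∧ s = colSum W W₂ μ ω then e • colSum W W₂ η (Classical.choose hs)
  else colSum W W₂ η 1 - dadeIsometry A₀ L R (colSum W W₂ μ 1 - s)

theorem extVal_colSum (h : Hyp L K W W₁ W₂ A A₀ R μ δ η d e n) {ω : ↥W →* ℂˣ}
    (hω : ω ∉ lin₁ W W₂) : extVal L W W₂ A₀ R μ η e (colSum W W₂ μ ω) = e • colSum W W₂ η ω := by
  have hex : ∃ ω', ω' ∉ lin₁ W W₂ ∧ colSum W W₂ μ ω = colSum W W₂ μ ω' := ⟨ω, hω, rfl⟩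
  rw [extVal, dif_pos hex]
  have h1 := (Classical.choose_spec hex).2
  rw [colSum_mu_eq_iff h.hD.primeTI h.hμ] at h1
  rw [colSum_congr fun w hw => (h1 w hw).symm]

theorem zeta_ne_colSum (h : Hyp L K W W₁ W₂ A A₀ R μ δ η d e n) (hζ : IsZeta L K W₁ ζ)
    (ω : ↥W →* ℂˣ) : ζ ≠ colSum W W₂ μ ω := by
  intro h1
  have h2 := inner_zeta_colSum h.hD h.hμ hζ.irr hζ.mem ω
  rw [← h1, classInner_irr_self hζ.irr] at h2
  exact one_ne_zero h2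

theorem extVal_zeta (h : Hyp L K W W₁ W₂ A A₀ R μ δ η d e n) (hζ : IsZeta L K W₁ ζ)
    {χ : G → ℂ} (hχ : IsChi W W₂ (dadeIsometry A₀ L R) μ η ζ χ) :
    extVal L W W₂ A₀ R μ η e ζ = χ := by
  rw [extVal, dif_neg (fun ⟨ω, _, hω⟩ => zeta_ne_colSum h hζ ω hω), ← chi_eq hχ]

/-- Every `μ_j` (`j ≠ 0`) is `μ_ψ` for some `ψ ∈ lin₂`. -/
theorem exists_lin₂ (h : Hyp L K W W₁ W₂ A A₀ R μ δ η d e n) {ω : ↥W →* ℂˣ}
    (hω : ω ∉ lin₁ W W₂) : ∃ ψ ∈ lin₁ W W₁, ψ ≠ 1 ∧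
      ∀ w : ↥W, (w : G) ∈ W₂ → ω w = ψ w := by
  obtain ⟨φ, hφ, ψ, hψ, rfl⟩ := PF3bBasic.exists_mul_eq h.hD.cyclicTI ω
  refine ⟨ψ, hψ, ?_, fun w hw => by rw [MonoidHom.mul_apply, hφ w hw, one_mul]⟩
  rintro rfl
  exact hω (by rw [lin_mul_one]; exact hφ)

theorem colSum_one (h : Hyp L K W W₁ W₂ A A₀ R μ δ η d e n) {ω : ↥W →* ℂˣ}
    (hω : ω ∉ lin₁ W W₂) : colSum W W₂ μ ω 1 = (Nat.card W₁ : ℂ) * d := by
  rw [colSum_mu_on h.hD.primeTI h.hμ ω 1 K.one_mem, h.deg ω hω]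

/-- Coherence of `S` from the images of the `α_ij`. -/
theorem coherent_of (h : Hyp L K W W₁ W₂ A A₀ R μ δ η d e n)
    (hlt : Nat.card ↥W₁ < Nat.card ↥W₂)
    (hS : ∀ ξ ∈ seqIndOf L K K ⊥, IsZeta L K W₁ ξ ∨ ∃ ω, ω ∉ lin₁ W W₂ ∧ ξ = colSum W W₂ μ ω)
    (hζ : IsZeta L K W₁ ζ) {χ : G → ℂ} (hχ : IsChi W W₂ (dadeIsometry A₀ L R) μ η ζ χ)
    (hα : ∀ φ ∈ lin₁ W W₂, ∀ ψ ∈ lin₁ W W₁, ψ ≠ 1 →
      dadeIsometry A₀ L R (Ctx.alpha μ e n ζ φ ψ) = e • (η (φ * ψ) - η φ) - n • χ) :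
    IsCoherent (seqIndOf L K K ⊥) {1}ᶜ (dadeIsometry A₀ L R) := by
  classical
  have hd := direct h.hD
  have honη := orthonormal_of_fam h.hη
  have honμ := mu_orthonormal h.hμ
  have heeC : (e : ℂ) * e = 1 := by exact_mod_cast h.e_sq
  have hchar : ∀ ξ ∈ seqIndOf L K K ⊥, ξ ≠ 0 := by
    intro ξ hξ h0
    rcases hS ξ hξ with hz | ⟨ω, hω, rfl⟩
    · exact isIrr_ne_zero hz.irr h0
    · have h1 := norm_colSum hd honμ ω
      rw [h0, classInner_zero_left] at h1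
      exact (Nat.cast_ne_zero.2 Nat.card_pos.ne') h1.symm
  -- `χ_ξ` for every `ξ`
  have hchi : ∀ ξ, IsZeta L K W₁ ξ → ∃ χ', IsChi W W₂ (dadeIsometry A₀ L R) μ η ξ χ' :=
    fun ξ hξ => exists_isChi h hlt hξ
  refine CohP3.coherent_of_basis (prDade_isometry h.hD subset_rfl).1
    (fun s hs s' hs' hne => S_orth h.hD hs hs' hne) hchar (extVal L W W₂ A₀ R μ η e) ?_ ?_
    hζ.mem (isIrr_apply_one_ne_zero hζ.irr) ?_ (isZeta_conj hζ).mem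
    (conj_ne h.odd h.hD hζ.irr hζ.mem)
  · -- inner products
    intro s hs s' hs'
    rcases hS s hs with hz | ⟨ω, hω, rfl⟩
    · obtain ⟨χ₁, hχ₁⟩ := hchi s hz
      rw [extVal_zeta h hz hχ₁]
      rcases hS s' hs' with hz' | ⟨ω', hω', rfl⟩
      · obtain ⟨χ₂, hχ₂⟩ := hchi s' hz'
        rw [extVal_zeta h hz' hχ₂, inner_chi h hz hz' hχ₁ hχ₂]
      · rw [extVal_colSum h hω', classInner_zsmul_right, inner_chi_colSum h hχ₁, mul_zero,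
          inner_zeta_colSum h.hD h.hμ hz.irr hz.mem]
    · rw [extVal_colSum h hω, classInner_zsmul_left]
      rcases hS s' hs' with hz' | ⟨ω', hω', rfl⟩
      · obtain ⟨χ₂, hχ₂⟩ := hchi s' hz'
        rw [extVal_zeta h hz' hχ₂, classInner_comm_eq_zero (inner_chi_colSum h hχ₂ ω), mul_zero,
          inner_colSum_zeta h.hD h.hμ hz'.irr hz'.mem]
      · rw [extVal_colSum h hω', classInner_zsmul_right, inner_colSum_colSum hd honη,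
          inner_colSum_colSum hd honμ, ← mul_assoc, heeC, one_mul]
  · -- generalized characters
    intro s hs
    rcases hS s hs with hz | ⟨ω, hω, rfl⟩
    · obtain ⟨χ₁, hχ₁⟩ := hchi s hz
      rw [extVal_zeta h hz hχ₁]
      exact hχ₁.gen
    · rw [extVal_colSum h hω]
      exact gen_zsmul _ (gen_colSum hd (gen_of_fam h.hη) ω)
  · -- compatibility
    intro s hs
    rw [extVal_zeta h hζ hχ]
    rcases hS s hs with hz | ⟨ω, hω, rfl⟩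
    · obtain ⟨χ₁, hχ₁⟩ := hchi s hz
      refine ⟨1, by rw [hz.deg, hζ.deg]; simp, ?_⟩
      rw [extVal_zeta h hz hχ₁, one_smul, one_smul]
      have e1 : s - ζ = (colSum W W₂ μ 1 - ζ) - (colSum W W₂ μ 1 - s) := by abel
      rw [e1, Bridge.dade_sub, hχ.eq, hχ₁.eq]
      abel
    · obtain ⟨ψ, hψ, hψ1, hωψ⟩ := exists_lin₂ h hω
      refine ⟨d, ?_, ?_⟩
      · rw [colSum_one h hω, hζ.deg]; push_cast; ring
      · rw [extVal_colSum h hω, colSum_congr (f := μ) hωψ, colSum_congr (f := η) hωψ]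
        exact tau_colSum_sub h hχ fun φ hφ => hα φ hφ ψ hψ hψ1

end Cfsg.Agent.OddOrderCharacters.PF10.TypeVCoh
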