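import Cfsg.Agent.OddOrderCharacters.PF10.Defs
import Cfsg.Agent.OddOrderCharacters.PF10.Setup
import Cfsg.Agent.OddOrderCharacters.InducedNormal
import Cfsg.Agent.Characters.Central
import Cfsg.Agent.Lib.NormalAbelian

/-!
# Peterfalvi (10.10), part 2: the extremal case `|K| = p³`, `K' = W₂`, `p + 1 = 2 w₁`
-/

set_option autoImplicit false
set_option linter.unusedSectionVars false

open Cfsg
open scoped ComplexConjugate commutatorElement
open Cfsg.Agent.OddOrderCharacters.PFDefs Cfsg.Agent.OddOrderCharacters.PF10.Defs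
open Cfsg.Agent.OddOrderCharacters.PF10

namespace Cfsg.Agent.OddOrderCharacters.PF10.TypeVExtremal

universe u

/-! ### General facts on irreducible characters -/

section gen

variable {A : Type*} [Group A] [Fintype A]

/-- `∑ ‖χ‖² = |A|` -/
theorem sum_normSq {χ : A → ℂ} (hχ : IsIrrCharacter A χ) :
    ∑ x : A, Complex.normSq (χ x) = Nat.card A := by
  have h1 := Characters.Core.classInner_irr_self hχ
  rw [Characters.Core.classInner_def] at h1
  have h2 : (∑ g : A, χ g * (starRingEnd ℂ) (χ g)) = (Nat.card A : ℂ) := by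
    have hne : (Nat.card A : ℂ) ≠ 0 := Nat.cast_ne_zero.mpr Nat.card_pos.ne'
    field_simp at h1
    exact h1
  have h3 : ((∑ x : A, Complex.normSq (χ x) : ℝ) : ℂ) = (Nat.card A : ℂ) := by
    rw [← h2]
    push_cast
    exact Finset.sum_congr rfl fun x _ => (Complex.mul_conj _).symm
  exact_mod_cast h3

/-- Values on central elements have absolute value `χ 1`. -/
theorem normSq_central {χ : A → ℂ} (hχ : IsIrrCharacter A χ) {z : A} (hz : ∀ x : A, z * x = x * z) :
    (Complex.normSq (χ z) : ℂ) = χ 1 ^ 2 := by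
  have h1 := Characters.Central.sum_char_conj_mul hχ z z⁻¹
  have h0 : χ 1 ≠ 0 := Characters.Central.irr_one_ne_zero hχ
  have hne : (Nat.card A : ℂ) ≠ 0 := Nat.cast_ne_zero.mpr Nat.card_pos.ne'
  have h2 : ∀ a : A, χ (a * z * a⁻¹ * z⁻¹) = χ 1 := by
    intro a
    congr 1
    rw [← hz a]
    group
  rw [Finset.sum_congr rfl fun a _ => h2 a, Finset.sum_const, Finset.card_univ, nsmul_eq_mul,
    ← Nat.card_eq_fintype_card] at h1
  have h3 : χ z⁻¹ = (starRingEnd ℂ) (χ z) :=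
    Characters.Core.isCharacter_apply_inv (Characters.Core.isIrr_isCharacter hχ) z
  rw [h3] at h1
  rw [eq_div_iff h0] at h1
  have h4 : (Nat.card A : ℂ) * (χ 1 * χ 1) = (Nat.card A : ℂ) * (χ z * (starRingEnd ℂ) (χ z)) := by
    linear_combination h1
  have h5 := mul_left_cancel₀ hne h4
  rw [← Complex.mul_conj, ← h5]
  ring

/-- In a group of order `p³` the degrees are `1` and `p`. -/
theorem degree_cases {χ : A → ℂ} (hχ : IsIrrCharacter A χ) {p : ℕ} (hp : p.Prime)
    (hA : Nat.card A = p ^ 3) : χ 1 = 1 ∨ χ 1 = p := by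
  obtain ⟨d, hd, h1, hdvd⟩ := Setup.isIrr_apply_one_dvd hχ
  rw [hA, Nat.dvd_prime_pow hp] at hdvd
  obtain ⟨k, hk, rfl⟩ := hdvd
  have h2 := sum_normSq hχ
  have h3 : Complex.normSq (χ 1) ≤ ∑ x : A, Complex.normSq (χ x) :=
    Finset.single_le_sum (f := fun x => Complex.normSq (χ x))
      (fun x _ => Complex.normSq_nonneg _) (Finset.mem_univ 1)
  rw [h2, h1, Complex.normSq_natCast, hA] at h3
  have h4 : p ^ k * p ^ k ≤ p ^ 3 := by exact_mod_cast h3
  rw [← pow_add] at h4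
  have h5 : k + k ≤ 3 := (Nat.pow_le_pow_iff_right hp.one_lt).1 h4
  have h6 : k = 0 ∨ k = 1 := by omega
  rcases h6 with rfl | rfl
  · left; rw [h1]; simp
  · right; rw [h1]; simp

/-- A character of degree `p` of a group of order `p³` vanishes off a central subgroup of order `p`. -/
theorem vanish_off_central {χ : A → ℂ} (hχ : IsIrrCharacter A χ) {p : ℕ} (_hp : p.Prime)
    (hA : Nat.card A = p ^ 3) (Z : Subgroup A) (hZ : ∀ z ∈ Z, ∀ x : A, z * x = x * z)
    (hZc : Nat.card Z = p) (hχ1 : χ 1 = p) {x : A} (hx : x ∉ Z) : χ x = 0 := by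
  classical
  have h2 := sum_normSq hχ
  rw [← Finset.sum_filter_add_sum_filter_not Finset.univ (fun x : A => x ∈ Z)] at h2
  have h3 : ∑ x ∈ Finset.univ.filter (fun x : A => x ∈ Z), Complex.normSq (χ x) = (p : ℝ) ^ 3 := by
    have h4 : ∀ z ∈ Finset.univ.filter (fun x : A => x ∈ Z), Complex.normSq (χ z) = (p : ℝ) ^ 2 := by
      intro z hz
      have h5 := normSq_central hχ (hZ z (Finset.mem_filter.1 hz).2)
      rw [hχ1] at h5
      exact_mod_cast h5
    rw [Finset.sum_congr rfl h4, Finset.sum_const, nsmul_eq_mul]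
    have h6 : (Finset.univ.filter (fun x : A => x ∈ Z)).card = p := by
      rw [← hZc, Nat.card_eq_fintype_card]
      exact (Fintype.card_subtype _).symm
    rw [h6]
    ring
  rw [h3, hA] at h2
  have h7 : ∑ x ∈ Finset.univ.filter (fun x : A => ¬ x ∈ Z), Complex.normSq (χ x) = 0 := by
    push_cast at h2
    linarith
  have h8 := (Finset.sum_eq_zero_iff_of_nonneg (fun x _ => Complex.normSq_nonneg _)).1 h7 x
    (Finset.mem_filter.2 ⟨Finset.mem_univ _, hx⟩)
  exact Complex.normSq_eq_zero.1 h8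

end gen

variable {G : Type u} [Group G] [Fintype G] {L K W W₁ W₂ : Subgroup G} [Fintype ↥L]
  {A A₀ : Set G} {R : G → Subgroup G}
  {μ : (↥W →* ℂˣ) → (↥L → ℂ)} {δ : (↥W →* ℂˣ) → ℤ} {η : (↥W →* ℂˣ) → (G → ℂ)}
  {d : ℕ} {e n : ℤ} {ζ : ↥L → ℂ} {φ ψ : ↥W →* ℂˣ}

/-- `W₂ = K'` is central in `L`. -/
theorem central (h : PrimeTIHyp L K W W₁ W₂) (hprime : (Nat.card ↥W₂).Prime)
    (hK : Nat.card ↥K = Nat.card ↥W₂ ^ 3) (hK' : ⁅K, K⁆ = W₂) :
    ∀ z ∈ W₂, ∀ x ∈ L, z * x = x * z := by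
  set p := Nat.card ↥W₂ with hp
  have : Fact p.Prime := ⟨hprime⟩
  have hKp : IsPGroup p ↥K := IsPGroup.of_card hK
  have : Group.IsNilpotent ↥K := hKp.isNilpotent
  have hW₂K := h.W₂_le
  have hmap : (commutator ↥K).map K.subtype = W₂ := by
    rw [commutator_def, Subgroup.map_commutator, ← MonoidHom.range_eq_map, K.range_subtype, hK']
  have hcard : Nat.card ↥(commutator ↥K) = p := by
    rw [hp, ← hmap]
    exact (Nat.card_congr ((commutator ↥K).equivMapOfInjective K.subtype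
      K.subtype_injective).toEquiv)
  have hne : commutator ↥K ≠ ⊥ := by
    intro h0
    rw [h0, Subgroup.card_bot] at hcard
    exact hprime.one_lt.ne hcard
  have h1 := Cfsg.Agent.Lib.NormalAbelian.normal_inf_center_ne_bot (commutator ↥K) hne
  have h2 : commutator ↥K ⊓ Subgroup.center ↥K = commutator ↥K := by
    have hdvd : Nat.card ↥(commutator ↥K ⊓ Subgroup.center ↥K) ∣ p := by
      rw [← hcard]
      exact Subgroup.card_dvd_of_le inf_le_left
    rcases (Nat.dvd_prime hprime).1 hdvd with h3 | h3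
    · exact absurd (Subgroup.card_eq_one.1 h3) h1
    · exact Subgroup.eq_of_le_of_card_ge inf_le_left (by rw [h3, hcard])
  have h3 : commutator ↥K ≤ Subgroup.center ↥K := by rw [← h2]; exact inf_le_right
  have hKc : ∀ z ∈ W₂, ∀ x ∈ K, z * x = x * z := by
    intro z hz x hx
    have hz' : (⟨z, hW₂K hz⟩ : ↥K) ∈ commutator ↥K := by
      rw [← hmap] at hz
      obtain ⟨y, hy, hyz⟩ := hz
      have : (⟨z, hW₂K (by rw [← hmap]; exact ⟨y, hy, hyz⟩)⟩ : ↥K) = y := Subtype.ext hyz.symm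
      rw [this]
      exact hy
    have h4 := Subgroup.mem_center_iff.1 (h3 hz') ⟨x, hx⟩
    exact (congrArg Subtype.val h4).symm
  intro z hz x hx
  have h5 : L ≤ Subgroup.centralizer ({z} : Set G) := by
    rw [← h.sup_L, sup_le_iff]
    constructor
    · intro k hk
      rw [Subgroup.mem_centralizer_singleton_iff]
      exact (hKc z hz k hk).symm
    · intro w hw
      rw [Subgroup.mem_centralizer_singleton_iff]
      exact PF4b.TIFam.comm h w hw z hz
  exact (Subgroup.mem_centralizer_singleton_iff.1 (h5 hx)).symm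

/-- An irreducible character of `K` of degree `p` does not induce irreducibly. -/
theorem not_irr_indFun (h : PrimeTIHyp L K W W₁ W₂) (hprime : (Nat.card ↥W₂).Prime)
    (hK : Nat.card ↥K = Nat.card ↥W₂ ^ 3) (hK' : ⁅K, K⁆ = W₂)
    {θ : ↥(K.subgroupOf L) → ℂ} (hθ : IsIrrCharacter ↥(K.subgroupOf L) θ)
    (hθ1 : θ 1 = (Nat.card ↥W₂ : ℂ)) : ¬ IsIrrCharacter ↥L (indFun (K.subgroupOf L) θ) := by
  classical
  intro hirr
  have hKn := PF4b.TIFam.K_normal h
  have hfK : Fintype ↥(K.subgroupOf L) := Fintype.ofFinite _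
  have hc := central h hprime hK hK'
  have hcardN : Nat.card ↥(K.subgroupOf L) = Nat.card ↥W₂ ^ 3 := by
    rw [← hK]
    exact Nat.card_congr (Subgroup.subgroupOfEquivOfLe h.le).toEquiv
  -- the centre
  set Z : Subgroup ↥(K.subgroupOf L) := (W₂.subgroupOf L).subgroupOf (K.subgroupOf L) with hZdef
  have hZmem : ∀ x : ↥(K.subgroupOf L), x ∈ Z ↔ ((x : ↥L) : G) ∈ W₂ := fun x => Iff.rfl
  have hZ : ∀ z ∈ Z, ∀ x : ↥(K.subgroupOf L), z * x = x * z := by
    intro z hz x
    apply Subtype.ext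
    apply Subtype.ext
    exact hc _ hz _ (x : ↥L).2
  have hZc : Nat.card Z = Nat.card ↥W₂ := by
    have h1 : W₂.subgroupOf L ≤ K.subgroupOf L := fun x hx => h.W₂_le hx
    rw [Nat.card_congr (Subgroup.subgroupOfEquivOfLe h1).toEquiv]
    exact Nat.card_congr (Subgroup.subgroupOfEquivOfLe (h.W₂_le.trans h.le)).toEquiv
  have hvan : ∀ x : ↥(K.subgroupOf L), x ∉ Z → θ x = 0 := fun x hx =>
    vanish_off_central hθ hprime hcardN Z hZ hZc hθ1 hx
  -- invariance
  have hinv : ∀ (g : ↥L) (hg : g ∈ K.subgroupOf L) (x : ↥L),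
      θ ⟨x⁻¹ * g * x, InducedNormal.conj_mem' (K.subgroupOf L) hg x⟩ = θ ⟨g, hg⟩ := by
    intro g hg x
    by_cases hgZ : (g : G) ∈ W₂
    · congr 1
      apply Subtype.ext
      apply Subtype.ext
      show (x : G)⁻¹ * g * x = g
      rw [mul_assoc, hc _ hgZ _ x.2]
      group
    · rw [hvan ⟨g, hg⟩ hgZ]
      apply hvan
      intro hmem
      apply hgZ
      have h1 : (x : G)⁻¹ * g * x ∈ W₂ := hmem
      have h2 := hc _ h1 _ x.2
      have h3 : (g : G) = (x : G)⁻¹ * g * x := by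
        have h4 : (x : G) * ((x : G)⁻¹ * g * x) * (x : G)⁻¹ = g := by group
        rw [← h2, mul_inv_cancel_right] at h4
        exact h4.symm
      rw [h3]
      exact h1
  have hres : ∀ k : ↥(K.subgroupOf L), indFun (K.subgroupOf L) θ (k : ↥L) =
      ((K.subgroupOf L).index : ℂ) * θ k := by
    intro k
    rw [InducedNormal.indFun_mem (K.subgroupOf L) θ k.2,
      Finset.sum_congr rfl fun x _ => hinv (k : ↥L) k.2 x, Finset.sum_const, Finset.card_univ,
      nsmul_eq_mul, ← mul_assoc, InducedNormal.card_inv_mul_card]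
  have h1 := Characters.Core.classInner_irr_self hirr
  rw [IndRes.classInner_indFun_left _ _ (Characters.Core.isIrr_isClassFunction hirr)] at h1
  have h2 : IndRes.res (K.subgroupOf L) (indFun (K.subgroupOf L) θ) =
      ((K.subgroupOf L).index : ℂ) • θ := by
    funext k
    exact hres k
  rw [h2, Characters.Core.classInner_smul_right, Characters.Core.classInner_irr_self hθ] at h1
  have h3 : (K.subgroupOf L).index = Nat.card W₁ := (Setup.card_eq_mul h).2.2
  rw [h3] at h1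
  have h4 := PF4b.Prime.three_le_W₁ h
  have h5 : (Nat.card W₁ : ℂ) = 1 := by simpa using h1
  have h6 : Nat.card W₁ = 1 := by exact_mod_cast h5
  omega

/-- in the extremal case: `d = p`, `e = -1`, `n = 2`, and `S = {ζ_k} ∪ {μ_j}` -/
theorem extremal (h : Ctx.Hyp L K W W₁ W₂ A A₀ R μ δ η d e n) (hprime : (Nat.card ↥W₂).Prime)
    (hK : Nat.card ↥K = Nat.card ↥W₂ ^ 3) (hp : Nat.card ↥W₂ + 1 = 2 * Nat.card ↥W₁)
    (hK' : ⁅K, K⁆ = W₂) :
    d = Nat.card ↥W₂ ∧ e = -1 ∧ n = 2 ∧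
      (∀ ξ ∈ seqIndOf L K K ⊥, IsZeta L K W₁ ξ ∨
        ∃ ω, ω ∉ lin₁ W W₂ ∧ ξ = colSum W W₂ μ ω) := by
  classical
  have hTI := h.hD.primeTI
  have hfK : Fintype ↥(K.subgroupOf L) := Fintype.ofFinite _
  have hcardN : Nat.card ↥(K.subgroupOf L) = Nat.card ↥W₂ ^ 3 := by
    rw [← hK]
    exact Nat.card_congr (Subgroup.subgroupOfEquivOfLe hTI.le).toEquiv
  obtain ⟨ψ', hψ', hψ1, -⟩ := h.exists_ne 1
  have hψn := Ctx.notMem_lin₁ h.hD hψ' hψ1
  have hd : d = Nat.card ↥W₂ := by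
    have h1 := degree_cases (h.hμ.restrict_irr ψ') hprime hcardN
    have h2 : μ ψ' ((1 : ↥(K.subgroupOf L)) : ↥L) = (d : ℂ) := h.deg ψ' hψn
    simp only [h2] at h1
    have h3 := h.d_gt
    rcases h1 with h1 | h1
    · have : d = 1 := by exact_mod_cast h1
      omega
    · exact_mod_cast h1
  have hw₁ := h.three_le₁
  have hn := h.n_mul
  have he : e = -1 := by
    rcases h.e_sgn with he | he
    · exfalso
      rw [he, hd] at hn
      have h1 : (Nat.card ↥W₂ : ℤ) + 1 = 2 * Nat.card ↥W₁ := by exact_mod_cast hp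
      have h2 : (n - 2) * (Nat.card ↥W₁ : ℤ) = -2 := by linarith
      have h3 : (Nat.card ↥W₁ : ℤ) ∣ 2 := ⟨-(n - 2), by linarith⟩
      have h4 := Int.le_of_dvd (by norm_num) h3
      omega
    · exact he
  have hn2 : n = 2 := by
    rw [he, hd] at hn
    have h1 : (Nat.card ↥W₂ : ℤ) + 1 = 2 * Nat.card ↥W₁ := by exact_mod_cast hp
    have h2 : (n - 2) * (Nat.card ↥W₁ : ℤ) = 0 := by linarith
    have h3 : (Nat.card ↥W₁ : ℤ) ≠ 0 := by omega
    rcases mul_eq_zero.1 h2 with h4 | h4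
    · omega
    · exact absurd h4 h3
  refine ⟨hd, he, hn2, ?_⟩
  intro ξ hξ
  have hξ' := hξ
  obtain ⟨θ, hθ, ⟨x, hx, hne⟩, -, rfl⟩ := hξ
  rcases PF4b.TIFam.irr_cases hTI h.hμ hθ with ⟨ω, hω⟩ | hirr
  · right
    refine ⟨ω, ?_, ?_⟩
    · intro hω1
      apply hne
      rw [hω]
      show μ ω (x : ↥L) = μ ω ((1 : ↥(K.subgroupOf L)) : ↥L)
      rw [(PF4b.TIFam.mu_lin₁ hTI h.hμ hω1).1 _ hx,
        (PF4b.TIFam.mu_lin₁ hTI h.hμ hω1).1 _ K.one_mem]
    · rw [hω]
      exact h.hμ.ind_restrict ω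
  · left
    refine ⟨hirr, hξ', ?_⟩
    have hidx : (K.subgroupOf L).index = Nat.card W₁ := (Setup.card_eq_mul hTI).2.2
    rw [IndRes.indFun_apply_one, hidx]
    rcases degree_cases hθ hprime hcardN with h1 | h1
    · rw [h1, mul_one]
    · exact absurd hirr (not_irr_indFun hTI hprime hK hK' hθ h1)

end Cfsg.Agent.OddOrderCharacters.PF10.TypeVExtremal
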