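import Mathlib
import Cfsg.Agent.OddOrderCharacters.PF8.Types
import Cfsg.Agent.OddOrderCharacters.PF10.Setup
import Cfsg.Agent.OddOrderCharacters.PF10.HypM
import Cfsg.Agent.OddOrderCharacters.PF10.Noncoh
import Cfsg.Agent.OddOrderCharacters.PF10.TypeVCoh
import Cfsg.Agent.OddOrderCharacters.PF10.TypeVExtremal
import Cfsg.Agent.OddOrderCharacters.PF10.TypeVGroup

/-!
# Peterfalvi (10.10): there is no maximal subgroup of type V
-/

set_option autoImplicit false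
set_option linter.unusedSectionVars false

open scoped ComplexConjugate
open Cfsg Cfsg.Agent.OddOrderCharacters.PFDefs
  Cfsg.Agent.OddOrderCharacters.PF10.Ctx Cfsg.Agent.OddOrderCharacters.PF10.Defs

namespace Cfsg.Agent.OddOrderCharacters.PF10.TypeV

universe u

section extremal

variable {G : Type u} [Group G] [Fintype G] {L K W W₁ W₂ : Subgroup G} [Fintype ↥L]
  {A A₀ : Set G} {R : G → Subgroup G}
  {μ : (↥W →* ℂˣ) → (↥L → ℂ)} {δ : (↥W →* ℂˣ) → ℤ} {η : (↥W →* ℂˣ) → (G → ℂ)}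
  {d : ℕ} {e n : ℤ} {ζ : ↥L → ℂ} {φ ψ : ↥W →* ℂˣ}

/-- `τ α_ij = e (η_ij - η_i0) - n χ` in the extremal case. -/
theorem tau_alpha_extremal (h : Ctx.Hyp L K W W₁ W₂ A A₀ R μ δ η d e n)
    (hprime : (Nat.card ↥W₂).Prime)
    (hK : Nat.card ↥K = Nat.card ↥W₂ ^ 3) (hp : Nat.card ↥W₂ + 1 = 2 * Nat.card ↥W₁)
    (hK' : ⁅K, K⁆ = W₂) {χ : G → ℂ} (hζ : IsZeta L K W₁ ζ)
    (hχ : IsChi W W₂ (dadeIsometry A₀ L R) μ η ζ χ)
    (hφ : φ ∈ lin₁ W W₂) (hψ : ψ ∈ lin₁ W W₁) (hψ1 : ψ ≠ 1) :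
    dadeIsometry A₀ L R (Ctx.alpha μ e n ζ φ ψ) = e • (η (φ * ψ) - η φ) - n • χ := by
  obtain ⟨-, -, hn, -⟩ := TypeVExtremal.extremal h hprime hK hp hK'
  have h3 := h.three_le₁
  exact TypeVCoh.tau_bridge_two h hn (by omega) (by omega) hζ hχ hφ hψ hψ1

/-- `S` is coherent in the extremal case. -/
theorem coherent_extremal (h : Ctx.Hyp L K W W₁ W₂ A A₀ R μ δ η d e n)
    (hprime : (Nat.card ↥W₂).Prime)
    (hK : Nat.card ↥K = Nat.card ↥W₂ ^ 3) (hp : Nat.card ↥W₂ + 1 = 2 * Nat.card ↥W₁)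
    (hK' : ⁅K, K⁆ = W₂) :
    IsCoherent (seqIndOf L K K ⊥) {1}ᶜ (dadeIsometry A₀ L R) := by
  obtain ⟨-, -, -, hS⟩ := TypeVExtremal.extremal h hprime hK hp hK'
  have h3 := h.three_le₁
  have hlt : Nat.card ↥W₁ < Nat.card ↥W₂ := by omega
  have hne : ⁅K, K⁆ ≠ K := by
    intro h1
    rw [hK'] at h1
    rw [← h1] at hK
    have h2 : 1 < Nat.card ↥W₂ := hprime.one_lt
    have h4 : Nat.card ↥W₂ ^ 1 < Nat.card ↥W₂ ^ 3 := Nat.pow_lt_pow_right h2 (by norm_num)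
    rw [pow_one] at h4
    omega
  obtain ⟨ζ, -, hζS, hζ, hζ1⟩ := Setup.exists_ref h.hD.primeTI h.hμ hK'.ge hne
  have hz : IsZeta L K W₁ ζ := ⟨hζ, hζS, hζ1⟩
  obtain ⟨χ, hχ⟩ := TypeVCoh.exists_isChi h hlt hz
  exact TypeVCoh.coherent_of h hlt hS hz hχ fun φ hφ ψ hψ hψ1 =>
    tau_alpha_extremal h hprime hK hp hK' hz hχ hφ hψ hψ1

end extremal

/-- (10.10) -/
theorem FTtype5_exclusion {G : Type u} [Group G] [Finite G] (hG : IsMinSimpleOddOrder G)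
    (M : Subgroup G) (hM : IsCoatom M) : ¬ IsOfTypeV M := by
  intro hV
  have := Fintype.ofFinite G
  have := Fintype.ofFinite ↥M
  obtain ⟨W₁, U, W₂, hP, -⟩ := id hV
  have hII : ¬ IsOfTypeII M := (PF8.not_typeII_of_typeV hG hM hV).1
  have hnc := Noncoh.FTtype345_noncoherence hG hM hP hII
  obtain ⟨h1, h2, h3⟩ := TypeVGroup.reduction hG hM hP hV hnc
  obtain ⟨μ, δ, η, d, e, n, hH⟩ := HypM.exists_hypM hG hM hP hII
  exact hnc (coherent_extremal hH.hyp hH.prime h1 h2 h3)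

end Cfsg.Agent.OddOrderCharacters.PF10.TypeV
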