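import Cfsg.Agent.OddOrderCharacters.PFDefs
import Cfsg.Agent.OddOrderCharacters.VChar
import Cfsg.Agent.OddOrderCharacters.ColSum
import Cfsg.Agent.OddOrderCharacters.DadeBasic
import Cfsg.Agent.OddOrderCharacters.DadeVirtual
import Cfsg.Agent.OddOrderCharacters.PF7Rho
import Cfsg.Agent.OddOrderCharacters.PF4b.TIFam
import Cfsg.Agent.OddOrderCharacters.PF4b.Prime

/-!
# Peterfalvi (10.4): the generalized characters `α = μ_ij - δ μ_i0 - n ζ`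

Abstract form: `PrimeDadeHyp L K K A A₀ W W₁ W₂ R`, the degrees `μ_ij(1) = d` and the signs
`δ_j = e` constant for `j ≠ 0`, `n w₁ = d - e`, and `ζ` irreducible of degree `w₁`, zero off `K`.
-/

set_option autoImplicit false
set_option linter.unusedSectionVars false

open scoped ComplexConjugate
open Cfsg Cfsg.Agent.Characters.Core Cfsg.Agent.OddOrderCharacters.VChar
  Cfsg.Agent.OddOrderCharacters.PFDefs

universe u

namespace Cfsg.Agent.OddOrderCharacters.PF10.Alpha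

variable {G : Type u} [Group G] [Fintype G] {L K W W₁ W₂ : Subgroup G} [Fintype ↥L]
  {A A₀ : Set G} {R : G → Subgroup G}
  {μ : (↥W →* ℂˣ) → (↥L → ℂ)} {δ : (↥W →* ℂˣ) → ℤ} {η : (↥W →* ℂˣ) → (G → ℂ)}
  {d : ℕ} {e n : ℤ} {ζ : ↥L → ℂ} {φ ψ : ↥W →* ℂˣ}

/-- (10.3): the constants `d = μ_ij(1)`, `e = δ_j` (`j ≠ 0`) and `n = (d - e) / w₁`. -/
structure Const (W W₁ W₂ : Subgroup G) (μ : (↥W →* ℂˣ) → (↥L → ℂ)) (δ : (↥W →* ℂˣ) → ℤ)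
    (d : ℕ) (e n : ℤ) : Prop where
  one_lt : 1 < d
  mu_one : ∀ ω, ω ∉ lin₁ W W₂ → μ ω 1 = d
  sign : ∀ ω, ω ∉ lin₁ W W₂ → δ ω = e
  eq : n * Nat.card W₁ = d - e

/-- `ζ` irreducible of degree `w₁`, zero off `K`. -/
structure Zeta (K W₁ : Subgroup G) (ζ : ↥L → ℂ) : Prop where
  irr : IsIrrCharacter ↥L ζ
  off : ∀ x : ↥L, (x : G) ∉ K → ζ x = 0
  one : ζ 1 = Nat.card W₁

/-- `α_ij = μ_ij - δ μ_i0 - n ζ`, with `ω_ij = φ * ψ`, `ω_i0 = φ`. -/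
def alpha (μ : (↥W →* ℂˣ) → (↥L → ℂ)) (e n : ℤ) (ζ : ↥L → ℂ) (φ ψ : ↥W →* ℂˣ) : ↥L → ℂ :=
  μ (φ * ψ) - e • μ φ - n • ζ

theorem mem_A (hD : PrimeDadeHyp L K K A A₀ W W₁ W₂ R) {x : G} (hx : x ∈ K) (h1 : x ≠ 1) :
    x ∈ A := hD.centralizer_sub x hx h1 x hx h1 rfl

theorem mem_A₀_of_K (hD : PrimeDadeHyp L K K A A₀ W W₁ W₂ R) {x : G} (hx : x ∈ K) (h1 : x ≠ 1) :
    x ∈ A₀ := by
  rw [hD.A₀_eq]
  exact Or.inl (mem_A hD hx h1)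

theorem isDirect (hD : PrimeDadeHyp L K K A A₀ W W₁ W₂ R) : ColSum.IsDirect W W₁ W₂ :=
  ColSum.isDirect_of_hyp hD.cyclicTI

/-- For `φ ∈ lin₁`, `ψ ∈ lin₂` nontrivial, `φ ψ ∉ lin₁`. -/
theorem mul_not_mem (hd : ColSum.IsDirect W W₁ W₂) (hφ : φ ∈ lin₁ W W₂) (hψ : ψ ∈ lin₁ W W₁)
    (hψ1 : ψ ≠ 1) : φ * ψ ∉ lin₁ W W₂ := by
  intro h
  apply hψ1
  apply ColSum.eq_one_of_mem hd hψ
  intro w hw
  have := h w hw
  rwa [MonoidHom.mul_apply, hφ w hw, one_mul] at this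

theorem mul_ne_left (hψ1 : ψ ≠ 1) : φ * ψ ≠ φ := by
  intro h
  exact hψ1 (mul_left_cancel (a := φ) (h.trans (ColSum.lin_mul_one φ).symm))

theorem mu_one_of_lin₁ (hD : PrimeTIHyp L K W W₁ W₂) (hμ : PrimeTIFam L K W W₁ W₂ μ δ)
    (hφ : φ ∈ lin₁ W W₂) : μ φ 1 = 1 :=
  (PF4b.TIFam.mu_lin₁ hD hμ hφ).1 1 K.one_mem

theorem sign_sq (hC : Const W W₁ W₂ μ δ d e n) (hμ : PrimeTIFam L K W W₁ W₂ μ δ)
    {ω : ↥W →* ℂˣ} (hω : ω ∉ lin₁ W W₂) : e = 1 ∨ e = -1 := by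
  rw [← hC.sign ω hω]
  exact hμ.sign ω

theorem zeta_ne_mu (hD : PrimeTIHyp L K W W₁ W₂) (hμ : PrimeTIFam L K W W₁ W₂ μ δ)
    (hζ : Zeta K W₁ ζ) (ω : ↥W →* ℂˣ) : ζ ≠ μ ω :=
  PF4b.TIFam.ne_mu_of_off hD hμ hζ.off ω

theorem alpha_gen (hμ : PrimeTIFam L K W W₁ W₂ μ δ) (hζ : Zeta K W₁ ζ) :
    IsGeneralizedCharacter ↥L (alpha μ e n ζ φ ψ) :=
  gen_sub (gen_sub (gen_of_irr (hμ.irr _)) (gen_zsmul _ (gen_of_irr (hμ.irr _))))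
    (gen_zsmul _ (gen_of_irr hζ.irr))

theorem alpha_class (hμ : PrimeTIFam L K W W₁ W₂ μ δ) (hζ : Zeta K W₁ ζ) :
    IsClassFunction ↥L (alpha μ e n ζ φ ψ) := gen_isClassFunction (alpha_gen hμ hζ)

theorem alpha_apply (x : ↥L) :
    alpha μ e n ζ φ ψ x = μ (φ * ψ) x - e * μ φ x - n * ζ x := by
  unfold alpha
  simp only [Pi.sub_apply, zsmul_eq_mul, Pi.mul_apply, Pi.intCast_apply]

/-- The value of `α_ij` on `W \ W₂`. -/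
theorem alpha_apply_W (hD : PrimeDadeHyp L K K A A₀ W W₁ W₂ R)
    (hμ : PrimeTIFam L K W W₁ W₂ μ δ) (hC : Const W W₁ W₂ μ δ d e n) (hζ : Zeta K W₁ ζ)
    (hφ : φ ∈ lin₁ W W₂) (hψ : ψ ∈ lin₁ W W₁) (hψ1 : ψ ≠ 1) (w : ↥W) (hw : (w : G) ∈ L)
    (hw₂ : (w : G) ∉ W₂) :
    alpha μ e n ζ φ ψ ⟨w, hw⟩ = e * (φ w : ℂ) * ((ψ w : ℂ) - 1) := by
  have hwK : (w : G) ∉ K := by
    intro h
    apply hw₂
    have : (w : G) ∈ W ⊓ K := ⟨w.2, h⟩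
    rwa [PF4b.TIFam.W_inf_K hD.primeTI] at this
  rw [alpha_apply, hμ.eq_on _ w hw hw₂, hμ.eq_on _ w hw hw₂, hζ.off _ hwK,
    hC.sign _ (mul_not_mem (isDirect hD) hφ hψ hψ1),
    (PF4b.TIFam.mu_lin₁ hD.primeTI hμ hφ).2, MonoidHom.mul_apply]
  push_cast
  ring

/-- (10.4): `α_ij` vanishes off `A₀`. -/
theorem alpha_off (hD : PrimeDadeHyp L K K A A₀ W W₁ W₂ R)
    (hμ : PrimeTIFam L K W W₁ W₂ μ δ) (hC : Const W W₁ W₂ μ δ d e n) (hζ : Zeta K W₁ ζ)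
    (hφ : φ ∈ lin₁ W W₂) (hψ : ψ ∈ lin₁ W W₁) (hψ1 : ψ ≠ 1) (x : ↥L) (hx : (x : G) ∉ A₀) :
    alpha μ e n ζ φ ψ x = 0 := by
  by_cases h1 : x = 1
  · subst h1
    rw [alpha_apply, hC.mu_one _ (mul_not_mem (isDirect hD) hφ hψ hψ1),
      mu_one_of_lin₁ hD.primeTI hμ hφ, hζ.one]
    have := hC.eq
    have h2 : (n : ℂ) * (Nat.card W₁ : ℂ) = d - e := by exact_mod_cast congrArg (Int.cast (R := ℂ)) this
    rw [h2]
    ring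
  · have hxK : (x : G) ∉ K := fun h => hx (mem_A₀_of_K hD h (fun h2 => h1 (Subtype.ext h2)))
    rcases PF4b.TIFam.conj_to_V_or_W₁ hD.primeTI x x.2 hxK with h | ⟨k, hk, w, hw, hw1, h⟩
    · exact absurd (by rw [hD.A₀_eq]; exact Or.inr h) hx
    · have hwW : w ∈ W := (isDirect hD).le₁ hw
      have hwL : w ∈ L := PF4b.TIFam.W_le hD.primeTI hwW
      have hw₂ : w ∉ W₂ := by
        intro h2
        apply hw1
        have : w ∈ W₁ ⊓ W₂ := ⟨hw, h2⟩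
        rwa [(isDirect hD).inf_eq, Subgroup.mem_bot] at this
      have hkL : k ∈ L := hD.primeTI.le hk
      have hxe : x = (⟨k, hkL⟩ : ↥L) * ⟨w, hwL⟩ * (⟨k, hkL⟩ : ↥L)⁻¹ := Subtype.ext h
      rw [hxe, alpha_class hμ hζ ⟨w, hwL⟩ ⟨k, hkL⟩,
        alpha_apply_W hD hμ hC hζ hφ hψ hψ1 ⟨w, hwW⟩ hwL hw₂, hψ ⟨w, hwW⟩ hw]
      simp

theorem inner_alpha_mu (hD : PrimeTIHyp L K W W₁ W₂)
    (hμ : PrimeTIFam L K W W₁ W₂ μ δ) (hζ : Zeta K W₁ ζ) (ω : ↥W →* ℂˣ) :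
    classInner (alpha μ e n ζ φ ψ) (μ ω) =
      classInner (μ (φ * ψ)) (μ ω) - e * classInner (μ φ) (μ ω) := by
  unfold alpha
  rw [classInner_sub_left, classInner_sub_left, classInner_zsmul_left, classInner_zsmul_left,
    classInner_irr_ne hζ.irr (hμ.irr ω) (zeta_ne_mu hD hμ hζ ω)]
  ring

theorem inner_alpha_left (hD : PrimeTIHyp L K W W₁ W₂)
    (hμ : PrimeTIFam L K W W₁ W₂ μ δ) (hζ : Zeta K W₁ ζ) (hψ1 : ψ ≠ 1) :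
    classInner (alpha μ e n ζ φ ψ) (μ φ) = -e := by
  rw [inner_alpha_mu hD hμ hζ, classInner_irr_ne (hμ.irr _) (hμ.irr _)
    (fun h => mul_ne_left hψ1 (hμ.injective h)), classInner_irr_self (hμ.irr _)]
  ring

theorem inner_alpha_right (hD : PrimeTIHyp L K W W₁ W₂)
    (hμ : PrimeTIFam L K W W₁ W₂ μ δ) (hζ : Zeta K W₁ ζ) (hψ1 : ψ ≠ 1) :
    classInner (alpha μ e n ζ φ ψ) (μ (φ * ψ)) = 1 := by
  rw [inner_alpha_mu hD hμ hζ, classInner_irr_ne (hμ.irr φ) (hμ.irr _)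
    (fun h => mul_ne_left hψ1 (hμ.injective h).symm), classInner_irr_self (hμ.irr _)]
  ring

/-- Inner product with a function orthogonal to all the `μ ω`. -/
theorem inner_alpha_other {θ : ↥L → ℂ} (hθ : ∀ ω, classInner (μ ω) θ = 0) :
    classInner (alpha μ e n ζ φ ψ) θ = -n * classInner ζ θ := by
  unfold alpha
  rw [classInner_sub_left, classInner_sub_left, classInner_zsmul_left, classInner_zsmul_left,
    hθ, hθ]
  ring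

theorem inner_alpha_zeta (hD : PrimeTIHyp L K W W₁ W₂)
    (hμ : PrimeTIFam L K W W₁ W₂ μ δ) (hζ : Zeta K W₁ ζ) :
    classInner (alpha μ e n ζ φ ψ) ζ = -n := by
  rw [inner_alpha_other (fun ω => classInner_irr_ne (hμ.irr ω) hζ.irr (zeta_ne_mu hD hμ hζ ω).symm),
    classInner_irr_self hζ.irr, mul_one]

/-- (10.4): `‖α_ij‖² = 2 + n²`. -/
theorem norm_alpha (hD : PrimeDadeHyp L K K A A₀ W W₁ W₂ R)
    (hμ : PrimeTIFam L K W W₁ W₂ μ δ) (hC : Const W W₁ W₂ μ δ d e n) (hζ : Zeta K W₁ ζ)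
    (hφ : φ ∈ lin₁ W W₂) (hψ : ψ ∈ lin₁ W W₁) (hψ1 : ψ ≠ 1) :
    classInner (alpha μ e n ζ φ ψ) (alpha μ e n ζ φ ψ) = 2 + (n : ℂ) ^ 2 := by
  have he : (e : ℂ) * e = 1 := by
    rcases sign_sq hC hμ (mul_not_mem (isDirect hD) hφ hψ hψ1) with h | h <;> rw [h] <;> norm_num
  have h1 : classInner (alpha μ e n ζ φ ψ) (alpha μ e n ζ φ ψ) =
      classInner (alpha μ e n ζ φ ψ) (μ (φ * ψ)) - e * classInner (alpha μ e n ζ φ ψ) (μ φ) -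
        n * classInner (alpha μ e n ζ φ ψ) ζ := by
    conv_lhs => arg 2; unfold alpha
    rw [classInner_sub_right, classInner_sub_right, classInner_zsmul_right,
      classInner_zsmul_right]
  rw [h1, inner_alpha_left hD.primeTI hμ hζ hψ1, inner_alpha_right hD.primeTI hμ hζ hψ1,
    inner_alpha_zeta hD.primeTI hμ hζ]
  linear_combination he

open Classical in
theorem inner_alpha_one (hD : PrimeDadeHyp L K K A A₀ W W₁ W₂ R)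
    (hμ : PrimeTIFam L K W W₁ W₂ μ δ) (hC : Const W W₁ W₂ μ δ d e n) (hζ : Zeta K W₁ ζ)
    (hφ : φ ∈ lin₁ W W₂) (hψ : ψ ∈ lin₁ W W₁) (hψ1 : ψ ≠ 1) :
    classInner (alpha μ e n ζ φ ψ) (fun _ => 1) = if φ = 1 then (-e : ℂ) else 0 := by
  rw [← hμ.map_one]
  split_ifs with h
  · subst h
    exact inner_alpha_left hD.primeTI hμ hζ hψ1
  · rw [inner_alpha_mu hD.primeTI hμ hζ, classInner_irr_ne (hμ.irr _) (hμ.irr _),
      classInner_irr_ne (hμ.irr _) (hμ.irr _)]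
    · ring
    · exact fun h2 => h (hμ.injective h2)
    · intro h2
      have h3 := hμ.injective h2
      apply mul_not_mem (isDirect hD) hφ hψ hψ1
      rw [h3]
      exact ColSum.one_mem_lin₁

/-! ### The Dade image -/

theorem dade_gen (hD : PrimeDadeHyp L K K A A₀ W W₁ W₂ R)
    (hμ : PrimeTIFam L K W W₁ W₂ μ δ) (hC : Const W W₁ W₂ μ δ d e n) (hζ : Zeta K W₁ ζ)
    (hφ : φ ∈ lin₁ W W₂) (hψ : ψ ∈ lin₁ W W₁) (hψ1 : ψ ≠ 1) :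
    IsGeneralizedCharacter G (dadeIsometry A₀ L R (alpha μ e n ζ φ ψ)) :=
  DadeVirtual.dade_gen hD.dade (alpha_gen hμ hζ) (alpha_off hD hμ hC hζ hφ hψ hψ1)

/-- Inner products with the Dade image of a class function vanishing off `A₀`. -/
theorem dade_inner (hD : PrimeDadeHyp L K K A A₀ W W₁ W₂ R) {α β : ↥L → ℂ}
    (hα : IsClassFunction ↥L α) (hαA : ∀ x : ↥L, (x : G) ∉ A₀ → α x = 0)
    (hβ : IsClassFunction ↥L β) (hβA : ∀ x : ↥L, (x : G) ∉ A₀ → β x = 0) :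
    classInner (dadeIsometry A₀ L R α) (dadeIsometry A₀ L R β) = classInner α β := by
  rw [PF7Rho.dade_reciprocity hD.dade hα hαA (DadeBasic.dadeIsometry_isClassFunction hD.dade hβ),
    PF7Rho.rho_dadeIsometry hD.dade hβ hβA]

theorem dade_inner_one (hD : PrimeDadeHyp L K K A A₀ W W₁ W₂ R) {α : ↥L → ℂ}
    (hα : IsClassFunction ↥L α) (hαA : ∀ x : ↥L, (x : G) ∉ A₀ → α x = 0) :
    classInner (dadeIsometry A₀ L R α) (fun _ => 1) = classInner α (fun _ => 1) := by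
  rw [PF7Rho.dade_reciprocity hD.dade hα hαA (fun _ _ => rfl)]
  unfold classInner
  congr 1
  refine Finset.sum_congr rfl fun x _ => ?_
  by_cases hx : (x : G) ∈ A₀
  · rw [PF7Rho.rho_of_const (A := A₀) (L := L) (R := R) _ hx 1 (fun _ _ => rfl)]
  · rw [hαA x hx, zero_mul, zero_mul]

theorem norm_dade (hD : PrimeDadeHyp L K K A A₀ W W₁ W₂ R)
    (hμ : PrimeTIFam L K W W₁ W₂ μ δ) (hC : Const W W₁ W₂ μ δ d e n) (hζ : Zeta K W₁ ζ)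
    (hφ : φ ∈ lin₁ W W₂) (hψ : ψ ∈ lin₁ W W₁) (hψ1 : ψ ≠ 1) :
    classInner (dadeIsometry A₀ L R (alpha μ e n ζ φ ψ))
      (dadeIsometry A₀ L R (alpha μ e n ζ φ ψ)) = 2 + (n : ℂ) ^ 2 := by
  rw [dade_inner hD (alpha_class hμ hζ) (alpha_off hD hμ hC hζ hφ hψ hψ1) (alpha_class hμ hζ)
    (alpha_off hD hμ hC hζ hφ hψ hψ1), norm_alpha hD hμ hC hζ hφ hψ hψ1]

open Classical in
theorem dade_alpha_one (hD : PrimeDadeHyp L K K A A₀ W W₁ W₂ R)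
    (hμ : PrimeTIFam L K W W₁ W₂ μ δ) (hC : Const W W₁ W₂ μ δ d e n) (hζ : Zeta K W₁ ζ)
    (hφ : φ ∈ lin₁ W W₂) (hψ : ψ ∈ lin₁ W W₁) (hψ1 : ψ ≠ 1) :
    classInner (dadeIsometry A₀ L R (alpha μ e n ζ φ ψ)) (fun _ => 1) =
      if φ = 1 then (-e : ℂ) else 0 := by
  rw [dade_inner_one hD (alpha_class hμ hζ) (alpha_off hD hμ hC hζ hφ hψ hψ1),
    inner_alpha_one hD hμ hC hζ hφ hψ hψ1]

/-- The value of `α_ij^τ` on `V`. -/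
theorem dade_alpha_V (hD : PrimeDadeHyp L K K A A₀ W W₁ W₂ R)
    (hμ : PrimeTIFam L K W W₁ W₂ μ δ) (hC : Const W W₁ W₂ μ δ d e n) (hζ : Zeta K W₁ ζ)
    (hφ : φ ∈ lin₁ W W₂) (hψ : ψ ∈ lin₁ W W₁) (hψ1 : ψ ≠ 1) (w : ↥W) (hw₁ : (w : G) ∉ W₁)
    (hw₂ : (w : G) ∉ W₂) :
    dadeIsometry A₀ L R (alpha μ e n ζ φ ψ) w = e * (φ w : ℂ) * ((ψ w : ℂ) - 1) := by
  have hwL : (w : G) ∈ L := PF4b.TIFam.W_le hD.primeTI w.2
  rw [PF4b.Prime.dade_V hD (alpha_class hμ hζ) w hw₁ hw₂ hwL,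
    alpha_apply_W hD hμ hC hζ hφ hψ hψ1 w hwL hw₂]

end Cfsg.Agent.OddOrderCharacters.PF10.Alpha
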