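import Cfsg.Agent.OddOrderCharacters.PF10.Defs
import Cfsg.Agent.OddOrderCharacters.PF8.TypeF
import Cfsg.Agent.OddOrderCharacters.PF8.TypeP
import Cfsg.Agent.OddOrderCharacters.TypeEquivariance
import Cfsg.Agent.OddOrderLocal.W.S1391w
import Cfsg.Agent.OddOrderLocal.W.S1539w

/-!
# Group-theoretic inputs of Peterfalvi (10.7)
-/

set_option autoImplicit false
set_option linter.unusedSectionVars false

open scoped Pointwise
open Cfsg Cfsg.Agent.OddOrderCharacters.PFDefs Cfsg.Agent.OddOrderCharacters.PF10.Defs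

universe u

namespace Cfsg.Agent.OddOrderCharacters.PF10.FrobAux

section frob

variable {X : Type*} [Group X]

/-- In a Frobenius group the centralizer of a nontrivial element of the kernel lies in the kernel. -/
theorem mem_kernel_of_commute {E : Subgroup X} (hE : IsFrobeniusComplement E) {k x : X}
    (hk : k ∈ frobeniusKernel E) (hk1 : k ≠ 1) (hx : x * k = k * x) : x ∈ frobeniusKernel E := by
  by_contra hxn
  have hxn' : x ≠ 1 ∧ ∃ g : X, x ∈ MulAut.conj g • E := by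
    have h0 : ¬ (x = 1 ∨ ∀ g : X, x ∉ MulAut.conj g • E) := hxn
    simp only [not_or, not_forall, not_not] at h0
    exact h0
  obtain ⟨hx1, g, hg⟩ := hxn'
  have hkn : ∀ g : X, k ∉ MulAut.conj g • E := by
    rcases hk with h | h
    · exact absurd h hk1
    · exact h
  have hmem : ∀ (g y : X), y ∈ MulAut.conj g • E ↔ g⁻¹ * y * g ∈ E := by
    intro g y
    rw [Subgroup.mem_pointwise_smul_iff_inv_smul_mem, ← map_inv, MulAut.smul_def,
      MulAut.conj_apply, inv_inv]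
  have hk' : g⁻¹ * k * g ∉ E := fun h => hkn g ((hmem g k).2 h)
  have hy : g⁻¹ * x * g ∈ E := (hmem g x).1 hg
  have h1 := hE.2.2 _ hk'
  have h2 : g⁻¹ * x * g ∈ E ⊓ (MulAut.conj (g⁻¹ * k * g) • E) := by
    refine Subgroup.mem_inf.2 ⟨hy, (hmem _ _).2 ?_⟩
    have h3 : (g⁻¹ * k * g)⁻¹ * (g⁻¹ * x * g) * (g⁻¹ * k * g) = g⁻¹ * x * g := by
      have h4 : (g⁻¹ * k * g)⁻¹ * (g⁻¹ * x * g) * (g⁻¹ * k * g) = g⁻¹ * (k⁻¹ * (x * k)) * g := by
        group
      rw [h4, hx]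
      group
    rw [h3]
    exact hy
  rw [h1, Subgroup.mem_bot] at h2
  apply hx1
  have h3 : x = g * (g⁻¹ * x * g) * g⁻¹ := by group
  rw [h3, h2]
  group

end frob

/-- A maximal subgroup of type P is not a Frobenius group with kernel `M_F`. -/
theorem not_frobenius {G : Type u} [Group G] {M W₁ U W₂ : Subgroup G}
    (hP : IsTypePWith M W₁ U W₂) (E : Subgroup ↥M) (hE : IsFrobeniusComplement E)
    (hK : frobeniusKernel E = ((fittingHall ↥M : Subgroup ↥M) : Set ↥M)) : False := by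
  obtain ⟨a, ha, ha1⟩ := (Subgroup.ne_bot_iff_exists_ne_one).1 hP.W₁_ne |>.imp
    (fun a h => h) |> fun ⟨a, h⟩ => (⟨(a : G), a.2, fun h1 => h (Subtype.ext h1)⟩ :
      ∃ a : G, a ∈ W₁ ∧ a ≠ 1)
  obtain ⟨b, hb, hb1⟩ := (Subgroup.ne_bot_iff_exists_ne_one).1 (PF8.W₂_ne hP) |>.imp
    (fun a h => h) |> fun ⟨a, h⟩ => (⟨(a : G), a.2, fun h1 => h (Subtype.ext h1)⟩ :
      ∃ a : G, a ∈ W₂ ∧ a ≠ 1)
  have haM : a ∈ M := PF8.W₁_le hP ha
  have hbM : b ∈ M := PF8.W₂_le hP hb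
  have hbF : (⟨b, hbM⟩ : ↥M) ∈ fittingHall ↥M := by
    obtain ⟨c, hc, hcb⟩ := PF8.W₂_le_fittingHallOf hP hb
    have : c = ⟨b, hbM⟩ := Subtype.ext hcb
    rw [← this]
    exact hc
  have h1 : (⟨a, haM⟩ : ↥M) ∈ frobeniusKernel E := by
    refine mem_kernel_of_commute hE (k := ⟨b, hbM⟩) (by rw [hK]; exact hbF)
      (fun h => hb1 (congrArg Subtype.val h)) (Subtype.ext ?_)
    exact PF8.W_comm hP a ha b hb
  rw [hK] at h1
  have h2 : a ∈ fittingHallOf M := ⟨⟨a, haM⟩, h1, rfl⟩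
  have h3 : a ∈ ⁅M, M⁆ ⊓ W₁ := ⟨PF8.fittingHallOf_le_derived' hP h2, ha⟩
  rw [PF8.derived_inf_W₁ hP, Subgroup.mem_bot] at h3
  exact ha1 h3

section main

variable {G : Type u} [Group G] [Fintype G] {M W₁ U W₂ W T V : Subgroup G} [Fintype ↥M]
  {μ : (↥W →* ℂˣ) → (↥M → ℂ)} {δ : (↥W →* ℂˣ) → ℤ} {η : (↥W →* ℂˣ) → (G → ℂ)}
  {d : ℕ} {e n : ℤ}

/-- No conjugate of a group of type II is a maximal subgroup that is not of type II. -/
theorem map_ne (hMII : ¬ IsOfTypeII M) (hTII : IsOfTypeII T) (g : G) :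
    T.map (MulAut.conj g).toMonoidHom ≠ M := by
  intro h
  exact hMII (h ▸ TypeEquivariance.isOfTypeII_map_of (MulAut.conj g) T hTII)

/-- A conjugate of a group of type II supports no maximal subgroup of type P. -/
theorem not_supports (hG : IsMinSimpleOddOrder G) (hM : IsCoatom M)
    (hP : IsTypePWith M W₁ U W₂) (hTII : IsOfTypeII T) (g : G) :
    ¬ Supports' (T.map (MulAut.conj g).toMonoidHom) M := by
  rintro ⟨hTg, x, hx, hxM, hxT⟩
  have h1 := (OddOrderLocal.W.S1391w.result' hG M hM (typeA0' M) (Or.inr rfl)).2.2 x hx hxM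
    (T.map (MulAut.conj g).toMonoidHom) hTg hxT
  obtain ⟨E, hE, hK⟩ := h1.2.2.2.2.2.2
    (TypeEquivariance.isOfTypeII_map_of (MulAut.conj g) T hTII)
  exact not_frobenius hP E hE hK

theorem dadeSupport_eq_tildeOf (M : Subgroup G) (A : Set G) :
    dadeSupport A (supportR M) = tildeOf M A := by
  ext g
  constructor
  · rintro ⟨a, ha, u, hu, x, hx⟩
    refine ⟨a, ha, u, hu, x⁻¹, ?_⟩
    rw [← hx]; group
  · rintro ⟨a, ha, u, hu, x, hx⟩
    refine ⟨a, ha, u, hu, x⁻¹, ?_⟩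
    rw [hx]; group

theorem disjoint_supports (h : HypM M W₁ U W₂ W μ δ η d e n) (hT : IsCoatom T)
    (_hTP : IsTypePWith T W₂ V W₁) (hTII : IsOfTypeII T) :
    Disjoint (dadeSupport (sharp ⁅M, M⁆) (supportR M)) (dadeSupport (typeA' T) (supportR T)) := by
  rw [← h.typeA1_eq, dadeSupport_eq_tildeOf, dadeSupport_eq_tildeOf]
  rw [Set.disjoint_iff_inter_eq_empty]
  by_contra hne
  obtain ⟨g, hg⟩ := (OddOrderLocal.W.S1539w.result' h.hG M T h.hM hT
    (map_ne h.notII hTII)).2.2.1.2 (Set.nonempty_iff_ne_empty.2 hne)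
  exact not_supports h.hG h.hM h.hP hTII g hg

/-- If `T` is of type II and the complement `V` of `T_F` in `T'` is cyclic then `T'` is a Frobenius group
with kernel `T_F`. -/
theorem frobenius_of_isCyclic (hTP : IsTypePWith T W₂ V W₁) (hTII : IsOfTypeII T)
    (hc : IsCyclic ↥V) : ∀ x ∈ fittingHallOf T, x ≠ 1 → ∀ y ∈ ⁅T, T⁆, y * x = x * y →
      y ∈ fittingHallOf T := by
  obtain ⟨-, -, -, -, -, -, -, -, -, hF, hH⟩ := hTII
  have hVT : V ≤ ⁅T, T⁆ := PF8.U_le hTP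
  have hHT : fittingHallOf T ≤ ⁅T, T⁆ := PF8.fittingHallOf_le_derived' hTP
  have hmemH : ∀ y : ↥⁅T, T⁆, y ∈ fittingHall ↥⁅T, T⁆ ↔ (y : G) ∈ fittingHallOf T := by
    intro y
    rw [← hH]
    constructor
    · intro h
      exact ⟨y, h, rfl⟩
    · rintro ⟨z, hz, hzy⟩
      have : z = y := Subtype.ext hzy
      rw [← this]
      exact hz
  have hcompl : Subgroup.IsComplement' (fittingHall ↥⁅T, T⁆) (V.subgroupOf ⁅T, T⁆) := by
    refine Subgroup.isComplement'_of_disjoint_and_mul_eq_univ ?_ ?_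
    · rw [disjoint_iff, eq_bot_iff]
      intro y hy
      have h1 : (y : G) ∈ fittingHallOf T ⊓ V := ⟨(hmemH y).1 hy.1, hy.2⟩
      rw [hTP.U_compl.2.2.1, Subgroup.mem_bot] at h1
      exact Subgroup.mem_bot.2 (Subtype.ext h1)
    · rw [Set.eq_univ_iff_forall]
      intro y
      obtain ⟨a, ha, b, hb, hab⟩ := hTP.U_compl.2.2.2 y y.2
      refine Set.mem_mul.2 ⟨⟨a, hHT ha⟩, (hmemH _).2 ha, ⟨b, hVT hb⟩, hb, Subtype.ext hab.symm⟩
  have hcyc : IsCyclic ↥(V.subgroupOf ⁅T, T⁆) := by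
    have := (Subgroup.subgroupOfEquivOfLe hVT)
    exact isCyclic_of_surjective this.symm this.symm.surjective
  have hall := (PF8.typeF_frobenius_iff hF (V.subgroupOf ⁅T, T⁆) hcompl).2
    (fun p _ P => inferInstance)
  intro x hx hx1 y hy hxy
  have h1 := hall ⟨x, hHT hx⟩ ((hmemH _).2 hx) (fun h => hx1 (congrArg Subtype.val h))
  have h2 : (⟨y, hy⟩ : ↥⁅T, T⁆) ∈ Subgroup.centralizer ({(⟨x, hHT hx⟩ : ↥⁅T, T⁆)} : Set _) := by
    rw [Subgroup.mem_centralizer_singleton_iff]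
    exact Subtype.ext hxy
  exact (hmemH _).1 (h1 h2)

end main

end Cfsg.Agent.OddOrderCharacters.PF10.FrobAux
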