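import Cfsg.Agent.OddOrderCharacters.PF4b.TIFam
import Cfsg.Agent.OddOrderCharacters.PF4b.Prime
import Cfsg.Agent.OddOrderCharacters.PF4b.Subcoherent
import Cfsg.Agent.OddOrderCharacters.PF4b.CohExt
import Cfsg.Agent.OddOrderCharacters.ColSum
import Cfsg.Agent.OddOrderCharacters.IndRes
import Cfsg.Agent.S1517

/-!
# Peterfalvi (10.7), character-theoretic core

Let `(L, K, H, A, A₀, W, W₁, W₂)` be a prime Dade hypothesis, `λ` an irreducible member and `ν = μ_j`
a reducible member, of the same degree, of the set of functions induced from the irreducible characters of `K`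
with `H` not in the kernel.  There is no generalized character `χ` of norm one, orthogonal to the `η_ij`, such that
`τ (ν - λ)` is orthogonal to `∑_j η_0j - χ` and `τ (λ - conj λ)` is orthogonal to `χ - conj χ`.
-/

set_option autoImplicit false

open scoped ComplexConjugate
open Cfsg Cfsg.Agent.Characters.Core Cfsg.Agent.OddOrderCharacters.VChar
  Cfsg.Agent.OddOrderCharacters.PFDefs Cfsg.Agent.OddOrderCharacters.ColSum

namespace Cfsg.Agent.OddOrderCharacters.PF10.FrobCore

universe u

section general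

variable {G : Type u} [Group G] [Fintype G]

/-- Two generalized characters of norm one that are not orthogonal are equal up to sign. -/
theorem eq_or_eq_neg {φ ψ : G → ℂ} (hφ : IsGeneralizedCharacter G φ)
    (hψ : IsGeneralizedCharacter G ψ) (h1 : classInner φ φ = 1) (h2 : classInner ψ ψ = 1)
    (h : classInner φ ψ ≠ 0) : φ = ψ ∨ φ = -ψ := by
  rcases isIrr_of_generalized hφ h1 with h3 | h3 <;> rcases isIrr_of_generalized hψ h2 with h4 | h4
  · left
    by_contra hne
    exact h (classInner_irr_ne h3 h4 hne)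
  · right
    by_contra hne
    apply h
    have := classInner_irr_ne h3 h4 hne
    rw [classInner_neg_right, neg_eq_zero] at this
    exact this
  · right
    by_contra hne
    apply h
    have := classInner_irr_ne h3 h4 (fun h5 => hne (by rw [← h5, neg_neg]))
    rw [classInner_neg_left, neg_eq_zero] at this
    exact this
  · left
    by_contra hne
    apply h
    have := classInner_irr_ne h3 h4 (fun h5 => hne (neg_injective h5))
    rw [classInner_neg_left, classInner_neg_right, neg_neg] at this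
    exact this

end general

section seqInd

variable {G : Type u} [Group G] {L : Subgroup G} [Fintype ↥L]

theorem conjFun_mem_seqIndOf {K X Y : Subgroup G} {φ : ↥L → ℂ} (h : φ ∈ seqIndOf L K X Y) :
    conjFun φ ∈ seqIndOf L K X Y := by
  obtain ⟨θ, h1, ⟨x, hx, hx1⟩, h3, rfl⟩ := h
  refine ⟨conjFun θ, isIrr_conjFun h1, ⟨x, hx, ?_⟩, ?_, ?_⟩
  · intro h
    apply hx1
    have := congrArg (starRingEnd ℂ) h
    simpa [conjFun] using this
  · intro y hy
    show conj (θ y) = conj (θ 1)
    rw [h3 y hy]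
  · exact IndRes.conjFun_indFun _ _

end seqInd

section rows

variable {G : Type u} [Group G] [Finite G] {W W₁ W₂ : Subgroup G}
  {X : Type*} [Group X] [Fintype X] {f : (↥W →* ℂˣ) → (X → ℂ)}

/-- A row and a column of an orthonormal family meet in exactly one element. -/
theorem inner_colSum_rowSum (h : IsDirect W W₁ W₂) (hf : Orthonormal f) (ω ω' : ↥W →* ℂˣ) :
    classInner (colSum W W₂ f ω) (colSum W W₁ f ω') = 1 := by
  classical
  obtain ⟨φ₀, hφ₀, ψ₀, hψ₀, hω⟩ := exists_lin_mul h (ω' * ω⁻¹)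
  -- the only `φ ∈ lin₁ W W₂` with `φ ω = ω'` on `W₁` is `φ₀`
  rw [inner_colSum_left h, Finset.sum_eq_single φ₀]
  · rw [inner_fam_colSum h.symm hf, if_pos]
    intro w hw
    have h1 : (ω' * ω⁻¹) w = (φ₀ * ψ₀) w := by rw [hω]
    rw [MonoidHom.mul_apply, MonoidHom.mul_apply, hψ₀ w hw, mul_one, MonoidHom.inv_apply] at h1
    rw [MonoidHom.mul_apply, ← h1, inv_mul_cancel_right]
  · intro φ hφ hne
    rw [inner_fam_colSum h.symm hf, if_neg]
    intro hall
    apply hne
    have h2 : φ * φ₀⁻¹ = 1 := by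
      apply eq_one_of_mem h
      · apply mul_inv_mem_lin₁.2
        intro w hw
        have h1 : (ω' * ω⁻¹) w = (φ₀ * ψ₀) w := by rw [hω]
        rw [MonoidHom.mul_apply, MonoidHom.mul_apply, hψ₀ w hw, mul_one, MonoidHom.inv_apply] at h1
        have h3 := hall w hw
        rw [MonoidHom.mul_apply] at h3
        rw [← h1, ← h3, mul_inv_cancel_right]
      · exact mul_mem_lin₁ ((mem_linFin h).1 hφ) (inv_mem_lin₁ hφ₀)
    exact mul_inv_eq_one.1 h2
  · intro hn
    exact absurd ((mem_linFin h).2 hφ₀) hn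

end rows

section core

variable {G : Type u} [Group G] [Fintype G] {L K H W W₁ W₂ : Subgroup G} [Fintype ↥L]
  {A A₀ : Set G} {R : G → Subgroup G}
  {μ : (↥W →* ℂˣ) → (↥L → ℂ)} {δ : (↥W →* ℂˣ) → ℤ} {η : (↥W →* ℂˣ) → (G → ℂ)}

/-- Character-theoretic core of Peterfalvi (10.7). -/
theorem core (hD : PrimeDadeHyp L K H A A₀ W W₁ W₂ R)
    (hμ : PrimeTIFam L K W W₁ W₂ μ δ) (hη : CyclicTIFam W W₁ W₂ η) (hodd : Odd (Nat.card L))
    {lam : ↥L → ℂ} (hlam : lam ∈ seqIndOf L K H ⊥) (hirr : IsIrrCharacter ↥L lam)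
    {ω₀ : ↥W →* ℂˣ} (hν : colSum W W₂ μ ω₀ ∈ seqIndOf L K H ⊥)
    (hdeg : colSum W W₂ μ ω₀ 1 = lam 1)
    {χ : G → ℂ} (hχ : IsGeneralizedCharacter G χ) (hχ1 : classInner χ χ = 1)
    (hχη : ∀ ω, classInner χ (η ω) = 0)
    (h1 : classInner (dadeIsometry A₀ L R (colSum W W₂ μ ω₀ - lam)) (colSum W W₁ η 1 - χ) = 0)
    (h2 : classInner (dadeIsometry A₀ L R (lam - conjFun lam)) (χ - conjFun χ) = 0) : False := by
  classical
  set ν : ↥L → ℂ := colSum W W₂ μ ω₀ with hνdef
  set S : Set (↥L → ℂ) := {lam, conjFun lam, ν, conjFun ν} with hS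
  have mlam : lam ∈ S := by simp [hS]
  have mlam' : conjFun lam ∈ S := by simp [hS]
  have mν : ν ∈ S := by simp [hS]
  have mν' : conjFun ν ∈ S := by simp [hS]
  have hSsub : S ⊆ seqIndOf L K H ⊥ := by
    intro φ hφ
    simp only [hS, Set.mem_insert_iff, Set.mem_singleton_iff] at hφ
    rcases hφ with rfl | rfl | rfl | rfl
    · exact hlam
    · exact conjFun_mem_seqIndOf hlam
    · exact hν
    · exact conjFun_mem_seqIndOf hν
  have hSconj : ∀ φ ∈ S, conjFun φ ∈ S := by
    intro φ hφ
    simp only [hS, Set.mem_insert_iff, Set.mem_singleton_iff] at hφ ⊢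
    rcases hφ with rfl | rfl | rfl | rfl
    · exact Or.inr (Or.inl rfl)
    · exact Or.inl (conjFun_conjFun _)
    · exact Or.inr (Or.inr (Or.inr rfl))
    · exact Or.inr (Or.inr (Or.inl (conjFun_conjFun _)))
  obtain ⟨Rf, hsys, -, -⟩ :=
    PF4b.Subcoherent.prDade_subcoherent hD hμ hη hodd hSsub ⟨lam, mlam⟩ hSconj
  -- equal degrees
  have hreal : conj (lam 1) = lam 1 := by
    obtain ⟨n, hn⟩ := gen_apply_one (gen_of_irr hirr)
    rw [hn]; simp
  have hdegS : ∀ φ ∈ S, φ 1 = lam 1 := by
    intro φ hφ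
    simp only [hS, Set.mem_insert_iff, Set.mem_singleton_iff] at hφ
    rcases hφ with rfl | rfl | rfl | rfl
    · rfl
    · exact hreal
    · exact hdeg
    · show conj (ν 1) = lam 1
      rw [hdeg, hreal]
  obtain ⟨-, τ₁, hiso, hext⟩ := Cfsg.Agent.S1517.result S (dadeIsometry A₀ L R) Rf hsys
    (fun φ hφ ψ hψ => by rw [hdegS φ hφ, hdegS ψ hψ])
  have hdir := isDirect_of_hyp hD.cyclicTI
  have hon := orthonormal_of_fam hη
  -- `τ₁ ν = e ∑_i η_ij`
  have hτν : ∃ (e : ℂ) (ω' : ↥W →* ℂˣ), e ≠ 0 ∧ τ₁ ν = e • colSum W W₂ η ω' := by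
    have hδ : ((δ ω₀ : ℤ) : ℂ) ≠ 0 := by
      rcases hμ.sign ω₀ with h | h <;> rw [h] <;> norm_num
    rcases PF4b.CohExt.coherent_prDade_TIred hD hμ hη hodd hSsub hSconj hiso hext
      ⟨lam, mlam, hirr⟩ (ω := ω₀) mν with h | h
    · exact ⟨_, _, hδ, h⟩
    · refine ⟨-(δ ω₀ : ℂ), ω₀⁻¹, neg_ne_zero.2 hδ, ?_⟩
      rw [neg_smul]
      exact h
  obtain ⟨e, ω', he, hτν⟩ := hτν
  set a : G → ℂ := τ₁ lam with ha
  have hagen : IsGeneralizedCharacter G a := lin_gen hiso (zspan_subset mlam)
  have haη : ∀ ω, classInner a (η ω) = 0 := fun ω =>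
    PF4b.CohExt.coherent_ortho_cycTIiso hD hη hodd hSsub hSconj hiso hext mlam hirr ω
  have ha1 : classInner a a = 1 := by
    rw [ha, lin_inner hiso (zspan_subset mlam) (zspan_subset mlam), classInner_irr_self hirr]
  have hne : conjFun lam ≠ lam := hsys.conj_ne lam mlam
  -- `τ₁ (conj λ) = conj (τ₁ λ)`
  have haconj : conjFun a = τ₁ (conjFun lam) := by
    refine PF4b.CohExt.conj_Dade_coherent hD.dade hsys.isCharacter hsys.orthogonal hsys.conj_ne
      ?_ hSconj hiso hext mlam hirr
    intro φ hφ x hx1 hxA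
    refine PF4b.Prime.prDade_seqInd_on hD (hSsub hφ) x hx1 fun hxA' => hxA ?_
    rw [hD.A₀_eq]
    exact Or.inl hxA'
  have haa' : classInner a (conjFun a) = 0 := by
    rw [haconj, ha, lin_inner hiso (zspan_subset mlam) (zspan_subset mlam'),
      classInner_irr_ne hirr (isIrr_conjFun hirr) hne.symm]
  -- first orthogonality
  have hmem1 : ν - lam ∈ zspanOn S {1}ᶜ := by
    refine ⟨zspan_sub (zspan_subset mν) (zspan_subset mlam), fun x hx => ?_⟩
    have hx1 : x = 1 := by simpa using hx
    rw [hx1, Pi.sub_apply, hdegS ν mν, sub_self]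
  have hτ1 : dadeIsometry A₀ L R (ν - lam) = τ₁ ν - a := by
    rw [← hext _ hmem1, span_sub hiso (zspan_subset mν) (zspan_subset mlam)]
  have hcol0 : ∀ (θ : G → ℂ), (∀ ω, classInner θ (η ω) = 0) → ∀ ω, 
      classInner θ (colSum W W₁ η ω) = 0 := by
    intro θ hθ ω
    rw [inner_colSum_right hdir.symm]
    exact Finset.sum_eq_zero fun φ _ => hθ _
  have hcol0' : classInner (colSum W W₂ η ω') χ = 0 := by
    rw [inner_colSum_left hdir]
    exact Finset.sum_eq_zero fun φ _ => classInner_comm_eq_zero (hχη _)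
  have hac : classInner a χ = -e := by
    rw [hτ1, hτν, classInner_sub_left, classInner_sub_right, classInner_sub_right,
      classInner_smul_left, classInner_smul_left, inner_colSum_rowSum hdir hon, hcol0',
      hcol0 a haη 1] at h1
    linear_combination h1
  have hac0 : classInner a χ ≠ 0 := by rw [hac]; exact neg_ne_zero.2 he
  -- second orthogonality
  have hmem2 : lam - conjFun lam ∈ zspanOn S {1}ᶜ := by
    refine ⟨zspan_sub (zspan_subset mlam) (zspan_subset mlam'), fun x hx => ?_⟩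
    have hx1 : x = 1 := by simpa using hx
    rw [hx1, Pi.sub_apply, hdegS _ mlam', sub_self]
  have hτ2 : dadeIsometry A₀ L R (lam - conjFun lam) = a - conjFun a := by
    rw [← hext _ hmem2, span_sub hiso (zspan_subset mlam) (zspan_subset mlam'), haconj]
  have hnorm : classInner (a - conjFun a) (a - conjFun a) = 2 := by
    rw [classInner_sub_left, classInner_sub_right, classInner_sub_right, ha1, haa',
      classInner_comm_eq_zero haa', classInner_conjFun, ha1, map_one]
    norm_num
  rw [hτ2] at h2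
  rcases eq_or_eq_neg hagen hχ ha1 hχ1 hac0 with h | h
  · rw [← h, hnorm] at h2
    norm_num at h2
  · have h3 : χ - conjFun χ = -(a - conjFun a) := by
      have : χ = -a := by rw [h, neg_neg]
      rw [this, conjFun_neg]
      abel
    rw [h3, classInner_neg_right, hnorm] at h2
    norm_num at h2

end core

end Cfsg.Agent.OddOrderCharacters.PF10.FrobCore
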