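import Mathlib
import Cfsg.Agent.OddOrderCharacters.PFDefs
import Cfsg.Agent.OddOrderCharacters.PF8.TypeP
import Cfsg.Agent.OddOrderCharacters.PF12.BoundE
import Cfsg.Agent.OddOrderCharacters.PF13.TypeData
import Cfsg.Agent.OddOrderCharacters.PF10.Defs

/-!
# Peterfalvi (10.8), part 1: the elements of order not prime to `#W₁`

`T` is a maximal subgroup of type II with type P data `(W₂, V, W₁)`, and `T'` is a Frobenius group with kernel
`H = T_F`.  Every element of `G` whose order is not prime to `#W₁` is conjugate to an element of `H \ 1` or of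
`W \ (W₁ ∪ W₂)`.
-/

set_option autoImplicit false

open Cfsg Cfsg.Agent.OddOrderCharacters.PFDefs Cfsg.Agent.OddOrderCharacters.PF10.Defs

namespace Cfsg.Agent.OddOrderCharacters.PF10.NoncohGroup

universe u

variable {G : Type u} [Group G]

/-- An element of prime power order of `G` is conjugate into a Hall subgroup whose order is divisible by that
prime. -/
theorem exists_conj_mem_of_hall [Finite G] {H : Subgroup G} (hH : (Nat.card H).Coprime H.index)
    {q : ℕ} [hq : Fact q.Prime] (hqH : q ∣ Nat.card H) {y : G} (hy : IsPGroup q (Subgroup.zpowers y)) :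
    ∃ x : G, x * y * x⁻¹ ∈ H := by
  obtain ⟨P, hP⟩ := hy.exists_le_sylow
  obtain ⟨Q⟩ : Nonempty (Sylow q H) := inferInstance
  have hcard : Nat.card ((Q : Subgroup H).map H.subtype) = q ^ (Nat.card G).factorization q := by
    rw [Subgroup.card_subtype, Q.card_eq_multiplicity, ← Subgroup.card_mul_index H,
      Nat.factorization_mul Nat.card_pos.ne' Subgroup.index_ne_zero_of_finite, Finsupp.add_apply]
    have h0 : (H.index).factorization q = 0 := by
      refine Nat.factorization_eq_zero_of_not_dvd fun h => ?_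
      have := Nat.dvd_gcd hqH h
      rw [hH] at this
      exact hq.out.one_lt.ne' (Nat.dvd_one.mp this)
    rw [h0, add_zero]
  set Q' : Sylow q G := Sylow.ofCard _ hcard with hQ'
  obtain ⟨g, hg⟩ := MulAction.exists_smul_eq G P Q'
  refine ⟨g, ?_⟩
  have h1 : g * y * g⁻¹ ∈ (Q' : Subgroup G) := by
    rw [← hg]
    have h2 : y ∈ P := hP (Subgroup.mem_zpowers y)
    rw [Sylow.coe_subgroup_smul]
    exact Subgroup.smul_mem_pointwise_smul y (MulAut.conj g) (P : Subgroup G) h2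
  have h3 : (Q' : Subgroup G) ≤ H := by
    rw [hQ']
    exact Subgroup.map_subtype_le _
  exact h3 h1

theorem orderOf_conj' (x g : G) : orderOf (x * g * x⁻¹) = orderOf g := by
  rw [← MulAut.conj_apply, MulEquiv.orderOf_eq]

/-- `M_F` is a Hall subgroup of `G` for every maximal subgroup `M` of a finite simple group `G`. -/
theorem hall_fittingHallOf [Finite G] [IsSimpleGroup G] {M : Subgroup G} (hM : IsCoatom M) :
    (Nat.card (fittingHallOf M)).Coprime (fittingHallOf M).index := by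
  set H := fittingHallOf M with hH
  rw [Nat.coprime_iff_gcd_eq_one]
  by_contra hne
  obtain ⟨p, hp, hpd⟩ := Nat.exists_prime_and_dvd hne
  have : Fact p.Prime := ⟨hp⟩
  have hp1 : p ∣ Nat.card H := hpd.trans (Nat.gcd_dvd_left _ _)
  have hp2 : p ∣ H.index := hpd.trans (Nat.gcd_dvd_right _ _)
  have hHM : H ≤ M := TypeSetsBasic.fittingHallOf_le M
  obtain ⟨Q⟩ : Nonempty (Sylow p H) := inferInstance
  have hnil : Group.IsNilpotent H := PF8.fittingHallOf_nilpotent M
  have hall : ∀ (p : ℕ) (_hp : Fact p.Prime) (P : Sylow p H), (P : Subgroup H).Normal :=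
    ((Group.isNilpotent_of_finite_tfae (G := H)).out 0 3).mp hnil
  have hQn : (Q : Subgroup H).Normal := hall p inferInstance Q
  have hQc : (Q : Subgroup H).Characteristic := Q.characteristic_of_normal hQn
  set Q' : Subgroup G := (Q : Subgroup H).map H.subtype with hQ'
  have hQ'H : Q' ≤ H := Subgroup.map_subtype_le _
  -- `Q' ≠ 1`
  have hQ'card : Nat.card Q' = Nat.card Q := by rw [hQ', Subgroup.card_subtype]
  obtain ⟨n, hn⟩ := IsPGroup.iff_card.mp Q.2
  have hpQ : p ∣ Nat.card Q := (Q.dvd_card_of_dvd_card hp1)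
  have hQ'ne : ∃ a ∈ Q', a ≠ 1 := by
    have h1 : Q' ≠ ⊥ := by
      intro h
      have h2 : Nat.card Q' = 1 := by rw [h, Subgroup.card_bot]
      rw [← hQ'card, h2] at hpQ
      exact hp.one_lt.ne' (Nat.dvd_one.mp hpQ)
    obtain ⟨⟨x, hx⟩, hx1⟩ := Subgroup.ne_bot_iff_exists_ne_one.1 h1
    exact ⟨x, hx, fun h => hx1 (Subtype.ext h)⟩
  -- `N_G(Q') = M`
  have hMQ : M ≤ Subgroup.normalizer (Q' : Set G) :=
    (Cfsg.Agent.OddOrderLocal.FittingHall.le_normalizer_fittingHallOf M).trans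
      (Cfsg.Agent.OddOrderLocal.FittingHall.normalizer_le_normalizer_map H Q hQc)
  obtain ⟨a, ha, ha1⟩ := hQ'ne
  have hN : Subgroup.normalizer (Q' : Set G) = M :=
    TypeSetsBasic.normalizer_eq_of_coatom hM (hQ'H.trans hHM)
      (fun m hm b hb => (Subgroup.mem_normalizer_iff.mp (hMQ hm) b).mp hb) ha ha1
  -- the index of `Q'` in `M` is not divisible by `p`
  have hind : ¬ p ∣ Q'.relIndex M := by
    rw [← Subgroup.relIndex_mul_relIndex Q' H M hQ'H hHM]
    intro h
    rcases hp.dvd_mul.mp h with h | h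
    · have h1 : Q'.relIndex H = (Q : Subgroup H).index := by
        rw [Subgroup.relIndex, hQ', Subgroup.subgroupOf,
          Subgroup.comap_map_eq_self_of_injective H.subtype_injective]
      rw [h1] at h
      exact Q.not_dvd_index h
    · have h2 := Cfsg.Agent.OddOrderLocal.FittingHall.fittingHallOf_coprime_relIndex M
      have h3 := Nat.dvd_gcd hp1 h
      rw [h2] at h3
      exact hp.one_lt.ne' (Nat.dvd_one.mp h3)
  have hmod := Sylow.card_quotient_normalizer_modEq_card_quotient (H := Q') (p := p) (n := n)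
    (by rw [hQ'card, hn])
  have h1 : p ∣ Nat.card (G ⧸ Q') := by
    change p ∣ Q'.index
    rw [← Subgroup.relIndex_mul_index hQ'H]
    exact hp2.mul_left _
  have h2 : p ∣ Nat.card (Subgroup.normalizer (Q' : Set G) ⧸
      Q'.comap (Subgroup.normalizer (Q' : Set G)).subtype) :=
    (Nat.modEq_zero_iff_dvd.mp (hmod.trans (Nat.modEq_zero_iff_dvd.mpr h1)))
  apply hind
  have h3 : Nat.card (Subgroup.normalizer (Q' : Set G) ⧸
      Q'.comap (Subgroup.normalizer (Q' : Set G)).subtype) =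
      Q'.relIndex (Subgroup.normalizer (Q' : Set G)) := rfl
  rw [h3, hN] at h2
  exact h2

variable [Finite G] {T V W₁ W₂ : Subgroup G}

/-- Every element whose order is not prime to `w₁` is conjugate into `T_F#` or into `V`.
`T` of Type II with data `(W₂, V, W₁)` and `T'` Frobenius with kernel `T_F`. -/
theorem mem_of_not_coprime (hG : IsMinSimpleOddOrder G) (hT : IsCoatom T)
    (hTP : IsTypePWith T W₂ V W₁) (hTII : IsOfTypeII T)
    (hfrob : ∀ x ∈ fittingHallOf T, x ≠ 1 → ∀ y ∈ ⁅T, T⁆, y * x = x * y → y ∈ fittingHallOf T)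
    (g : G) (hg : ¬ (orderOf g).Coprime (Nat.card ↥W₁)) :
    g ∈ classSupport (sharp (fittingHallOf T)) ⊤ ∨
      g ∈ classSupport (cycTIset (W₁ ⊔ W₂) W₁ W₂) ⊤ := by
  have hS : IsSimpleGroup G := hG.2.1
  obtain ⟨-, hp, hTI, -, -, -, -⟩ := PF13.TypeData.typeII_data hTP hTII
  have hg1 : g ≠ 1 := by
    rintro rfl
    apply hg
    rw [orderOf_one]
    exact Nat.coprime_one_left _
  -- a common prime divisor
  obtain ⟨q, hq, hqg, hqW⟩ := Nat.Prime.not_coprime_iff_dvd.mp hg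
  have : Fact q.Prime := ⟨hq⟩
  have hord : 0 < orderOf g := orderOf_pos g
  set y : G := g ^ (orderOf g / q) with hy
  have hyo : orderOf y = q := orderOf_pow_orderOf_div hord.ne' hqg
  have hyp : IsPGroup q (Subgroup.zpowers y) := by
    apply IsPGroup.of_card (n := 1)
    rw [Nat.card_zpowers, hyo, pow_one]
  have hW₁H : W₁ ≤ fittingHallOf T := PF8.W₂_le_fittingHallOf hTP
  have hqH : q ∣ Nat.card (fittingHallOf T) := hqW.trans (Subgroup.card_dvd_of_le hW₁H)
  obtain ⟨x, hx⟩ := exists_conj_mem_of_hall (hall_fittingHallOf hT) hqH hyp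
  -- replace `g` by its conjugate
  set g₁ : G := x * g * x⁻¹ with hg₁
  set y₁ : G := x * y * x⁻¹ with hy₁
  have hy₁pow : y₁ = g₁ ^ (orderOf g / q) := by
    rw [hy₁, hy, hg₁]
    exact (conj_pow).symm
  have hy₁o : orderOf y₁ = q := by rw [hy₁, orderOf_conj', hyo]
  have hy₁1 : y₁ ≠ 1 := by
    intro h
    rw [h, orderOf_one] at hy₁o
    exact hq.one_lt.ne hy₁o
  have hg₁o : orderOf g₁ = orderOf g := orderOf_conj' x g
  have hg₁1 : g₁ ≠ 1 := by
    intro h
    apply hg1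
    rw [h, orderOf_one] at hg₁o
    exact orderOf_eq_one_iff.mp hg₁o.symm
  have hcomm : Commute g₁ y₁ := by
    rw [hy₁pow]
    exact (Commute.refl g₁).pow_right _
  -- `N_G(F(T)) = T`
  have hyF : y₁ ∈ fittingOf T := by
    rw [← hTP.fitting_eq]
    exact Subgroup.mem_sup_left hx
  have hNF : Subgroup.normalizer (fittingOf T : Set G) = T :=
    TypeSetsBasic.normalizer_eq_of_coatom hT
      (Cfsg.Agent.OddOrderLocal.FittingHall.fittingOf_le T)
      (fun m hm b hb => (Subgroup.mem_normalizer_iff.mp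
        (Cfsg.Agent.OddOrderLocal.FittingHall.le_normalizer_fittingOf T hm) b).mp hb) hyF hy₁1
  -- `g₁ ∈ T`
  have hg₁T : g₁ ∈ T := by
    rw [← hNF]
    by_contra hcon
    refine hy₁1 (hTI g₁ hcon y₁ hyF ?_)
    have : g₁ * y₁ * g₁⁻¹ = y₁ := by rw [hcomm.eq]; group
    rw [this]
    exact hyF
  by_cases hg₁T' : g₁ ∈ ⁅T, T⁆
  · left
    refine ⟨x⁻¹, Subgroup.mem_top _, g₁, ⟨hfrob y₁ hx hy₁1 g₁ hg₁T' hcomm.eq, hg₁1⟩, ?_⟩
    rw [hg₁]; group
  right
  -- the prime `p = #W₂` divides the order of `g₁`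
  set p := Nat.card W₂ with hpdef
  have : Fact p.Prime := ⟨hp⟩
  have hTcard : Nat.card T = p * Nat.card ↥⁅T, T⁆ := by
    have h1 := PF8.card_eq hTP
    have h2 := PF8.card_derived hTP
    rw [h1, h2, mul_comm]
  have hpg : p ∣ orderOf g₁ := by
    by_contra hnd
    apply hg₁T'
    have hcop : p.Coprime (orderOf g₁) := (Nat.Prime.coprime_iff_not_dvd hp).mpr hnd
    obtain ⟨m, hm⟩ := exists_pow_eq_self_of_coprime (n := p) (x := g₁) hcop
    have hnorm : (⁅T, T⁆.subgroupOf T).Normal := by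
      constructor
      intro k hk t
      rw [Subgroup.mem_subgroupOf] at hk ⊢
      exact PF8.conj_mem_derived T t t.2 k hk
    have hind : (⁅T, T⁆.subgroupOf T).index = p := by
      have h1 := Subgroup.card_mul_index (⁅T, T⁆.subgroupOf T)
      rw [Nat.card_congr (Subgroup.subgroupOfEquivOfLe (PF8.derived_le T)).toEquiv, hTcard,
        mul_comm] at h1
      exact Nat.eq_of_mul_eq_mul_right Nat.card_pos h1
    have h3 : (⟨g₁, hg₁T⟩ : T) ^ p ∈ ⁅T, T⁆.subgroupOf T := by
      have := Subgroup.pow_index_mem (⁅T, T⁆.subgroupOf T) (⟨g₁, hg₁T⟩ : T)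
      rwa [hind] at this
    rw [Subgroup.mem_subgroupOf] at h3
    rw [← hm]
    exact Subgroup.pow_mem _ h3 m
  set z : G := g₁ ^ (orderOf g₁ / p) with hz
  have hzo : orderOf z = p := orderOf_pow_orderOf_div (orderOf_pos g₁).ne' hpg
  have hzT : z ∈ T := T.pow_mem hg₁T _
  have hcommz : Commute g₁ z := (Commute.refl g₁).pow_right _
  -- Sylow in `T`
  obtain ⟨t, ht, htz⟩ : ∃ t ∈ T, t * z * t⁻¹ ∈ W₂ := by
    have hW₂T : W₂ ≤ T := PF8.W₁_le hTP
    have hHall' : (Nat.card (W₂.subgroupOf T)).Coprime (W₂.subgroupOf T).index := by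
      rw [Nat.card_congr (Subgroup.subgroupOfEquivOfLe hW₂T).toEquiv]
      exact hTP.W₁_hall
    have hpd : p ∣ Nat.card (W₂.subgroupOf T) := by
      rw [Nat.card_congr (Subgroup.subgroupOfEquivOfLe hW₂T).toEquiv]
    have hzp : IsPGroup p (Subgroup.zpowers (⟨z, hzT⟩ : T)) := by
      apply IsPGroup.of_card (n := 1)
      rw [Nat.card_zpowers, Subgroup.orderOf_mk, hzo, pow_one]
    obtain ⟨t, ht⟩ := exists_conj_mem_of_hall hHall' hpd hzp
    exact ⟨t, t.2, ht⟩
  set g₂ : G := t * g₁ * t⁻¹ with hg₂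
  set z₂ : G := t * z * t⁻¹ with hz₂
  have hz₂1 : z₂ ≠ 1 := by
    intro h
    have h1 : orderOf z₂ = p := by rw [hz₂, orderOf_conj', hzo]
    rw [h, orderOf_one] at h1
    exact hp.one_lt.ne h1
  have hg₂W : g₂ ∈ W₂ ⊔ W₁ := by
    rw [← PF8.centralizer_W₁ hTP htz hz₂1]
    refine ⟨T.mul_mem (T.mul_mem ht hg₁T) (T.inv_mem ht), ?_⟩
    apply PF8.mem_centralizer_of_comm
    rw [hz₂, hg₂]
    have := hcommz.eq
    calc t * z * t⁻¹ * (t * g₁ * t⁻¹) = t * (z * g₁) * t⁻¹ := by group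
      _ = t * (g₁ * z) * t⁻¹ := by rw [this]
      _ = t * g₁ * t⁻¹ * (t * z * t⁻¹) := by group
  have hg₂o : orderOf g₂ = orderOf g := by rw [hg₂, orderOf_conj', hg₁o]
  have hcopW : (Nat.card W₂).Coprime (Nat.card W₁) := PF8.coprime_W₁_W₂ hTP
  refine ⟨(t * x)⁻¹, Subgroup.mem_top _, g₂, ⟨sup_comm W₂ W₁ ▸ hg₂W, ?_⟩, ?_⟩
  · rintro (h | h)
    · -- `p` divides `#W₁`
      have h1 : orderOf g₂ ∣ Nat.card W₁ := Subgroup.orderOf_dvd_natCard W₁ h
      have h2 : p ∣ Nat.card W₁ := (hpg.trans (by rw [hg₁o, ← hg₂o])).trans h1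
      have := Nat.dvd_gcd (dvd_refl p) h2
      rw [show p.gcd (Nat.card W₁) = 1 from hcopW] at this
      exact hp.one_lt.ne' (Nat.dvd_one.mp this)
    · have h1 : orderOf g₂ ∣ Nat.card W₂ := Subgroup.orderOf_dvd_natCard W₂ h
      have h2 : q ∣ Nat.card W₂ := (hqg.trans (by rw [← hg₂o])).trans h1
      have := Nat.dvd_gcd h2 hqW
      rw [show (Nat.card W₂).gcd (Nat.card W₁) = 1 from hcopW] at this
      exact hq.one_lt.ne' (Nat.dvd_one.mp this)
  · rw [hg₂, hg₁]
    group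

/-- `|(H#)^G| ≤ (|H| - 1) |G : N|` for `H` normalized by `N` -/
theorem ncard_classSupport_sharp_le (H N : Subgroup G) (hN : ∀ x ∈ N, ∀ h ∈ H, x * h * x⁻¹ ∈ H) :
    (classSupport (sharp H) ⊤).ncard ≤ (Nat.card H - 1) * N.index := by
  classical
  have hfin : (sharp H).Finite := Set.toFinite _
  have hcardsharp : (sharp H).ncard = Nat.card H - 1 := by
    have h1 : sharp H = (H : Set G) \ {1} := by
      ext x; simp [sharp]
    rw [h1, Set.ncard_sdiff_singleton_of_mem (by exact H.one_mem), ← Nat.card_coe_set_eq]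
    rfl
  -- the map `(c, h) ↦ c.out * h * c.out⁻¹`
  have hsub : classSupport (sharp H) ⊤ ⊆
      (fun p : (G ⧸ N) × G => p.1.out * p.2 * (p.1.out)⁻¹) '' (Set.univ ×ˢ sharp H) := by
    rintro g ⟨m, -, v, ⟨hv, hv1⟩, rfl⟩
    have h1 : (QuotientGroup.mk m : G ⧸ N).out⁻¹ * m ∈ N :=
      QuotientGroup.eq.mp (QuotientGroup.out_eq' _)
    set c : G := (QuotientGroup.mk m : G ⧸ N).out with hc
    refine ⟨(QuotientGroup.mk m, (c⁻¹ * m) * v * (c⁻¹ * m)⁻¹), ⟨Set.mem_univ _, ?_, ?_⟩, ?_⟩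
    · exact hN _ h1 v hv
    · intro h
      apply hv1
      have := congrArg (fun t => (c⁻¹ * m)⁻¹ * t * (c⁻¹ * m)) h
      simpa [mul_assoc] using this
    · show c * ((c⁻¹ * m) * v * (c⁻¹ * m)⁻¹) * c⁻¹ = m * v * m⁻¹
      group
  calc (classSupport (sharp H) ⊤).ncard
      ≤ ((fun p : (G ⧸ N) × G => p.1.out * p.2 * (p.1.out)⁻¹) '' (Set.univ ×ˢ sharp H)).ncard :=
        Set.ncard_le_ncard hsub (Set.toFinite _)
    _ ≤ ((Set.univ : Set (G ⧸ N)) ×ˢ sharp H).ncard := Set.ncard_image_le (Set.toFinite _)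
    _ = (Nat.card H - 1) * N.index := by
        rw [Set.ncard_prod, Set.ncard_univ, hcardsharp, mul_comm]
        rfl

/-- `|T| = |T_F| |V| w₂`, `|V| ≥ 2 w₂ + 1` -/
theorem card_T (hG : IsMinSimpleOddOrder G) (hT : IsCoatom T)
    (hTP : IsTypePWith T W₂ V W₁) (hTII : IsOfTypeII T) :
    Nat.card T = Nat.card (fittingHallOf T) * Nat.card V * Nat.card ↥W₂ ∧
      2 * Nat.card ↥W₂ + 1 ≤ Nat.card ↥V := by
  refine ⟨PF8.card_eq hTP, ?_⟩
  obtain ⟨hV, hp, -, -, -, -, -⟩ := PF13.TypeData.typeII_data hTP hTII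
  -- `W₂` acts on `V` without fixed points
  set φ : ↥W₂ →* MulAut V := V.normalizerMonoidHom.comp (Subgroup.inclusion hTP.U_normal) with hφ
  have hφv : ∀ (w : ↥W₂) (v : V), ((φ w v : V) : G) = w * v * (w : G)⁻¹ := fun _ _ => rfl
  have h1 : Nat.card ↥W₂ ∣ Nat.card (⊤ : Subgroup V) - 1 := by
    refine PF12.BoundE.card_dvd_card_sub_one φ ?_ ⊤ (fun _ _ _ => Subgroup.mem_top _)
    intro w hw v hv
    apply Subtype.ext
    refine PF8.U_fpf hTP w w.2 (fun h => hw (Subtype.ext h)) v v.2 ?_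
    have h2 := congrArg Subtype.val hv
    rw [hφv] at h2
    exact mul_inv_eq_iff_eq_mul.mp h2
  rw [Subgroup.card_top] at h1
  have hodd : ∀ K : Subgroup G, Odd (Nat.card K) := fun K =>
    Odd.of_dvd_nat hG.1 (Subgroup.card_subgroup_dvd_card K)
  have hV1 : 1 < Nat.card V := by
    have h3 := Nat.card_pos (α := V)
    have h4 : Nat.card V ≠ 1 := fun h => hV (Subgroup.card_eq_one.mp h)
    omega
  have hev : Even (Nat.card V - 1) := by
    obtain ⟨k, hk⟩ := hodd V
    exact ⟨k, by omega⟩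
  have h5 := PF12.BoundE.two_mul_le_of_dvd (hodd W₂) hev (by omega) h1
  omega

end Cfsg.Agent.OddOrderCharacters.PF10.NoncohGroup
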