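import Cfsg.Agent.OddOrderCharacters.PFDefs
import Cfsg.Agent.OddOrderCharacters.VChar
import Cfsg.Agent.OddOrderCharacters.ColSum
import Cfsg.Agent.OddOrderCharacters.PF3bGalois

/-!
# Parity of the column sum `∑_i η_i0` (used in Peterfalvi (10.6), (10.8))

At an element of `G` of order prime to `w₁ = |W₁|` the value of `∑_i η_i0` is an odd rational integer.
-/

set_option autoImplicit false
set_option linter.unusedSectionVars false

open scoped ComplexConjugate
open Cfsg Cfsg.Agent.Characters.Core Cfsg.Agent.OddOrderCharacters.VChar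
  Cfsg.Agent.OddOrderCharacters.PFDefs Cfsg.Agent.OddOrderCharacters.ColSum

universe u

namespace Cfsg.Agent.OddOrderCharacters.PF10.Parity

variable {G : Type u} [Group G] {W W₁ W₂ : Subgroup G}
  {η : (↥W →* ℂˣ) → (G → ℂ)}

/-- The order of a linear character of `W` trivial on `W₂` divides `|W₁|`. -/
theorem pow_card_eq_one_of_mem (hd : IsDirect W W₁ W₂) {φ : ↥W →* ℂˣ} (hφ : φ ∈ lin₁ W W₂) :
    φ ^ Nat.card W₁ = 1 := by
  apply MonoidHom.ext
  intro w
  rw [MonoidHom.pow_apply, MonoidHom.one_apply]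
  obtain ⟨a, ha, b, hb, hab⟩ : ∃ a ∈ W₁, ∃ b ∈ W₂, a * b = (w : G) := by
    have hw : (w : G) ∈ W₁ ⊔ W₂ := by
      rw [hd.sup_eq]
      exact w.2
    have hn : W₁ ≤ Subgroup.normalizer (W₂ : Set G) := by
      intro x hx
      rw [Subgroup.mem_normalizer_iff]
      intro y
      constructor
      · intro hy
        rw [hd.comm x hx y hy, mul_inv_cancel_right]
        exact hy
      · intro hy
        have h1 := hd.comm x hx _ hy
        have h2 : x * y * x⁻¹ = y := by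
          have h3 : x * (x * y * x⁻¹) * x⁻¹ = x * y * x⁻¹ := by
            rw [h1]; group
          have h4 : x * y * x⁻¹ = y := by
            have h5 := mul_right_cancel h3
            exact mul_left_cancel h5
          exact h4
        rwa [h2] at hy
    have hcoe := Subgroup.coe_mul_of_left_le_normalizer_right W₁ W₂ hn
    have h1 : (w : G) ∈ ((W₁ ⊔ W₂ : Subgroup G) : Set G) := hw
    rw [hcoe] at h1
    obtain ⟨a, ha, b, hb, hab⟩ := Set.mem_mul.1 h1
    exact ⟨a, ha, b, hb, hab⟩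
  have hw : w = ⟨a, hd.le₁ ha⟩ * ⟨b, hd.le₂ hb⟩ := Subtype.ext hab.symm
  rw [hw, map_mul, hφ ⟨b, hd.le₂ hb⟩ hb, mul_one, ← map_pow]
  have h1 : (⟨a, hd.le₁ ha⟩ : ↥W) ^ Nat.card W₁ = 1 := by
    apply Subtype.ext
    have h2 := pow_card_eq_one' (x := (⟨a, ha⟩ : ↥W₁))
    have h3 : a ^ Nat.card W₁ = 1 := congrArg (fun x : ↥W₁ => (x : G)) h2
    exact h3
  rw [h1, map_one]

theorem inv_inv_lin (φ : ↥W →* ℂˣ) : φ⁻¹⁻¹ = φ := inv_inv φ

theorem inv_eq_one_lin {φ : ↥W →* ℂˣ} (h : φ⁻¹ = 1) : φ = 1 := by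
  have h3 : φ * φ⁻¹ = 1 := mul_inv_cancel φ
  rwa [h, lin_mul_one] at h3

/-- A linear character of `W` equal to its inverse is trivial (`|W|` odd). -/
theorem eq_one_of_inv_eq [Finite G] (hodd : Odd (Nat.card W)) {φ : ↥W →* ℂˣ} (h : φ⁻¹ = φ) :
    φ = 1 := by
  have h2 : φ * φ = 1 := by
    have h3 : φ * φ⁻¹ = 1 := mul_inv_cancel φ
    rwa [h] at h3
  have h2 : φ ^ 2 = 1 := by rw [pow_two]; exact h2
  have h3 : φ ^ Nat.card W = 1 := by
    apply MonoidHom.ext
    intro w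
    rw [MonoidHom.pow_apply, MonoidHom.one_apply, ← map_pow, pow_card_eq_one', map_one]
  have h4 : orderOf φ ∣ 2 := orderOf_dvd_of_pow_eq_one h2
  have h5 : orderOf φ ∣ Nat.card W := orderOf_dvd_of_pow_eq_one h3
  have h6 : orderOf φ ∣ Nat.gcd 2 (Nat.card W) := Nat.dvd_gcd h4 h5
  have h7 : Nat.gcd 2 (Nat.card W) = 1 := (Nat.coprime_two_left.2 hodd)
  rw [h7, Nat.dvd_one] at h6
  exact orderOf_eq_one_iff.1 h6

variable [Fintype G]

/-- The value of `∑_i η_i0` at an element of order prime to `w₁` is an odd integer. -/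
theorem colSum_odd (hyp : CyclicTIHyp W W₁ W₂) (hη : CyclicTIFam W W₁ W₂ η) {g : G}
    (hg : (orderOf g).Coprime (Nat.card W₁)) : ∃ k : ℤ, colSum W W₂ η 1 g = 1 + 2 * k := by
  classical
  have hd := isDirect_of_hyp hyp
  have hint : ∀ φ : ↥W →* ℂˣ, ∃ c : ℤ, φ ∈ lin₁ W W₂ → η φ g = c := by
    intro φ
    by_cases hφ : φ ∈ lin₁ W W₂
    · obtain ⟨c, hc⟩ := PF3bGalois.cint_cycTIiso_coprime hyp hη φ g
        (hg.coprime_dvd_right (orderOf_dvd_of_pow_eq_one (pow_card_eq_one_of_mem hd hφ)))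
      exact ⟨c, fun _ => hc⟩
    · exact ⟨0, fun h => absurd h hφ⟩
  choose c hc using hint
  have hinv : ∀ φ ∈ lin₁ W W₂, c φ⁻¹ = c φ := by
    intro φ hφ
    have h1 := congrFun (PF3bGalois.conj_cycTIiso hyp hη φ) g
    rw [hc _ (inv_mem_lin₁ hφ), conjFun_apply, hc _ hφ] at h1
    simp only [map_intCast] at h1
    exact_mod_cast h1.symm
  have h1 : c 1 = 1 := by
    have := hc 1 one_mem_lin₁
    rw [hη.map_one] at this
    have h2 : (1 : ℂ) = c 1 := this
    exact_mod_cast h2.symm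
  have hsum : colSum W W₂ η 1 g = ((∑ φ ∈ linFin hd, c φ : ℤ) : ℂ) := by
    rw [colSum_eq_sum hd, Finset.sum_apply]
    push_cast
    refine Finset.sum_congr rfl fun φ hφ => ?_
    rw [lin_mul_one, hc φ ((mem_linFin hd).1 hφ)]
  have hone : (1 : ↥W →* ℂˣ) ∈ linFin hd := (mem_linFin hd).2 one_mem_lin₁
  have heven : (2 : ℤ) ∣ ∑ φ ∈ (linFin hd).erase 1, c φ := by
    have hz : ((∑ φ ∈ (linFin hd).erase 1, c φ : ℤ) : ZMod 2) = 0 := by
      push_cast
      refine Finset.sum_involution (fun φ _ => φ⁻¹) ?_ ?_ ?_ ?_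
      · intro φ hφ
        rw [Finset.mem_erase, mem_linFin] at hφ
        rw [hinv φ hφ.2]
        exact CharTwo.add_self_eq_zero _
      · intro φ hφ _ hφ2
        rw [Finset.mem_erase] at hφ
        exact hφ.1 (eq_one_of_inv_eq hyp.odd hφ2)
      · intro φ hφ
        rw [Finset.mem_erase, mem_linFin] at hφ ⊢
        exact ⟨fun h => hφ.1 (inv_eq_one_lin h), inv_mem_lin₁ hφ.2⟩
      · intro φ _
        exact inv_inv_lin φ
    exact (ZMod.intCast_zmod_eq_zero_iff_dvd _ 2).1 hz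
  obtain ⟨k, hk⟩ := heven
  refine ⟨k, ?_⟩
  rw [hsum, ← Finset.add_sum_erase _ _ hone, h1, hk]
  push_cast
  ring

/-- A class function agreeing with `∑_i η_i0` at an element of order prime to `w₁` has absolute value at
least `1` there. -/
theorem one_le_norm (hyp : CyclicTIHyp W W₁ W₂) (hη : CyclicTIFam W W₁ W₂ η) {g : G}
    (hg : (orderOf g).Coprime (Nat.card W₁)) {z : ℂ} (hz : z = colSum W W₂ η 1 g) : 1 ≤ ‖z‖ := by
  obtain ⟨k, hk⟩ := colSum_odd hyp hη hg
  rw [hz, hk]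
  have h1 : ((1 : ℂ) + 2 * k) = ((1 + 2 * k : ℤ) : ℂ) := by push_cast; ring
  rw [h1, Complex.norm_intCast]
  have h2 : (1 : ℤ) ≤ |1 + 2 * k| := Int.one_le_abs (by omega)
  exact_mod_cast h2

end Cfsg.Agent.OddOrderCharacters.PF10.Parity
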