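import Mathlib
import Cfsg.Agent.OddOrderCharacters.PF9.Defs
import Cfsg.Agent.OddOrderCharacters.PF9.Kernel
import Cfsg.Agent.OddOrderCharacters.PF9.Three
import Cfsg.Agent.OddOrderCharacters.PF13.TypeData
import Cfsg.Agent.OddOrderCharacters.PF13.TypePStruct

/-!
# Peterfalvi (10.11), the group theoretic part

* `pair_primes_of`: for two maximal subgroups `M`, `T` with type P data `(W₁, U, W₂)` and
  `(W₂, V, W₁)`, neither of type V, the orders of `W₁` and `W₂` are prime.
* `kernel_facts`: for `M` of type II with `#W₂ = p` prime, `M_F` is elementary abelian of order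
  `p ^ #W₁`.
* `exists_setup_bot`: for such `M` the setup of Section 9 holds with `H₀ = 1` and
  `C = C_U(M_F)`, which is abelian.
-/

set_option autoImplicit false

namespace Cfsg.Agent.OddOrderCharacters.PF10.TypeIISetup

open Cfsg Cfsg.Agent.OddOrderCharacters.PFDefs
open Cfsg.Agent.OddOrderCharacters.PF9.Defs Cfsg.Agent.OddOrderCharacters.PF9.Kernel
open Cfsg.Agent.OddOrderCharacters.PF13.TypePStruct Cfsg.Agent.OddOrderCharacters.PF13.TypeData

universe u

variable {G : Type u} [Group G] {M W₁ U W₂ : Subgroup G}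

/-- If `M` has type P data `(W₁, U, W₂)` and is of type II, III or IV then `#W₁` is prime. -/
theorem card_W₁_prime_of [Finite G] (hP : IsTypePWith M W₁ U W₂)
    (h : IsOfTypeII M ∨ IsOfTypeIII M ∨ IsOfTypeIV M) : (Nat.card W₁).Prime := by
  rcases h with h | h | h
  · exact (typeII_data hP h).2.1
  · exact (typeIII_data hP h).2.1
  · exact (typeIV_data hP h).2.1

/-- Peterfalvi (10.11), first part: the orders of `W₁` and `W₂` are prime. -/
theorem pair_primes_of [Finite G] {T V : Subgroup G} (hP : IsTypePWith M W₁ U W₂)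
    (hPT : IsTypePWith T W₂ V W₁) (hM : IsOfTypeII M ∨ IsOfTypeIII M ∨ IsOfTypeIV M)
    (hT : IsOfTypeII T ∨ IsOfTypeIII T ∨ IsOfTypeIV T) :
    (Nat.card W₁).Prime ∧ (Nat.card W₂).Prime :=
  ⟨card_W₁_prime_of hP hM, card_W₁_prime_of hPT hT⟩

/-- The structure of `M_F` for `M` of type II with `#W₂` prime. -/
theorem kernel_facts [Finite G] (hP : IsTypePWith M W₁ U W₂) (hII : IsOfTypeII M)
    (hp : (Nat.card W₂).Prime) :
    IsElementaryAbelian (Nat.card W₂) (fittingHallOf M) ∧
      Nat.card (fittingHallOf M) = Nat.card W₂ ^ Nat.card W₁ := by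
  have hU := (typeII_data hP hII).1
  have hC := kernel_inf_centralizer_U hP hII
  exact ⟨isElementaryAbelian_kernel hP hU hC hp, card_kernel hP hU hC⟩

/-- For `M` of type II with `#W₂` prime: `1` is a kernel in the sense of (9.4), i.e. `M_F` is a minimal
normal subgroup of `M` and `C_{M_F}(U) = 1`. -/
theorem isKernel_bot [Finite G] (hP : IsTypePWith M W₁ U W₂) (hII : IsOfTypeII M)
    (hp : (Nat.card W₂).Prime) :
    IsKernel ((fittingHallOf M).subgroupOf M) (U.subgroupOf M) (⊥ : Subgroup ↥M) := by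
  have hU := (typeII_data hP hII).1
  have hC := kernel_inf_centralizer_U hP hII
  have hHM : fittingHallOf M ≤ M := TypeSetsBasic.fittingHallOf_le M
  have hUM : U ≤ M := hP.U_compl.2.1.trans (TypeSetsBasic.commutator_le_self M)
  have hW₁M : W₁ ≤ M := TypeSetsBasic.W₁_le hP
  refine ⟨inferInstance, ?_, ?_, ?_⟩
  · refine bot_lt_iff_ne_bot.2 ?_
    intro h
    refine PF9.Three.subgroupOf_ne_bot hHM ?_ h
    intro h1
    exact PF13.TypePStruct.W₂_ne hP (eq_bot_iff.2 (h1 ▸ PF13.TypePStruct.W₂_le_kernel hP))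
  · intro N hN _ hNH
    have h1 := eq_bot_or_eq_kernel hP hU hC hp (N := N.map M.subtype) ?_ ?_
    · rcases h1 with h1 | h1
      · left
        exact (Subgroup.map_eq_bot_iff_of_injective _ M.subtype_injective).1 h1
      · right
        apply Subgroup.map_injective M.subtype_injective
        rw [h1, Subgroup.subgroupOf_map_subtype, inf_eq_left.2 hHM]
    · rintro _ ⟨y, hy, rfl⟩
      exact Subgroup.mem_subgroupOf.1 (hNH hy)
    · rintro x hx _ ⟨y, hy, rfl⟩
      have hxM : x ∈ M := (sup_le hUM hW₁M) hx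
      exact ⟨⟨x, hxM⟩ * y * ⟨x, hxM⟩⁻¹, hN.conj_mem y hy _, rfl⟩
  · rintro x ⟨hx1, hx2⟩
    rw [Subgroup.mem_bot]
    have h3 : (x : G) ∈ fittingHallOf M ⊓ Subgroup.centralizer (U : Set G) := by
      refine Subgroup.mem_inf.2 ⟨hx1, Subgroup.mem_centralizer_iff.2 ?_⟩
      intro y hy
      have := (Subgroup.mem_centralizer_iff.1 hx2) ⟨y, hUM hy⟩ hy
      exact congrArg Subtype.val this
    rw [hC, Subgroup.mem_bot] at h3
    exact Subtype.ext h3

/-- For `M` of type II with `#W₂` prime: the setup of Section 9 with `H₀ = 1` and `C = C_U(M_F)`. -/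
theorem exists_setup_bot [Finite G] (hodd : Odd (Nat.card M)) (hP : IsTypePWith M W₁ U W₂)
    (hII : IsOfTypeII M) (hp : (Nat.card W₂).Prime) :
    ∃ C : Subgroup G, C ≤ U ∧ IsMulCommutative C ∧
      C = U ⊓ Subgroup.centralizer (fittingHallOf M : Set G) ∧
      Setup (⁅M, M⁆.subgroupOf M) ((fittingHallOf M).subgroupOf M) (U.subgroupOf M)
        (W₁.subgroupOf M) (W₂.subgroupOf M) ((⊥ : Subgroup G).subgroupOf M) (C.subgroupOf M)
        (Nat.card W₂) (Nat.card W₁) (C.relIndex U) := by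
  have hHM : fittingHallOf M ≤ M := TypeSetsBasic.fittingHallOf_le M
  have hUM : U ≤ M := hP.U_compl.2.1.trans (TypeSetsBasic.commutator_le_self M)
  have hW₁M : W₁ ≤ M := TypeSetsBasic.W₁_le hP
  have hW₂M : W₂ ≤ M := TypeSetsBasic.W₂_le hP
  have hyp := PF9.Three.hyp_of_types hodd hP (Or.inl hII) (fun h => absurd hII h)
  obtain ⟨C, p, s⟩ := setup_of_kernel hyp (isKernel_bot hP hII hp)
  have hcU : IsMulCommutative U := (typeII_data hP hII).2.2.2.1
  have hCU : C ≤ U.subgroupOf M := s.C_lt.le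
  set C' : Subgroup G := C.map M.subtype with hC'
  have hC'U : C' ≤ U := by
    rintro _ ⟨y, hy, rfl⟩
    exact Subgroup.mem_subgroupOf.1 (hCU hy)
  have hC'C : C'.subgroupOf M = C := by
    rw [hC']
    exact Subgroup.comap_map_eq_self_of_injective M.subtype_injective C
  have hpe : p = Nat.card W₂ := by
    have := p_eq_of_prime s (by rw [PF9.Three.card_subgroupOf hW₂M]; exact hp)
    rw [this, PF9.Three.card_subgroupOf hW₂M]
  refine ⟨C', hC'U, ?_, ?_, ?_⟩
  · refine ⟨⟨fun a b => Subtype.ext ?_⟩⟩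
    have h1 := hcU.is_comm.comm (⟨a, hC'U a.2⟩ : U) ⟨b, hC'U b.2⟩
    exact congrArg (Subtype.val : U → G) h1
  · ext x
    constructor
    · intro hx
      refine Subgroup.mem_inf.2 ⟨hC'U hx, Subgroup.mem_centralizer_iff.2 ?_⟩
      obtain ⟨y, hy, rfl⟩ := hx
      intro h hh
      have h1 := ((s.mem_C y).1 hy).2 ⟨h, hHM hh⟩ hh
      rw [Subgroup.mem_bot] at h1
      have h2 := congrArg Subtype.val h1
      simp only [Subgroup.coe_mul, Subgroup.coe_inv, Subgroup.coe_one] at h2
      rw [mul_inv_eq_one, mul_inv_eq_iff_eq_mul] at h2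
      exact h2.symm
    · intro hx'
      obtain ⟨hxU, hx⟩ := Subgroup.mem_inf.1 hx'
      refine ⟨⟨x, hUM hxU⟩, (s.mem_C _).2 ⟨hxU, ?_⟩, rfl⟩
      intro h hh
      rw [Subgroup.mem_bot]
      apply Subtype.ext
      have h2 := (Subgroup.mem_centralizer_iff.1 hx) h hh
      simp only [Subgroup.coe_mul, Subgroup.coe_inv, Subgroup.coe_one]
      rw [mul_inv_eq_one, mul_inv_eq_iff_eq_mul]
      exact h2.symm
  · have hq : Nat.card ↥(W₁.subgroupOf M) = Nat.card W₁ := PF9.Three.card_subgroupOf hW₁M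
    have hu : C.relIndex (U.subgroupOf M) = C'.relIndex U := by
      rw [← hC'C]
      exact Subgroup.relIndex_subgroupOf hUM
    have hb : ((⊥ : Subgroup G).subgroupOf M) = ⊥ := Subgroup.bot_subgroupOf M
    rw [hC'C, hb, ← hu, ← hpe, ← hq]
    exact s

end Cfsg.Agent.OddOrderCharacters.PF10.TypeIISetup
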