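import Cfsg.Agent.OddOrderCharacters.PF8.Types
import Cfsg.Agent.OddOrderCharacters.PF8.Pair
import Cfsg.Agent.OddOrderCharacters.PF9.Main
import Cfsg.Agent.OddOrderCharacters.PF10.TypeV
import Cfsg.Agent.OddOrderCharacters.PF10.TypeIISetup

/-!
# Peterfalvi (10.11)

In a minimal simple group of odd order there is no maximal subgroup of type V, so the orders of `W₁` and
`W₂` are prime for every maximal subgroup of type P; if `M` is of type II then `M_F` is elementary abelian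
of order `p ^ q`, `p = #W₂`, `q = #W₁`, and `S(M)` is coherent.
-/

set_option autoImplicit false

open Cfsg
open Cfsg.Agent.OddOrderCharacters.PFDefs

namespace Cfsg.Agent.OddOrderCharacters.PF10.Primes

universe u

/-- no type V: `U ≠ 1` for every maximal subgroup of type P -/
theorem typeP_U_ne {G : Type u} [Group G] [Finite G] {M W₁ U W₂ : Subgroup G}
    (hG : IsMinSimpleOddOrder G) (hM : IsCoatom M) (hP : IsTypePWith M W₁ U W₂) : U ≠ ⊥ :=
  fun h => TypeV.FTtype5_exclusion hG M hM (PF8.typeV_of_U_eq hG hM hP h)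

/-- A maximal subgroup of type P is of type II, III or IV. -/
theorem typeP_cases' {G : Type u} [Group G] [Finite G] {M : Subgroup G}
    (hG : IsMinSimpleOddOrder G) (hM : IsCoatom M) (hP : IsOfTypeP M) :
    IsOfTypeII M ∨ IsOfTypeIII M ∨ IsOfTypeIV M := by
  rcases PF8.typeP_cases hG hM hP with h | h | h | h
  · exact Or.inl h
  · exact Or.inr (Or.inl h)
  · exact Or.inr (Or.inr h)
  · exact absurd h (TypeV.FTtype5_exclusion hG M hM)

/-- (10.11)(a), EXPORTED -/
theorem FTtypeP_pair_primes {G : Type u} [Group G] [Finite G] {M W₁ U W₂ : Subgroup G}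
    (hG : IsMinSimpleOddOrder G) (hM : IsCoatom M) (hP : IsTypePWith M W₁ U W₂) :
    (Nat.card ↥W₁).Prime ∧ (Nat.card ↥W₂).Prime := by
  obtain ⟨T, V, hT, hPT, -⟩ := PF8.exists_partner hG hM hP
  exact TypeIISetup.pair_primes_of hP hPT (typeP_cases' hG hM ⟨W₁, U, W₂, hP⟩)
    (typeP_cases' hG hT ⟨W₂, V, W₁, hPT⟩)

/-- (10.11)(b), EXPORTED -/
theorem FTtypeII_prime_facts {G : Type u} [Group G] [Fintype G] {M W₁ U W₂ : Subgroup G}
    [Fintype ↥M] (hG : IsMinSimpleOddOrder G) (hM : IsCoatom M) (hP : IsTypePWith M W₁ U W₂)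
    (hII : IsOfTypeII M) :
    Nat.card ↥(fittingHallOf M) = Nat.card ↥W₂ ^ Nat.card ↥W₁ ∧
      (∀ x ∈ fittingHallOf M, x ^ Nat.card ↥W₂ = 1) ∧ IsMulCommutative (fittingHallOf M) ∧
      IsCoherent (seqIndOf M ⁅M, M⁆ (fittingHallOf M) ⊥) {1}ᶜ (tauOf M) := by
  have hp := (FTtypeP_pair_primes hG hM hP).2
  obtain ⟨hE, hc⟩ := TypeIISetup.kernel_facts hP hII hp
  have hodd : Odd (Nat.card M) := Odd.of_dvd_nat hG.1 (Subgroup.card_subgroup_dvd_card M)
  obtain ⟨C, hCU, hCc, -, s⟩ := TypeIISetup.exists_setup_bot hodd hP hII hp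
  refine ⟨hc, hE.2, hE.1, ?_⟩
  have h := PF9.Main.Ptype_core_coherence hG M W₁ U W₂ ⊥ C hM hP (Or.inl hII) bot_le hCU s
  have hCC : ⁅C, C⁆ = ⊥ := by
    rw [Subgroup.commutator_eq_bot_iff_le_centralizer]
    intro x hx
    rw [Subgroup.mem_centralizer_iff]
    intro y hy
    exact congrArg (Subtype.val : C → G) (hCc.is_comm.comm ⟨y, hy⟩ ⟨x, hx⟩)
  rwa [hCC, sup_bot_eq] at h

end Cfsg.Agent.OddOrderCharacters.PF10.Primes
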