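import Mathlib
import Cfsg.Agent.OddOrderCharacters.PF7Rho
import Cfsg.Agent.OddOrderCharacters.PF7Abstract
import Cfsg.Agent.OddOrderCharacters.PF7Bound
import Cfsg.Agent.OddOrderCharacters.PF10.Ctx
import Cfsg.Agent.OddOrderCharacters.PF10.Defs
import Cfsg.Agent.OddOrderCharacters.PF10.Bridge

/-!
# Peterfalvi (10.8): the norm of `(τ₁ ζ)^ρ`

With `χ = τ₁ ζ`, `χ^ρ = ζ` on `K \ {1}`, hence `‖χ^ρ‖² = 1 - w₁ / |K|`.
-/

set_option autoImplicit false
set_option linter.unusedSectionVars false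

open scoped ComplexConjugate
open Cfsg Cfsg.Agent.Characters.Core Cfsg.Agent.OddOrderCharacters.VChar
  Cfsg.Agent.OddOrderCharacters.PFDefs Cfsg.Agent.OddOrderCharacters.ColSum
  Cfsg.Agent.OddOrderCharacters.PF4b.TIFam
  Cfsg.Agent.OddOrderCharacters.PF10.Ctx Cfsg.Agent.OddOrderCharacters.PF10.Bridge

namespace Cfsg.Agent.OddOrderCharacters.PF10.RhoBound

universe u

/-- Restriction of the Dade hypothesis to a stable subset. -/
theorem dade_restrict {G : Type*} [Group G] {A B : Set G} {L : Subgroup G} {R : G → Subgroup G}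
    (hD : DadeHypothesis A L R) (hB : B ⊆ A) (hconj : ∀ x ∈ L, ∀ a ∈ B, x * a * x⁻¹ ∈ B) :
    DadeHypothesis B L R where
  one_not_mem := fun h => hD.one_not_mem (hB h)
  subset := fun _ h => hD.subset (hB h)
  conj_mem := hconj
  fusion := fun a ha g hg => hD.fusion a (hB ha) g (hB hg)
  le_centralizer := fun a ha => hD.le_centralizer a (hB ha)
  conj_mem_H := fun a ha => hD.conj_mem_H a (hB ha)
  inf_eq_bot := fun a ha => hD.inf_eq_bot a (hB ha)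
  sup_eq := fun a ha => hD.sup_eq a (hB ha)
  coprime := fun a ha b hb => hD.coprime a (hB ha) b (hB hb)

/-- An irreducible character constant on the group is principal. -/
theorem exists_ne_of_ne_one {H : Type*} [Group H] [Fintype H] {θ : H → ℂ}
    (hθ : IsIrrCharacter H θ) (h1 : θ ≠ fun _ => 1) : ∃ x, θ x ≠ θ 1 := by
  by_contra hcon
  push Not at hcon
  obtain ⟨m, hm, hm1⟩ := isIrr_apply_one hθ
  have h2 : classInner θ (fun _ => (1 : ℂ)) = 0 := classInner_irr_ne hθ isIrr_one h1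
  have h3 : θ = (θ 1) • (fun _ : H => (1 : ℂ)) := by
    funext x
    rw [Pi.smul_apply, smul_eq_mul, mul_one]
    exact hcon x
  have h4 : classInner (fun _ : H => (1 : ℂ)) (fun _ => 1) = 1 :=
    classInner_irr_self (isIrr_one (G := H))
  rw [h3, classInner_smul_left, h4, mul_one, hm1] at h2
  exact hm.ne' (by exact_mod_cast h2)

/-- The two descriptions of the set `S`. -/
theorem seqIndOf_eq {G : Type*} [Group G] [Finite G] {L K : Subgroup G} [Fintype ↥L] :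
    seqIndOf L K K ⊥ = inducedIrrAbove (K.subgroupOf L) ⊥ := by
  have : Fintype ↥(K.subgroupOf L) := Fintype.ofFinite _
  ext φ
  constructor
  · rintro ⟨θ, hθ, ⟨x, -, hx⟩, -, rfl⟩
    refine ⟨θ, hθ, ?_, fun a ha => ?_, rfl⟩
    · rintro rfl
      exact hx rfl
    · have : a = 1 := Subtype.ext (Subgroup.mem_bot.1 ha)
      rw [this]
  · rintro ⟨θ, hθ, h1, -, rfl⟩
    obtain ⟨x, hx⟩ := exists_ne_of_ne_one hθ h1
    refine ⟨θ, hθ, ⟨x, x.2, hx⟩, fun a ha => ?_, rfl⟩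
    have : a = 1 := by
      apply Subtype.ext
      apply Subtype.ext
      exact Subgroup.mem_bot.1 (Subgroup.mem_subgroupOf.1 ha)
    rw [this]

variable {G : Type u} [Group G] [Fintype G] {L K W W₁ W₂ : Subgroup G} [Fintype ↥L]
  {A A₀ : Set G} {R : G → Subgroup G}
  {μ : (↥W →* ℂˣ) → (↥L → ℂ)} {δ : (↥W →* ℂˣ) → ℤ} {η : (↥W →* ℂˣ) → (G → ℂ)} {ζ : ↥L → ℂ}
  {d : ℕ} {e n : ℤ}

theorem mem_sharp_iff (hD : PrimeDadeHyp L K K A A₀ W W₁ W₂ R) (x : ↥L) :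
    x ∈ PF7Abstract.sharp (K.subgroupOf L) ↔ (x : G) ∈ A := by
  rw [mem_A_iff hD]
  constructor
  · rintro ⟨h1, h2⟩
    exact ⟨Subgroup.mem_subgroupOf.mp h1, fun h => h2 (Subtype.ext h)⟩
  · rintro ⟨h1, h2⟩
    exact ⟨Subgroup.mem_subgroupOf.mpr h1, fun h => h2 (by rw [h]; rfl)⟩

theorem dade_A (hD : PrimeDadeHyp L K K A A₀ W W₁ W₂ R) : DadeHypothesis A L R :=
  dade_restrict hD.dade (A_subset_A₀ hD) hD.A_normal

theorem rho_eq_of_mem (hD : PrimeDadeHyp L K K A A₀ W W₁ W₂ R) (χ : G → ℂ) {a : ↥L}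
    (ha : (a : G) ∈ A) : rho A₀ L R χ a = rho A L R χ a := by
  rw [PF7Rho.rho_of_mem χ ha, PF7Rho.rho_of_mem χ (A_subset_A₀ hD ha)]

/-- The Dade map for `A₀` and the map `ρ` for `A = K \ {1}` form an adjoint pair. -/
theorem adjPair (hD : PrimeDadeHyp L K K A A₀ W W₁ W₂ R) :
    PF7Abstract.AdjPair (PF7Abstract.sharp (K.subgroupOf L)) (dadeIsometry A₀ L R)
      (rho A L R) := by
  have hsupp : ∀ {α : ↥L → ℂ}, (∀ x, x ∉ PF7Abstract.sharp (K.subgroupOf L) → α x = 0) →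
      ∀ x : ↥L, (x : G) ∉ A₀ → α x = 0 := fun h x hx =>
    h x (fun h' => hx (A_subset_A₀ hD ((mem_sharp_iff hD x).mp h')))
  refine ⟨?_, ?_, ?_, ?_, ?_, ?_⟩
  · intro α hα h0 χ hχ
    rw [PF7Rho.dade_reciprocity hD.dade hα (hsupp h0) hχ]
    exact PF7Abstract.inner_congr_of_supp h0 fun x hx =>
      rho_eq_of_mem hD χ ((mem_sharp_iff hD x).mp hx)
  · intro α hα h0 β hβ h0'
    exact DadeBasic.classInner_dadeIsometry hD.dade hα (hsupp h0) hβ
  · intro α hα _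
    exact DadeBasic.dadeIsometry_isClassFunction hD.dade hα
  · intro χ hχ
    exact PF7Rho.rho_isClassFunction (dade_A hD) hχ
  · intro χ x hx
    exact PF7Rho.rho_of_notMem χ (fun h => hx ((mem_sharp_iff hD x).mpr h))
  · intro x hx
    exact PF7Rho.rho_one ((mem_sharp_iff hD x).mp hx)

theorem index_eq (hD : PrimeDadeHyp L K K A A₀ W W₁ W₂ R) :
    (K.subgroupOf L).index = Nat.card W₁ := by
  have h1 := card_L hD.primeTI
  have h2 := (K.subgroupOf L).card_mul_index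
  have h3 : Nat.card ↥(K.subgroupOf L) = Nat.card K :=
    Nat.card_congr (Subgroup.subgroupOfEquivOfLe hD.primeTI.le).toEquiv
  rw [h3, h1] at h2
  exact Nat.eq_of_mul_eq_mul_left Nat.card_pos h2

theorem indOne_eq (hμ : PrimeTIFam L K W W₁ W₂ μ δ) :
    PF7Abstract.indOne (K.subgroupOf L) = colSum W W₂ μ 1 := by
  rw [← hμ.ind_restrict 1, hμ.map_one, PF7Abstract.indOne_def]

/-- with `χ = τ₁ ζ`: `‖χ^ρ‖² = 1 - w₁ / |K|`. -/
theorem norm_rho_eq (h : Ctx.Hyp L K W W₁ W₂ A A₀ R μ δ η d e n) (hζ : Defs.IsZeta L K W₁ ζ)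
    {τ₁ : (↥L → ℂ) → (G → ℂ)} (hτ₁ : Defs.IsCohExt (seqIndOf L K K ⊥) (dadeIsometry A₀ L R) τ₁) :
    classInner (rho A L R (τ₁ ζ)) (rho A L R (τ₁ ζ)) =
      1 - (Nat.card ↥W₁ : ℂ) / Nat.card ↥K := by
  have : (K.subgroupOf L).Normal := K_normal h.hD.primeTI
  obtain ⟨hiso, hext⟩ := hτ₁
  have hχ := coh_isChi h hζ (τ₁ := τ₁) ⟨hiso, hext⟩
  have hmem := hζ.mem
  rw [seqIndOf_eq] at hiso hext hmem
  have hβ : classInner (PF7Abstract.beta (K.subgroupOf L) (dadeIsometry A₀ L R) ζ) (τ₁ ζ) =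
      ((0 : ℤ) : ℂ) - 1 := by
    rw [PF7Abstract.beta_def, indOne_eq h.hμ, hχ.eq, classInner_sub_left, hχ.norm]
    have h0 : classInner (colSum W W₂ η 1) (τ₁ ζ) = 0 := by
      rw [inner_colSum_left (direct h.hD)]
      exact Finset.sum_eq_zero fun φ _ => classInner_comm_eq_zero (hχ.ortho _)
    rw [h0, Int.cast_zero]
  have h1 := PF7Bound.norm_rho_nu (adjPair h.hD) hiso hext hmem hζ.irr
    (by rw [hζ.deg, index_eq h.hD]) (a := 0) hβ
  rw [h1, index_eq h.hD]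
  have h3 : Nat.card ↥(K.subgroupOf L) = Nat.card K :=
    Nat.card_congr (Subgroup.subgroupOfEquivOfLe h.hD.primeTI.le).toEquiv
  rw [h3]
  simp

/-- from (7.8)(b) and (10.6): with `χ = τ₁ ζ`, `χ^ρ = ζ` on `K#`; hence the lower bound. -/
theorem norm_rho_ge (h : Ctx.Hyp L K W W₁ W₂ A A₀ R μ δ η d e n) (hζ : Defs.IsZeta L K W₁ ζ)
    {τ₁ : (↥L → ℂ) → (G → ℂ)} (hτ₁ : Defs.IsCohExt (seqIndOf L K K ⊥) (dadeIsometry A₀ L R) τ₁) :
    1 - (Nat.card ↥W₁ : ℝ) / Nat.card ↥K ≤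
      (classInner (rho A L R (τ₁ ζ)) (rho A L R (τ₁ ζ))).re := by
  rw [norm_rho_eq h hζ hτ₁]
  have : (1 - (Nat.card ↥W₁ : ℂ) / Nat.card ↥K) =
      ((1 - (Nat.card ↥W₁ : ℝ) / Nat.card ↥K : ℝ) : ℂ) := by
    push_cast; rfl
  rw [this, Complex.ofReal_re]

end Cfsg.Agent.OddOrderCharacters.PF10.RhoBound
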